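import Groth.Agent.SegreLC.Cx

/-!
A complex over a field is homotopic to its cohomology.
-/

set_option autoImplicit false
set_option linter.unusedSectionVars false
universe u

open scoped Classical

noncomputable section

namespace Groth.Agent.SegreLC

variable {k : Type u} [Field k]

lemma exists_gen_inverse {V W : Type u} [AddCommGroup V] [Module k V] [AddCommGroup W] [Module k W]
    (f : V →ₗ[k] W) : ∃ g : W →ₗ[k] V, ∀ v, f (g (f v)) = f v := by
  obtain ⟨s, hs⟩ := f.rangeRestrict.exists_rightInverse_of_surjective f.range_rangeRestrict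
  obtain ⟨r, hr⟩ := Submodule.exists_isCompl (LinearMap.range f)
  refine ⟨s ∘ₗ Submodule.projectionOnto (LinearMap.range f) r hr, fun v => ?_⟩
  have h1 : Submodule.projectionOnto (LinearMap.range f) r hr (f v) = ⟨f v, LinearMap.mem_range_self f v⟩ :=
    Submodule.projectionOnto_apply_left hr ⟨f v, LinearMap.mem_range_self f v⟩
  rw [LinearMap.comp_apply, h1]
  exact congrArg Subtype.val (LinearMap.congr_fun hs ⟨f v, LinearMap.mem_range_self f v⟩)

namespace Cx

variable (C : Cx k)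

/-- A generalised inverse of a differential. -/
def h (n : ℕ) : C.V (n + 1) →ₗ[k] C.V n := (exists_gen_inverse (C.d n)).choose

lemma d_h_d (n : ℕ) (v : C.V n) : C.d n (C.h n (C.d n v)) = C.d n v :=
  (exists_gen_inverse (C.d n)).choose_spec v

/-- The homotopy idempotent. -/
def π : ∀ n, C.V n →ₗ[k] C.V n
  | 0 => LinearMap.id - C.h 0 ∘ₗ C.d 0
  | n + 1 => LinearMap.id - C.d n ∘ₗ C.h n - C.h (n + 1) ∘ₗ C.d (n + 1)

lemma π_zero (v : C.V 0) : C.π 0 v = v - C.h 0 (C.d 0 v) := rfl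

lemma π_succ (n : ℕ) (v : C.V (n + 1)) :
    C.π (n + 1) v = v - C.d n (C.h n v) - C.h (n + 1) (C.d (n + 1) v) := rfl

lemma d_π : ∀ n (v : C.V n), C.d n (C.π n v) = 0
  | 0, v => by rw [π_zero, map_sub, d_h_d, sub_self]
  | n + 1, v => by rw [π_succ, map_sub, map_sub, C.d_d, d_h_d, sub_zero, sub_self]

lemma π_d (n : ℕ) (v : C.V n) : C.π (n + 1) (C.d n v) = 0 := by
  rw [π_succ, d_h_d, C.d_d, map_zero, sub_self, sub_zero]

lemma sub_π_mem : ∀ {n} {z : C.V n}, z ∈ C.Z n → z - C.π n z ∈ C.B n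
  | 0, z, hz => by
    rw [π_zero, show C.d 0 z = 0 from hz, map_zero, sub_zero, sub_self]
    exact zero_mem _
  | n + 1, z, hz => ⟨C.h n z, by
    rw [π_succ, show C.d (n + 1) z = 0 from hz, map_zero]
    abel⟩

lemma π_of_mem_B : ∀ {n} {z : C.V n}, z ∈ C.B n → C.π n z = 0
  | 0, z, hz => by rw [(Submodule.mem_bot k).1 hz, map_zero]
  | n + 1, _, ⟨v, rfl⟩ => C.π_d n v

/-- The idempotent as a cycle. -/
def πZ (n : ℕ) : C.V n →ₗ[k] C.Z n := (C.π n).codRestrict _ (C.d_π n)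

/-- The class of an element. -/
def q (n : ℕ) : C.V n →ₗ[k] C.Coh n := C.cls n ∘ₗ C.πZ n

lemma q_of_mem {n : ℕ} (z : C.Z n) : C.q n z.1 = C.cls n z := by
  refine ((Submodule.Quotient.eq _).2 ?_).symm
  exact C.sub_π_mem z.2

lemma q_d (n : ℕ) (v : C.V n) : C.q (n + 1) (C.d n v) = 0 := by
  rw [q, LinearMap.comp_apply, show C.πZ (n + 1) (C.d n v) = 0 from Subtype.ext (C.π_d n v), map_zero]

/-- The representative of a class. -/
def rep (n : ℕ) : C.Coh n →ₗ[k] C.V n :=
  Submodule.liftQ _ (C.π n ∘ₗ (C.Z n).subtype) fun z hz => C.π_of_mem_B hz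

lemma rep_q (n : ℕ) (v : C.V n) : C.rep n (C.q n v) = C.π n (C.π n v) := rfl

lemma q_surjective (n : ℕ) : Function.Surjective (C.q n) := fun y => by
  obtain ⟨z, rfl⟩ := C.cls_surjective n y
  exact ⟨z.1, C.q_of_mem z⟩

end Cx

end Groth.Agent.SegreLC
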