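import Groth.Prelude.Def_GrLC
import Groth.Agent.GrLCLib.Basic
import Mathlib

/-!
Graded modules over a graded algebra, as vector spaces degree by degree.
-/

set_option autoImplicit false
set_option linter.unusedSectionVars false
universe u

open scoped Classical
open DirectSum Groth.Agent.GrLCLib

noncomputable section

namespace Groth.Agent.SegreLC

variable {k : Type u} [Field k] {R : Type u} [CommRing R] [Algebra k R] {𝒜 : ℤ → Submodule k R} [GradedAlgebra 𝒜]

/-- The scalar structure on a bundled graded module. -/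
instance kMod (X : GrLC.GMod.{u} 𝒜) : Module k X.carrier := Module.compHom X.carrier (algebraMap k R)

instance kTower (X : GrLC.GMod.{u} 𝒜) : IsScalarTower k R X.carrier :=
  IsScalarTower.of_algebraMap_smul fun _ _ => rfl

section Piece

variable (𝒜) {M : Type u} [AddCommGroup M] [Module R M] [Module k M] [IsScalarTower k R M]
  {τ : Type u} [SetLike τ M] [AddSubgroupClass τ M] (ℳ : ℤ → τ) [DirectSum.Decomposition ℳ] [SetLike.GradedSMul 𝒜 ℳ]

include 𝒜 in
lemma k_smul_mem {g : ℤ} (c : k) {x : M} (hx : x ∈ ℳ g) : c • x ∈ ℳ g := by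
  rw [← algebraMap_smul R c x]
  have h := GrLCLib.smul_mem 𝒜 ℳ (SetLike.algebraMap_mem_graded 𝒜 c) hx
  rwa [zero_add] at h

include 𝒜 in
lemma pr_k_smul (g : ℤ) (c : k) (x : M) : pr ℳ g (c • x) = c • pr ℳ g x := by
  rw [← algebraMap_smul R c x, ← algebraMap_smul R c (pr ℳ g x),
    GrLCLib.pr_smul 𝒜 ℳ (SetLike.algebraMap_mem_graded 𝒜 c), sub_zero]

/-- A piece as a subspace. -/
def kpiece (g : ℤ) : Submodule k M where
  carrier := ℳ g
  add_mem' := add_mem
  zero_mem' := zero_mem _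
  smul_mem' c _ hx := k_smul_mem 𝒜 ℳ c hx

lemma mem_kpiece {g : ℤ} {x : M} : x ∈ kpiece 𝒜 ℳ g ↔ x ∈ ℳ g := Iff.rfl

/-- The projection to a piece, linearly. -/
def prK (g : ℤ) : M →ₗ[k] M where
  toFun := pr ℳ g
  map_add' := map_add (pr ℳ g)
  map_smul' := pr_k_smul 𝒜 ℳ g

lemma prK_of_mem {g : ℤ} {x : M} (hx : x ∈ ℳ g) : prK 𝒜 ℳ g x = x := pr_of_mem ℳ hx

lemma prK_of_ne {g h : ℤ} {x : M} (hx : x ∈ ℳ h) (hne : h ≠ g) : prK 𝒜 ℳ g x = 0 := pr_of_mem_ne ℳ hx hne

end Piece

/-- A linear map of graded modules, over the field. -/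
def kLin {M N : Type u} [AddCommGroup M] [Module R M] [Module k M] [IsScalarTower k R M] [AddCommGroup N]
    [Module R N] [Module k N] [IsScalarTower k R N] (f : M →ₗ[R] N) : M →ₗ[k] N := f.restrictScalars k

lemma kLin_apply {M N : Type u} [AddCommGroup M] [Module R M] [Module k M] [IsScalarTower k R M] [AddCommGroup N]
    [Module R N] [Module k N] [IsScalarTower k R N] (f : M →ₗ[R] N) (x : M) :
    kLin (k := k) f x = f x := rfl

/-- The map of pieces induced by a homogeneous map. -/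
def kpieceMap {M N : Type u} [AddCommGroup M] [Module R M] [Module k M] [IsScalarTower k R M]
    {τ : Type u} [SetLike τ M] [AddSubgroupClass τ M] {ℳ : ℤ → τ} [DirectSum.Decomposition ℳ] [SetLike.GradedSMul 𝒜 ℳ]
    [AddCommGroup N] [Module R N] [Module k N] [IsScalarTower k R N]
    {τ' : Type u} [SetLike τ' N] [AddSubgroupClass τ' N] {𝒩 : ℤ → τ'} [DirectSum.Decomposition 𝒩] [SetLike.GradedSMul 𝒜 𝒩]
    (f : M →ₗ[R] N) (hf : GrLC.IsGrHom ℳ 𝒩 f) (g : ℤ) : kpiece 𝒜 ℳ g →ₗ[k] kpiece 𝒜 𝒩 g :=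
  (kLin f ∘ₗ (kpiece 𝒜 ℳ g).subtype).codRestrict _ fun x => hf g x.1 x.2

/-- The degree zero subring is the field. -/
def deg0Equiv [Nontrivial R] (h0 : 𝒜 0 = Submodule.span k {(1 : R)}) : k ≃+* GrLC.deg0 𝒜 :=
  RingEquiv.ofBijective
    ((algebraMap k R).codRestrict (GrLC.deg0 𝒜) fun c => SetLike.algebraMap_mem_graded 𝒜 c)
    ⟨fun _ _ h => (algebraMap k R).injective (congrArg Subtype.val h), fun r => by
      obtain ⟨c, hc⟩ := Submodule.mem_span_singleton.1 (h0 ▸ r.2 : (r : R) ∈ Submodule.span k {(1 : R)})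
      exact ⟨c, Subtype.ext ((Algebra.algebraMap_eq_smul_one c).trans hc)⟩⟩

lemma deg0Equiv_coe [Nontrivial R] (h0 : 𝒜 0 = Submodule.span k {(1 : R)}) (c : k) :
    ((deg0Equiv h0 c : GrLC.deg0 𝒜) : R) = algebraMap k R c := rfl

/-- Dimensions over the degree zero subring are dimensions over the field. -/
theorem finrank_deg0 [Nontrivial R] (h0 : 𝒜 0 = Submodule.span k {(1 : R)}) {M : Type u} [AddCommGroup M] [Module R M]
    [Module k M] [IsScalarTower k R M] (V : Submodule k M) (W : Submodule (GrLC.deg0 𝒜) M)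
    (h : (V : Set M) = W) : Module.finrank (GrLC.deg0 𝒜) W = Module.finrank k V := by
  let e : V ≃+ W :=
    { toFun := fun x => ⟨x.1, h.le x.2⟩
      invFun := fun x => ⟨x.1, h.ge x.2⟩
      map_add' := fun _ _ => rfl }
  refine (congrArg Cardinal.toNat (rank_eq_of_equiv_equiv (deg0Equiv h0) e (deg0Equiv h0).bijective
    fun c x => Subtype.ext ?_)).symm
  exact (algebraMap_smul R c (x : M)).symm

end Groth.Agent.SegreLC
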