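import Groth.Prelude.Def_GrSeg
import Groth.Agent.SegreLC.Kpiece
import Groth.Agent.SegreLC.Htpy

/-!
The Segre product of graded modules, as a functor.
-/

set_option autoImplicit false
set_option linter.unusedSectionVars false
set_option backward.isDefEq.respectTransparency false
set_option backward.isDefEq.respectTransparency.types false
universe u

open scoped Classical TensorProduct
open DirectSum Groth.Agent.GrLCLib

noncomputable section

namespace Groth.Agent.SegreLC

variable {k : Type u} [Field k] {R : Type u} [CommRing R] [Algebra k R] {S : Type u} [CommRing S] [Algebra k S]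
  {T : Type u} [CommRing T] [Algebra k T]

/-- A presentation of a Segre product of graded algebras. -/
structure Datum (𝒜 : ℤ → Submodule k R) [GradedAlgebra 𝒜] (ℬ : ℤ → Submodule k S) [GradedAlgebra ℬ]
    (𝒯 : ℤ → Submodule k T) [GradedAlgebra 𝒯] where
  ψ : T →ₐ[k] R ⊗[k] S
  hT : GrSeg.IsSegreRing 𝒜 ℬ 𝒯 ψ

variable {𝒜 : ℤ → Submodule k R} [GradedAlgebra 𝒜] {ℬ : ℤ → Submodule k S} [GradedAlgebra ℬ]
  {𝒯 : ℤ → Submodule k T} [GradedAlgebra 𝒯]

section Act

variable {M N : Type u} [AddCommGroup M] [Module R M] [Module k M] [IsScalarTower k R M]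
  [AddCommGroup N] [Module S N] [Module k N] [IsScalarTower k S N]

lemma act_mul (a b : R ⊗[k] S) (w : M ⊗[k] N) :
    GrSeg.act k R S M N (a * b) w = GrSeg.act k R S M N a (GrSeg.act k R S M N b w) := by
  induction w using TensorProduct.induction_on with
  | zero => simp
  | add u v hu hv => simp only [map_add, hu, hv]
  | tmul m n =>
    induction a using TensorProduct.induction_on with
    | zero => simp
    | add u v hu hv => simp only [add_mul, map_add, LinearMap.add_apply, hu, hv]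
    | tmul r s =>
      induction b using TensorProduct.induction_on with
      | zero => simp
      | add u v hu hv => simp only [mul_add, map_add, LinearMap.add_apply, hu, hv]
      | tmul r' s' =>
        rw [Algebra.TensorProduct.tmul_mul_tmul, GrSeg.act_tmul, GrSeg.act_tmul, GrSeg.act_tmul, mul_smul, mul_smul]

lemma act_algebraMap (c : k) (w : M ⊗[k] N) :
    GrSeg.act k R S M N (algebraMap k (R ⊗[k] S) c) w = c • w := by
  rw [Algebra.TensorProduct.algebraMap_apply]
  induction w using TensorProduct.induction_on with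
  | zero => simp
  | add u v hu hv => simp only [map_add, smul_add, hu, hv]
  | tmul m n => rw [GrSeg.act_tmul, one_smul, algebraMap_smul, TensorProduct.smul_tmul']

lemma act_one (w : M ⊗[k] N) : GrSeg.act k R S M N 1 w = w := by
  rw [← (algebraMap k (R ⊗[k] S)).map_one, act_algebraMap, one_smul]

lemma map_act {M' N' : Type u} [AddCommGroup M'] [Module R M'] [Module k M'] [IsScalarTower k R M']
    [AddCommGroup N'] [Module S N'] [Module k N'] [IsScalarTower k S N'] (f : M →ₗ[R] M') (g : N →ₗ[S] N')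
    (a : R ⊗[k] S) (w : M ⊗[k] N) :
    TensorProduct.map (kLin f) (kLin g) (GrSeg.act k R S M N a w) =
      GrSeg.act k R S M' N' a (TensorProduct.map (kLin f) (kLin g) w) := by
  induction w using TensorProduct.induction_on with
  | zero => simp
  | add u v hu hv => simp only [map_add, hu, hv]
  | tmul m n =>
    induction a using TensorProduct.induction_on with
    | zero => simp
    | add u v hu hv => simp only [map_add, LinearMap.add_apply, hu, hv]
    | tmul r s =>
      rw [TensorProduct.map_tmul, GrSeg.act_tmul, GrSeg.act_tmul, TensorProduct.map_tmul]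
      simp only [kLin_apply, map_smul]

end Act

/-- The piece of degree `d` inside the tensor product. -/
abbrev sp (X : GrLC.GMod.{u} 𝒜) (Y : GrLC.GMod.{u} ℬ) (d : ℤ) : Submodule k (X.carrier ⊗[k] Y.carrier) :=
  GrSeg.segrePiece k X.gr Y.gr d

/-- The union of the pieces. -/
def segSub (X : GrLC.GMod.{u} 𝒜) (Y : GrLC.GMod.{u} ℬ) : Submodule k (X.carrier ⊗[k] Y.carrier) := ⨆ d, sp X Y d

/-- The inclusion of a piece. -/
def emb (X : GrLC.GMod.{u} 𝒜) (Y : GrLC.GMod.{u} ℬ) (d : ℤ) :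
    kpiece 𝒜 X.gr d ⊗[k] kpiece ℬ Y.gr d →ₗ[k] X.carrier ⊗[k] Y.carrier :=
  TensorProduct.map (kpiece 𝒜 X.gr d).subtype (kpiece ℬ Y.gr d).subtype

lemma emb_tmul (X : GrLC.GMod.{u} 𝒜) (Y : GrLC.GMod.{u} ℬ) (d : ℤ) (x : kpiece 𝒜 X.gr d) (y : kpiece ℬ Y.gr d) :
    emb X Y d (x ⊗ₜ y) = (x : X.carrier) ⊗ₜ (y : Y.carrier) := rfl

lemma emb_injective (X : GrLC.GMod.{u} 𝒜) (Y : GrLC.GMod.{u} ℬ) (d : ℤ) : Function.Injective (emb X Y d) :=
  TensorProduct.map_injective_of_flat_flat _ _ (Submodule.injective_subtype _) (Submodule.injective_subtype _)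

lemma range_emb (X : GrLC.GMod.{u} 𝒜) (Y : GrLC.GMod.{u} ℬ) (d : ℤ) : LinearMap.range (emb X Y d) = sp X Y d := by
  refine le_antisymm ?_ (Submodule.span_le.2 ?_)
  · rintro _ ⟨w, rfl⟩
    induction w using TensorProduct.induction_on with
    | zero => rw [map_zero]; exact zero_mem _
    | add u v hu hv => rw [map_add]; exact add_mem hu hv
    | tmul x y => exact Submodule.subset_span ⟨x.1, x.2, y.1, y.2, rfl⟩
  · rintro _ ⟨x, hx, y, hy, rfl⟩
    exact ⟨(⟨x, hx⟩ : kpiece 𝒜 X.gr d) ⊗ₜ (⟨y, hy⟩ : kpiece ℬ Y.gr d), rfl⟩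

/-- The projection to the piece of degree `d`. -/
def prT (X : GrLC.GMod.{u} 𝒜) (Y : GrLC.GMod.{u} ℬ) (d : ℤ) : X.carrier ⊗[k] Y.carrier →ₗ[k] X.carrier ⊗[k] Y.carrier :=
  TensorProduct.map (prK 𝒜 X.gr d) (prK ℬ Y.gr d)

lemma prT_of_mem (X : GrLC.GMod.{u} 𝒜) (Y : GrLC.GMod.{u} ℬ) {d : ℤ} {w : X.carrier ⊗[k] Y.carrier}
    (hw : w ∈ sp X Y d) : prT X Y d w = w := by
  induction hw using Submodule.span_induction with
  | mem z hz =>
    obtain ⟨x, hx, y, hy, rfl⟩ := hz
    rw [prT, TensorProduct.map_tmul, prK_of_mem 𝒜 X.gr hx, prK_of_mem ℬ Y.gr hy]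
  | zero => exact map_zero _
  | add u v _ _ hu hv => rw [map_add, hu, hv]
  | smul c u _ hu => rw [map_smul, hu]

lemma prT_of_ne (X : GrLC.GMod.{u} 𝒜) (Y : GrLC.GMod.{u} ℬ) {d e : ℤ} {w : X.carrier ⊗[k] Y.carrier}
    (hw : w ∈ sp X Y e) (hne : e ≠ d) : prT X Y d w = 0 := by
  induction hw using Submodule.span_induction with
  | mem z hz =>
    obtain ⟨x, hx, y, hy, rfl⟩ := hz
    rw [prT, TensorProduct.map_tmul, prK_of_ne 𝒜 X.gr hx hne, TensorProduct.zero_tmul]
  | zero => exact map_zero _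
  | add u v _ _ hu hv => rw [map_add, hu, hv, add_zero]
  | smul c u _ hu => rw [map_smul, hu, smul_zero]

variable (D : Datum 𝒜 ℬ 𝒯)

include D in
lemma Datum.ψ_mem {e : ℤ} {t : T} (ht : t ∈ 𝒯 e) : D.ψ t ∈ GrSeg.segrePiece k 𝒜 ℬ e := by
  rw [← D.hT.2 e]; exact Submodule.mem_map_of_mem ht

include D in
lemma Datum.exists_preimage {e : ℤ} {a : R} (ha : a ∈ 𝒜 e) {b : S} (hb : b ∈ ℬ e) :
    ∃ t ∈ 𝒯 e, D.ψ t = a ⊗ₜ[k] b := by
  have : a ⊗ₜ[k] b ∈ (𝒯 e).map D.ψ.toLinearMap := by
    rw [D.hT.2 e]; exact Submodule.subset_span ⟨a, ha, b, hb, rfl⟩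
  exact this

variable (X : GrLC.GMod.{u} 𝒜) (Y : GrLC.GMod.{u} ℬ)

lemma act_mem_sp {e d : ℤ} {t : R ⊗[k] S} (ht : t ∈ GrSeg.segrePiece k 𝒜 ℬ e) {w : X.carrier ⊗[k] Y.carrier}
    (hw : w ∈ sp X Y d) : GrSeg.act k R S X.carrier Y.carrier t w ∈ sp X Y (e + d) := by
  induction ht using Submodule.span_induction with
  | mem z hz =>
    obtain ⟨a, ha, b, hb, rfl⟩ := hz
    induction hw using Submodule.span_induction with
    | mem z hz =>
      obtain ⟨x, hx, y, hy, rfl⟩ := hz
      rw [GrSeg.act_tmul]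
      exact Submodule.subset_span ⟨_, GrLCLib.smul_mem 𝒜 X.gr ha hx, _, GrLCLib.smul_mem ℬ Y.gr hb hy, rfl⟩
    | zero => rw [map_zero]; exact zero_mem _
    | add u v _ _ hu hv => rw [map_add]; exact add_mem hu hv
    | smul c u _ hu => rw [map_smul]; exact Submodule.smul_mem _ c hu
  | zero => rw [map_zero, LinearMap.zero_apply]; exact zero_mem _
  | add u v _ _ hu hv => rw [map_add, LinearMap.add_apply]; exact add_mem hu hv
  | smul c u _ hu => rw [map_smul, LinearMap.smul_apply]; exact Submodule.smul_mem _ c hu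

include D in
lemma act_mem_segSub (t : T) {w : X.carrier ⊗[k] Y.carrier} (hw : w ∈ segSub X Y) :
    GrSeg.act k R S X.carrier Y.carrier (D.ψ t) w ∈ segSub X Y := by
  refine Submodule.iSup_induction _
    (motive := fun w => GrSeg.act k R S X.carrier Y.carrier (D.ψ t) w ∈ segSub X Y) hw (fun d w hw => ?_)
    (by rw [map_zero]; exact zero_mem _) (fun u v hu hv => by rw [map_add]; exact add_mem hu hv)
  induction t using DirectSum.Decomposition.inductionOn 𝒯 with
  | zero => rw [map_zero, map_zero, LinearMap.zero_apply]; exact zero_mem _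
  | @homogeneous e s => exact Submodule.mem_iSup_of_mem (e + d) (act_mem_sp X Y (D.ψ_mem s.2) hw)
  | add a b ha hb => rw [map_add, map_add, LinearMap.add_apply]; exact add_mem ha hb

/-- The Segre product of two graded modules. -/
def Sg (_D : Datum 𝒜 ℬ 𝒯) (X : GrLC.GMod.{u} 𝒜) (Y : GrLC.GMod.{u} ℬ) : Type u := ↥(segSub X Y)

instance : AddCommGroup (Sg D X Y) := inferInstanceAs (AddCommGroup ↥(segSub X Y))

instance : Module k (Sg D X Y) := inferInstanceAs (Module k ↥(segSub X Y))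

/-- The value in the tensor product. -/
def sval : Sg D X Y →ₗ[k] X.carrier ⊗[k] Y.carrier := (segSub X Y).subtype

lemma sval_injective : Function.Injective (sval D X Y) := Submodule.injective_subtype _

lemma sval_mem (w : Sg D X Y) : sval D X Y w ∈ segSub X Y := w.2

instance : SMul T (Sg D X Y) :=
  ⟨fun t w => ⟨GrSeg.act k R S X.carrier Y.carrier (D.ψ t) (sval D X Y w), act_mem_segSub D X Y t w.2⟩⟩

lemma sval_smul (t : T) (w : Sg D X Y) :
    sval D X Y (t • w) = GrSeg.act k R S X.carrier Y.carrier (D.ψ t) (sval D X Y w) := rfl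

instance : Module T (Sg D X Y) where
  one_smul w := sval_injective D X Y (by rw [sval_smul, map_one, act_one])
  mul_smul a b w := sval_injective D X Y (by rw [sval_smul, sval_smul, sval_smul, map_mul, act_mul])
  smul_zero a := sval_injective D X Y (by rw [sval_smul, map_zero, map_zero])
  smul_add a x y := sval_injective D X Y (by rw [sval_smul, map_add, map_add, map_add, sval_smul, sval_smul])
  add_smul a b x := sval_injective D X Y (by
    rw [sval_smul, map_add, map_add, LinearMap.add_apply, map_add, sval_smul, sval_smul])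
  zero_smul x := sval_injective D X Y (by rw [sval_smul, map_zero, map_zero, LinearMap.zero_apply, map_zero])

instance : IsScalarTower k T (Sg D X Y) :=
  IsScalarTower.of_algebraMap_smul fun c w => sval_injective D X Y (by
    rw [sval_smul, D.ψ.commutes, act_algebraMap, map_smul])

/-- The pieces of the Segre product. -/
def sgPiece (d : ℤ) : AddSubgroup (Sg D X Y) := (sp X Y d).toAddSubgroup.comap (sval D X Y).toAddMonoidHom

lemma mem_sgPiece {d : ℤ} {w : Sg D X Y} : w ∈ sgPiece D X Y d ↔ sval D X Y w ∈ sp X Y d := Iff.rfl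

instance : SetLike.GradedSMul 𝒯 (sgPiece D X Y) :=
  ⟨fun {i j t w} ht hw => by
    show sval D X Y (t • w) ∈ sp X Y (i +ᵥ j)
    rw [sval_smul, vadd_eq_add]
    exact act_mem_sp X Y (D.ψ_mem ht) hw⟩

lemma isInternal_sgPiece : DirectSum.IsInternal (sgPiece D X Y) := by
  have key : ∀ (w : ⨁ d, sgPiece D X Y d) (d : ℤ),
      prT X Y d (sval D X Y (DirectSum.coeAddMonoidHom (sgPiece D X Y) w)) = sval D X Y (w d : Sg D X Y) := by
    intro w d
    induction w using DirectSum.induction_on with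
    | zero => simp
    | of e v =>
      rw [DirectSum.coeAddMonoidHom_of]
      by_cases h : e = d
      · subst h; rw [DirectSum.of_eq_same]; exact prT_of_mem X Y (d := e) v.2
      · rw [DirectSum.of_eq_of_ne _ _ _ (Ne.symm h)]
        exact (prT_of_ne X Y (e := e) v.2 h).trans (map_zero _).symm
    | add a b ha hb => simp only [map_add, DirectSum.add_apply, AddSubgroup.coe_add, ha, hb]
  refine ⟨fun a b h => DFinsupp.ext fun d => Subtype.ext (sval_injective D X Y ?_), fun z => ?_⟩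
  · rw [← key a d, ← key b d, h]
  · suffices ∀ w (hw : w ∈ segSub X Y), ∃ a, DirectSum.coeAddMonoidHom (sgPiece D X Y) a = (⟨w, hw⟩ : Sg D X Y) from
      this _ z.2
    intro w hw
    suffices h : ∃ a, sval D X Y (DirectSum.coeAddMonoidHom (sgPiece D X Y) a) = w by
      obtain ⟨a, ha⟩ := h
      exact ⟨a, sval_injective D X Y ha⟩
    refine Submodule.iSup_induction _
      (motive := fun w => ∃ a, sval D X Y (DirectSum.coeAddMonoidHom (sgPiece D X Y) a) = w) hw (fun d w hw => ?_)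
      ⟨0, by rw [map_zero, map_zero]⟩ ?_
    · refine ⟨DirectSum.of (fun d => sgPiece D X Y d) d ⟨⟨w, Submodule.mem_iSup_of_mem d hw⟩, hw⟩, ?_⟩
      rw [DirectSum.coeAddMonoidHom_of]
      rfl
    · rintro _ _ ⟨a, rfl⟩ ⟨b, rfl⟩
      exact ⟨a + b, by rw [map_add, map_add]⟩

instance : DirectSum.Decomposition (sgPiece D X Y) := (isInternal_sgPiece D X Y).chooseDecomposition

/-- The Segre product as a graded object. -/
def sgObj : GrLC.GMod.{u} 𝒯 := GrLC.GMod.of 𝒯 (Sg D X Y) (sgPiece D X Y)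

/-- An element of a piece. -/
def sgMk (d : ℤ) : kpiece 𝒜 X.gr d ⊗[k] kpiece ℬ Y.gr d →ₗ[k] Sg D X Y :=
  (emb X Y d).codRestrict (segSub X Y) fun w =>
    Submodule.mem_iSup_of_mem d (range_emb X Y d ▸ LinearMap.mem_range_self (emb X Y d) w)

lemma sval_sgMk (d : ℤ) (w : kpiece 𝒜 X.gr d ⊗[k] kpiece ℬ Y.gr d) :
    sval D X Y (sgMk D X Y d w) = emb X Y d w := rfl

lemma sgMk_injective (d : ℤ) : Function.Injective (sgMk D X Y d) := fun _ _ h =>
  emb_injective X Y d (congrArg (sval D X Y) h)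

lemma sgMk_mem (d : ℤ) (w : kpiece 𝒜 X.gr d ⊗[k] kpiece ℬ Y.gr d) : sgMk D X Y d w ∈ (sgPiece D X Y) d := by
  show sval D X Y (sgMk D X Y d w) ∈ sp X Y d
  rw [sval_sgMk, ← range_emb]
  exact LinearMap.mem_range_self _ _

lemma exists_sgMk {d : ℤ} {w : Sg D X Y} (hw : w ∈ (sgPiece D X Y) d) : ∃ v, sgMk D X Y d v = w := by
  have hw' : sval D X Y w ∈ sp X Y d := hw
  rw [← range_emb] at hw'
  obtain ⟨v, hv⟩ := hw'
  exact ⟨v, sval_injective D X Y hv⟩

variable {X Y} {X' : GrLC.GMod.{u} 𝒜} {Y' : GrLC.GMod.{u} ℬ}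

lemma map_mem_sp (f : X.carrier →ₗ[R] X'.carrier) (hf : GrLC.IsGrHom X.gr X'.gr f) (g : Y.carrier →ₗ[S] Y'.carrier)
    (hg : GrLC.IsGrHom Y.gr Y'.gr g) {d : ℤ} {w : X.carrier ⊗[k] Y.carrier} (hw : w ∈ sp X Y d) :
    TensorProduct.map (kLin f) (kLin g) w ∈ sp X' Y' d := by
  induction hw using Submodule.span_induction with
  | mem z hz =>
    obtain ⟨x, hx, y, hy, rfl⟩ := hz
    exact Submodule.subset_span ⟨f x, hf d x hx, g y, hg d y hy, rfl⟩
  | zero => rw [map_zero]; exact zero_mem _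
  | add u v _ _ hu hv => rw [map_add]; exact add_mem hu hv
  | smul c u _ hu => rw [map_smul]; exact Submodule.smul_mem _ c hu

/-- The Segre product of two homogeneous maps. -/
def segMap (f : X.carrier →ₗ[R] X'.carrier) (hf : GrLC.IsGrHom X.gr X'.gr f) (g : Y.carrier →ₗ[S] Y'.carrier)
    (hg : GrLC.IsGrHom Y.gr Y'.gr g) : Sg D X Y →ₗ[T] Sg D X' Y' where
  toFun w := ⟨TensorProduct.map (kLin f) (kLin g) (sval D X Y w), by
    refine Submodule.iSup_induction _ (motive := fun w => TensorProduct.map (kLin f) (kLin g) w ∈ segSub X' Y') w.2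
      (fun d w hw => Submodule.mem_iSup_of_mem d (map_mem_sp f hf g hg hw))
      (by rw [map_zero]; exact zero_mem _) (fun u v hu hv => by rw [map_add]; exact add_mem hu hv)⟩
  map_add' a b := sval_injective D X' Y' (by
    show TensorProduct.map (kLin f) (kLin g) (sval D X Y (a + b)) =
      TensorProduct.map (kLin f) (kLin g) (sval D X Y a) + TensorProduct.map (kLin f) (kLin g) (sval D X Y b)
    rw [map_add, map_add])
  map_smul' t w := sval_injective D X' Y' (map_act f g (D.ψ t) (sval D X Y w))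

lemma sval_segMap (f : X.carrier →ₗ[R] X'.carrier) (hf : GrLC.IsGrHom X.gr X'.gr f) (g : Y.carrier →ₗ[S] Y'.carrier)
    (hg : GrLC.IsGrHom Y.gr Y'.gr g) (w : Sg D X Y) :
    sval D X' Y' (segMap D f hf g hg w) = TensorProduct.map (kLin f) (kLin g) (sval D X Y w) := rfl

lemma segMap_grHom (f : X.carrier →ₗ[R] X'.carrier) (hf : GrLC.IsGrHom X.gr X'.gr f) (g : Y.carrier →ₗ[S] Y'.carrier)
    (hg : GrLC.IsGrHom Y.gr Y'.gr g) :
    GrLC.IsGrHom (sgPiece D X Y) (sgPiece D X' Y') (segMap D f hf g hg) := fun _ _ hw => map_mem_sp f hf g hg hw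

lemma segMap_sgMk (f : X.carrier →ₗ[R] X'.carrier) (hf : GrLC.IsGrHom X.gr X'.gr f) (g : Y.carrier →ₗ[S] Y'.carrier)
    (hg : GrLC.IsGrHom Y.gr Y'.gr g) (d : ℤ) (v : kpiece 𝒜 X.gr d ⊗[k] kpiece ℬ Y.gr d) :
    segMap D f hf g hg (sgMk D X Y d v) =
      sgMk D X' Y' d (TensorProduct.map (kpieceMap f hf d) (kpieceMap g hg d) v) := by
  refine sval_injective D X' Y' ?_
  rw [sval_segMap, sval_sgMk, sval_sgMk, emb, emb, ← LinearMap.comp_apply, ← TensorProduct.map_comp,
    ← LinearMap.comp_apply, ← TensorProduct.map_comp]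
  rfl

/-- The identity of a module, for one variable. -/
lemma id_grHom (Z : GrLC.GMod.{u} 𝒜) : GrLC.IsGrHom Z.gr Z.gr (LinearMap.id : Z.carrier →ₗ[R] Z.carrier) :=
  fun _ _ h => h

end Groth.Agent.SegreLC
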