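import Groth.Agent.SegreDim.Noether
import Groth.Agent.SegreLC.Seg

/-!
Generators up to radical of the irrelevant ideal of a Segre product.
-/

set_option autoImplicit false
set_option linter.unusedSectionVars false
set_option linter.style.haveILetI false
set_option backward.isDefEq.respectTransparency false
set_option backward.isDefEq.respectTransparency.types false
universe u

open scoped Classical TensorProduct
open DirectSum Groth.Agent.GrLCLib

noncomputable section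

namespace Groth.Agent.SegreLC

section Irr

variable {k : Type u} [Field k] {R : Type u} [CommRing R] [Algebra k R] (𝒜 : ℤ → Submodule k R)

/-- The irrelevant ideal. -/
def posIdeal : Ideal R := Ideal.span (⋃ n ∈ Set.Ioi (0 : ℤ), (𝒜 n : Set R))

lemma mem_posIdeal {n : ℤ} (hn : 0 < n) {a : R} (ha : a ∈ 𝒜 n) : a ∈ posIdeal 𝒜 :=
  Ideal.subset_span (Set.mem_iUnion₂.2 ⟨n, hn, ha⟩)

variable [GradedAlgebra 𝒜]

/-- Equidegree elements generating the irrelevant ideal up to radical, with a bound on degrees. -/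
structure Equi where
  deg : ℕ
  deg_pos : 0 < deg
  num : ℕ
  x : Fin num → R
  mem : ∀ i, x i ∈ 𝒜 (deg : ℤ)
  bound : ℕ
  piece : ∀ n : ℤ, (bound : ℤ) ≤ n → ∀ a ∈ 𝒜 n, a ∈ Ideal.span (Set.range x)

/-- Replacing the elements by powers. -/
theorem Equi.exists_pow {G : SegreDim.HomGens 𝒜} {m : ℕ} (hm : 0 < m) (hdvd : ∀ h ∈ G.set, G.deg h ∣ m) :
    ∃ E : Equi 𝒜, E.deg = m := by
  let e := G.set.equivFin.symm
  let x : Fin G.set.card → R := fun i => (e i).1 ^ (m / G.deg (e i).1)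
  have hmem : ∀ i, x i ∈ 𝒜 (m : ℤ) := fun i => by
    have := SetLike.pow_mem_graded (m / G.deg (e i).1) (G.mem _ (e i).2)
    rwa [nsmul_eq_mul, ← Nat.cast_mul, Nat.div_mul_cancel (hdvd _ (e i).2)] at this
  obtain ⟨B, hB⟩ := G.exists_bound (Ideal.span (Set.range x)) fun h hh =>
    ⟨m / G.deg h, Ideal.subset_span ⟨G.set.equivFin ⟨h, hh⟩, by simp [x, e]⟩⟩
  exact ⟨⟨m, hm, _, x, hmem, B, hB⟩, rfl⟩

variable {𝒜}

lemma Equi.span_le (E : Equi 𝒜) : Ideal.span (Set.range E.x) ≤ posIdeal 𝒜 :=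
  Ideal.span_le.2 (by rintro _ ⟨i, rfl⟩; exact mem_posIdeal 𝒜 (Int.natCast_pos.2 E.deg_pos) (E.mem i))

lemma Equi.le_radical (E : Equi 𝒜) : posIdeal 𝒜 ≤ (Ideal.span (Set.range E.x)).radical := by
  refine Ideal.span_le.2 fun a ha => ?_
  obtain ⟨n, hn, ha⟩ := Set.mem_iUnion₂.1 ha
  refine ⟨E.bound, E.piece (E.bound • n) ?_ _ (SetLike.pow_mem_graded E.bound ha)⟩
  rw [nsmul_eq_mul]
  exact le_mul_of_one_le_right (Int.natCast_nonneg _) hn

end Irr

/-- Torsion is tested on generators up to radical. -/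
theorem mem_gam_iff_gens {A : Type u} [CommRing A] [IsNoetherianRing A] {I : Ideal A} {n : ℕ} {x : Fin n → A}
    (h1 : Ideal.span (Set.range x) ≤ I) (h2 : I ≤ (Ideal.span (Set.range x)).radical)
    {M : Type u} [AddCommGroup M] [Module A M] {w : M} :
    w ∈ GrLC.gam I M ↔ ∀ i, ∃ N : ℕ, x i ^ N • w = 0 := by
  constructor
  · rintro ⟨N, hN⟩ i
    exact ⟨N, hN _ (Ideal.pow_mem_pow (h1 (Ideal.subset_span ⟨i, rfl⟩)) N)⟩
  · intro h
    choose N hN using h
    let J : Ideal A := Ideal.span (Set.range fun i => x i ^ N i)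
    have hJ : I ≤ J.radical := h2.trans (Ideal.radical_le_radical_iff.2 (Ideal.span_le.2 (by
      rintro _ ⟨i, rfl⟩
      exact ⟨N i, Ideal.subset_span ⟨i, rfl⟩⟩)))
    obtain ⟨c, hc⟩ := Ideal.exists_pow_le_of_le_radical_of_fg hJ (IsNoetherian.noetherian _)
    refine ⟨c, fun r hr => ?_⟩
    have := hc hr
    clear hr
    induction this using Submodule.span_induction with
    | mem y hy => obtain ⟨i, rfl⟩ := hy; exact hN i
    | zero => exact zero_smul _ w
    | add a b _ _ ha hb => rw [add_smul, ha, hb, add_zero]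
    | smul a b _ hb => rw [smul_eq_mul, mul_smul, hb, smul_zero]

section Segre

variable {k : Type u} [Field k] {R : Type u} [CommRing R] [Algebra k R] {S : Type u} [CommRing S] [Algebra k S]
  {T : Type u} [CommRing T] [Algebra k T] {𝒜 : ℤ → Submodule k R} [GradedAlgebra 𝒜]
  {ℬ : ℤ → Submodule k S} [GradedAlgebra ℬ] {𝒯 : ℤ → Submodule k T} [GradedAlgebra 𝒯]

/-- Generators up to radical in a common degree for both factors and the product. -/
structure Gens (D : Datum 𝒜 ℬ 𝒯) where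
  ER : Equi 𝒜
  ES : Equi ℬ
  deg_eq : ES.deg = ER.deg
  z : Fin ER.num → Fin ES.num → T
  z_mem : ∀ i j, z i j ∈ 𝒯 (ER.deg : ℤ)
  ψ_z : ∀ i j, D.ψ (z i j) = ER.x i ⊗ₜ[k] ES.x j
  noethR : IsNoetherianRing R
  noethS : IsNoetherianRing S
  noethT : IsNoetherianRing T

theorem exists_gens (D : Datum 𝒜 ℬ 𝒯) (hposR : ∀ n : ℤ, n < 0 → 𝒜 n = ⊥)
    (h0R : 𝒜 0 = Submodule.span k {(1 : R)}) [Algebra.FiniteType k R] (hposS : ∀ n : ℤ, n < 0 → ℬ n = ⊥)
    (h0S : ℬ 0 = Submodule.span k {(1 : S)}) [Algebra.FiniteType k S] [IsNoetherianRing T] : Nonempty (Gens D) := by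
  obtain ⟨G⟩ := SegreDim.exists_homGens hposR h0R
  obtain ⟨H⟩ := SegreDim.exists_homGens hposS h0S
  let m := (∏ h ∈ G.set, G.deg h) * ∏ h ∈ H.set, H.deg h
  have hm : 0 < m := Nat.mul_pos (Finset.prod_pos fun h hh => G.deg_pos h hh) (Finset.prod_pos fun h hh => H.deg_pos h hh)
  obtain ⟨ER, hER⟩ := Equi.exists_pow (G := G) (m := m) 𝒜 hm fun h hh => (Finset.dvd_prod_of_mem _ hh).mul_right _
  obtain ⟨ES, hES⟩ := Equi.exists_pow (G := H) (m := m) ℬ hm fun h hh => (Finset.dvd_prod_of_mem _ hh).mul_left _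
  have hd : ES.deg = ER.deg := hES.trans hER.symm
  choose z hz hz' using fun i j => D.exists_preimage (ER.mem i) (hd ▸ ES.mem j)
  exact ⟨⟨ER, ES, hd, z, hz, hz', Algebra.FiniteType.isNoetherianRing k R, Algebra.FiniteType.isNoetherianRing k S,
    inferInstance⟩⟩

variable {D : Datum 𝒜 ℬ 𝒯} (G : Gens D)

/-- The generators as one family. -/
def Gens.zz : Fin (G.ER.num * G.ES.num) → T := fun p => G.z (finProdFinEquiv.symm p).1 (finProdFinEquiv.symm p).2

lemma Gens.z_mem_range (i : Fin G.ER.num) (j : Fin G.ES.num) : G.z i j ∈ Set.range G.zz :=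
  ⟨finProdFinEquiv (i, j), by simp [Gens.zz]⟩

lemma Gens.span_le : Ideal.span (Set.range G.zz) ≤ posIdeal 𝒯 :=
  Ideal.span_le.2 (by rintro _ ⟨p, rfl⟩; exact mem_posIdeal 𝒯 (Int.natCast_pos.2 G.ER.deg_pos) (G.z_mem _ _))

lemma Gens.piece {n : ℤ} (h1 : (G.ER.bound : ℤ) + G.ES.bound ≤ n) {t : T} (ht : t ∈ 𝒯 n) :
    t ∈ Ideal.span (Set.range G.zz) := by
  suffices h : D.ψ t ∈ ((Ideal.span (Set.range G.zz)).restrictScalars k).map D.ψ.toLinearMap by
    obtain ⟨t', ht', hh⟩ := h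
    exact D.hT.1 hh ▸ ht'
  refine Submodule.span_le.2 ?_ (D.ψ_mem ht)
  rintro _ ⟨a, ha, b, hb, rfl⟩
  obtain ⟨c, hc⟩ := Ideal.mem_span_range_iff_exists_fun.mp (G.ER.piece n (by omega) a ha)
  obtain ⟨e, he⟩ := Ideal.mem_span_range_iff_exists_fun.mp (G.ES.piece n (by omega) b hb)
  have ha' : a = ∑ i, G.ER.x i * GradedAlgebra.proj 𝒜 (n - G.ER.deg) (c i) := by
    conv_lhs => rw [← SegreDim.proj_of_mem ha, ← hc, map_sum]
    exact Finset.sum_congr rfl fun i _ => by rw [mul_comm, SegreDim.proj_mul_left (G.ER.mem i)]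
  have hb' : b = ∑ j, G.ES.x j * GradedAlgebra.proj ℬ (n - G.ER.deg) (e j) := by
    conv_lhs => rw [← SegreDim.proj_of_mem hb, ← he, map_sum]
    exact Finset.sum_congr rfl fun j _ => by
      rw [mul_comm, SegreDim.proj_mul_left (G.ES.mem j), G.deg_eq]
  rw [SetLike.mem_coe, ha', hb', TensorProduct.sum_tmul]
  refine Submodule.sum_mem _ fun i _ => ?_
  rw [TensorProduct.tmul_sum]
  refine Submodule.sum_mem _ fun j _ => ?_
  obtain ⟨s, -, hs⟩ := D.exists_preimage (SegreDim.proj_mem (𝒜 := 𝒜) (n - G.ER.deg) (c i))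
    (SegreDim.proj_mem (𝒜 := ℬ) (n - G.ER.deg) (e j))
  refine ⟨G.z i j * s, Ideal.mul_mem_right _ _ (Ideal.subset_span (G.z_mem_range i j)), ?_⟩
  show D.ψ (G.z i j * s) = _
  rw [map_mul, G.ψ_z, hs, Algebra.TensorProduct.tmul_mul_tmul]

lemma Gens.le_radical : posIdeal 𝒯 ≤ (Ideal.span (Set.range G.zz)).radical := by
  refine Ideal.span_le.2 fun t ht => ?_
  obtain ⟨n, hn, ht⟩ := Set.mem_iUnion₂.1 ht
  refine ⟨G.ER.bound + G.ES.bound, G.piece ?_ (SetLike.pow_mem_graded (G.ER.bound + G.ES.bound) ht)⟩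
  rw [nsmul_eq_mul, ← Nat.cast_add]
  exact le_mul_of_one_le_right (Int.natCast_nonneg _) hn

include G in
lemma Gens.mem_gam_T {mT : Ideal T} (hmT : mT = posIdeal 𝒯) {M : Type u} [AddCommGroup M] [Module T M] {w : M} :
    w ∈ GrLC.gam mT M ↔ ∀ i j, ∃ N : ℕ, G.z i j ^ N • w = 0 := by
  subst hmT
  haveI := G.noethT
  rw [mem_gam_iff_gens G.span_le G.le_radical]
  refine ⟨fun h i j => ?_, fun h p => h _ _⟩
  obtain ⟨N, hN⟩ := h (finProdFinEquiv (i, j))
  exact ⟨N, by simpa [Gens.zz] using hN⟩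

include G in
lemma Gens.mem_gam_R {mR : Ideal R} (hmR : mR = posIdeal 𝒜) {M : Type u} [AddCommGroup M] [Module R M] {w : M} :
    w ∈ GrLC.gam mR M ↔ ∀ i, ∃ N : ℕ, G.ER.x i ^ N • w = 0 := by
  subst hmR
  haveI := G.noethR
  exact mem_gam_iff_gens G.ER.span_le G.ER.le_radical

include G in
lemma Gens.mem_gam_S {mS : Ideal S} (hmS : mS = posIdeal ℬ) {M : Type u} [AddCommGroup M] [Module S M] {w : M} :
    w ∈ GrLC.gam mS M ↔ ∀ j, ∃ N : ℕ, G.ES.x j ^ N • w = 0 := by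
  subst hmS
  haveI := G.noethS
  exact mem_gam_iff_gens G.ES.span_le G.ES.le_radical

lemma Gens.ψ_z_pow (i : Fin G.ER.num) (j : Fin G.ES.num) (N : ℕ) :
    D.ψ (G.z i j ^ N) = (G.ER.x i ^ N) ⊗ₜ[k] (G.ES.x j ^ N) := by
  rw [map_pow, G.ψ_z, Algebra.TensorProduct.tmul_pow]

end Segre

end Groth.Agent.SegreLC
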