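import Groth.Agent.SegreLC.FreeReg
import Groth.Agent.SegreDim.Noether
import Groth.Agent.SegreDim.GradedMod
import Groth.Agent.GrLCLib.Bridge
import Groth.Agent.FlatDepth.SkTensor
import Groth.Agent.InvFin.Depth
import Groth.Agent.EGA41CM.Basic
import Groth.Agent.SMT.CMFree
import Groth.Agent.S14424
import Groth.Agent.S5758
import Groth.Agent.DimFormula.Field
import Groth.Agent.SegreLC.Gens

/-!
Cohen–Macaulay graded modules through graded local cohomology.
-/

set_option autoImplicit false
set_option linter.unusedSectionVars false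
set_option linter.style.haveILetI false
set_option backward.isDefEq.respectTransparency false
set_option backward.isDefEq.respectTransparency.types false
universe u

open scoped Classical Pointwise
open DirectSum RingTheory.Sequence

noncomputable section

namespace Groth.Agent.SegreLC

variable {k : Type u} [Field k] {R : Type u} [CommRing R] [Algebra k R] {𝒜 : ℤ → Submodule k R} [GradedAlgebra 𝒜]
  (hpos : ∀ n : ℤ, n < 0 → 𝒜 n = ⊥) (h0 : 𝒜 0 = Submodule.span k {(1 : R)})

include hpos h0 in
lemma irrel_eq_posIdeal (G : SegreDim.HomGens 𝒜) [Nontrivial R] : G.irrel = posIdeal 𝒜 := by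
  refine le_antisymm (Ideal.span_le.2 fun h hh => mem_posIdeal 𝒜 (by exact_mod_cast G.deg_pos h hh) (G.mem h hh))
    (Ideal.span_le.2 fun a ha => ?_)
  obtain ⟨n, hn, ha⟩ := Set.mem_iUnion₂.1 ha
  refine (Submodule.span_le (p := G.irrel.restrictScalars k)).mpr ?_ (G.piece_le n ha)
  rintro _ ⟨e, he, rfl⟩
  rw [Set.mem_ofPred_eq] at he
  obtain ⟨g, hg⟩ : ∃ g, e g ≠ 0 := by
    by_contra hall
    push Not at hall
    have : G.wt e = 0 := Finset.sum_eq_zero fun g _ => by rw [hall g, zero_mul]
    have : (0 : ℤ) < n := hn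
    omega
  show G.mon e ∈ G.irrel
  rw [SegreDim.HomGens.mon, ← Finset.mul_prod_erase _ _ (Finset.mem_univ g)]
  exact G.irrel.mul_mem_right _ (Ideal.pow_mem_of_mem _ (Ideal.subset_span g.2) _ (Nat.pos_of_ne_zero hg))

include hpos h0 in
theorem posIdeal_isMaximal [Algebra.FiniteType k R] [Nontrivial R] : (posIdeal 𝒜).IsMaximal := by
  obtain ⟨G⟩ := SegreDim.exists_homGens hpos h0
  rw [← irrel_eq_posIdeal hpos h0 G]
  exact SegreDim.irrel_isPrime G hpos

section Module

variable {M : Type u} [AddCommGroup M] [Module R M] [Module k M] [IsScalarTower k R M]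
  (ℳ : ℤ → AddSubgroup M) [DirectSum.Decomposition ℳ] [SetLike.GradedSMul 𝒜 ℳ]

include 𝒜 in
lemma homog_span_smul {n D : ℕ} {f : Fin n → R} (hf : ∀ i, f i ∈ 𝒜 (D : ℤ)) (s : Set (Fin n)) :
    GrLCLib.Homog ℳ (Ideal.span (f '' s) • (⊤ : Submodule R M)) := by
  intro x hx g
  rw [← Submodule.span_univ, Submodule.span_smul_span] at hx ⊢
  induction hx using Submodule.span_induction generalizing g with
  | zero => rw [map_zero]; exact zero_mem _
  | add a b _ _ ha hb => rw [map_add]; exact add_mem (ha g) (hb g)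
  | mem a ha =>
    obtain ⟨_, ⟨i, hi, rfl⟩, z, -, rfl⟩ := Set.mem_smul.mp ha
    rw [GrLCLib.pr_smul 𝒜 ℳ (hf i)]
    exact Submodule.subset_span (Set.smul_mem_smul ⟨i, hi, rfl⟩ (Set.mem_univ _))
  | smul c a _ ha =>
    induction c using DirectSum.Decomposition.inductionOn 𝒜 with
    | zero => rw [zero_smul, map_zero]; exact zero_mem _
    | @homogeneous e r => rw [GrLCLib.pr_smul 𝒜 ℳ r.2]; exact Submodule.smul_mem _ _ (ha _)
    | add r r' hr hr' => rw [add_smul, map_add]; exact add_mem hr hr'

include hpos h0 in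
lemma mem_of_smul_mem [Module.Finite R M] {K : Submodule R M} (hK : GrLCLib.Homog ℳ K) {s : R}
    (hs : s ∉ posIdeal 𝒜) {a : M} (ha : s • a ∈ K) : a ∈ K := by
  obtain ⟨E, hE⟩ := SegreDim.exists_low 𝒜 ℳ hpos
  obtain ⟨c, hc⟩ := Submodule.mem_span_singleton.1
    (h0.le (GrLCLib.pr_mem 𝒜 (0 : ℤ) s) : GrLCLib.pr 𝒜 (0 : ℤ) s ∈ Submodule.span k {(1 : R)})
  have hc0 : c ≠ 0 := by
    rintro rfl
    refine hs ?_
    rw [← GrLCLib.sum_pr 𝒜 s]
    refine Ideal.sum_mem _ fun g _ => ?_
    rcases lt_trichotomy g 0 with h | rfl | h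
    · rw [show GrLCLib.pr 𝒜 g s = 0 from (Submodule.mem_bot k).1 ((hpos g h).le (GrLCLib.pr_mem 𝒜 g s))]; exact zero_mem _
    · rw [← hc, zero_smul]; exact zero_mem _
    · exact mem_posIdeal 𝒜 h (GrLCLib.pr_mem 𝒜 g s)
  refine GrLCLib.mem_of_pr_mem ℳ fun g => ?_
  suffices key : ∀ (N : ℕ) (g : ℤ), g < E + N → GrLCLib.pr ℳ g a ∈ K from key ((g - E).toNat + 1) g (by omega)
  intro N
  induction N with
  | zero =>
    intro g hg
    rw [hE g (by omega) _ (GrLCLib.pr_mem ℳ g a)]
    exact zero_mem _
  | succ N ih =>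
    intro g hg
    by_cases hlt : g < E + N
    · exact ih g hlt
    have h1 : GrLCLib.pr ℳ g (s • a) ∈ K := hK _ ha g
    have h2 : GrLCLib.pr ℳ g (s • a) - c • GrLCLib.pr ℳ g a ∈ K := by
      conv in GrLCLib.pr ℳ g (s • a) => rw [← GrLCLib.sum_pr ℳ a, Finset.smul_sum, map_sum]
      by_cases hg' : g ∈ (DirectSum.decompose ℳ a).support
      · rw [← Finset.add_sum_erase _ _ hg', GrLCLib.pr_smul_left 𝒜 ℳ (GrLCLib.pr_mem ℳ g a), sub_self, ← hc,
          smul_assoc, one_smul, add_sub_cancel_left]
        refine K.sum_mem fun e he => ?_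
        rw [GrLCLib.pr_smul_left 𝒜 ℳ (GrLCLib.pr_mem ℳ e a)]
        rcases lt_or_ge e g with he' | he'
        · exact K.smul_mem _ (ih e (by omega))
        · have hne := (Finset.mem_erase.1 he).1
          rw [show GrLCLib.pr 𝒜 (g - e) s = 0 from
            (Submodule.mem_bot k).1 ((hpos (g - e) (by omega)).le (GrLCLib.pr_mem 𝒜 (g - e) s)), zero_smul]
          exact zero_mem _
      · have hz : GrLCLib.pr ℳ g a = 0 := by
          show (DirectSum.decompose ℳ a g : M) = 0
          by_contra hne
          exact hg' (DFinsupp.mem_support_iff.2 fun h0' => hne (by rw [h0']; rfl))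
        rw [hz, smul_zero, sub_zero]
        refine K.sum_mem fun e he => ?_
        rw [GrLCLib.pr_smul_left 𝒜 ℳ (GrLCLib.pr_mem ℳ e a)]
        rcases lt_or_ge e g with he' | he'
        · exact K.smul_mem _ (ih e (by omega))
        · have hne : e ≠ g := fun h => hg' (h ▸ he)
          rw [show GrLCLib.pr 𝒜 (g - e) s = 0 from
            (Submodule.mem_bot k).1 ((hpos (g - e) (by omega)).le (GrLCLib.pr_mem 𝒜 (g - e) s)), zero_smul]
          exact zero_mem _
    have h3 : c • GrLCLib.pr ℳ g a ∈ K := by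
      rw [← sub_sub_cancel (GrLCLib.pr ℳ g (s • a)) (c • GrLCLib.pr ℳ g a)]
      exact sub_mem h1 h2
    rw [← one_smul k (GrLCLib.pr ℳ g a), ← inv_mul_cancel₀ hc0, mul_smul, ← algebraMap_smul R c⁻¹]
    exact K.smul_mem _ h3

include hpos h0 ℳ in
/-- A homogeneous sequence regular at the origin is regular. -/
theorem isWeaklyRegular_of_localized [Algebra.FiniteType k R] [Module.Finite R M] (m : Ideal R) [m.IsPrime]
    (hm : m = posIdeal 𝒜) {n D : ℕ} {f : Fin n → R} (hf : ∀ i, f i ∈ 𝒜 (D : ℤ))
    (hloc : IsWeaklyRegular (LocalizedModule m.primeCompl M)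
      ((List.ofFn f).map (algebraMap R (Localization.AtPrime m)))) :
    IsWeaklyRegular M (List.ofFn f) := by
  rw [isWeaklyRegular_map_algebraMap_iff] at hloc
  rw [isWeaklyRegular_iff] at hloc ⊢
  intro i hi
  let mk := LocalizedModule.mkLinearMap m.primeCompl M
  have hI : ∃ s : Set (Fin n), Ideal.ofList ((List.ofFn f).take i) = Ideal.span (f '' s) := by
    refine ⟨{j | (j : ℕ) < i}, le_antisymm (Ideal.span_le.2 fun x hx => ?_) (Ideal.span_le.2 ?_)⟩
    · obtain ⟨l, hl, rfl⟩ := List.getElem_of_mem (show x ∈ (List.ofFn f).take i from hx)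
      rw [List.length_take, List.length_ofFn] at hl
      rw [List.getElem_take, List.getElem_ofFn]
      exact Ideal.subset_span ⟨⟨l, by omega⟩, (show l < i by omega), rfl⟩
    · rintro _ ⟨j, hj, rfl⟩
      exact Ideal.subset_span (List.mem_take_iff_getElem.2
        ⟨j, by rw [List.length_ofFn]; exact lt_min hj j.2, by rw [List.getElem_ofFn]⟩)
  obtain ⟨s, hs⟩ := hI
  have h := hloc i hi
  rw [isSMulRegular_quotient_iff_mem_of_smul_mem] at h ⊢
  intro a ha
  rw [hs] at ha h ⊢
  have hmap : mk a ∈ Ideal.span (f '' s) • (⊤ : Submodule R (LocalizedModule m.primeCompl M)) := by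
    refine h (mk a) ?_
    rw [← map_smul]
    exact (Submodule.map_smul'' (Ideal.span (f '' s)) ⊤ mk).le.trans (Submodule.smul_mono le_rfl le_top) ⟨_, ha, rfl⟩
  obtain ⟨t, ht⟩ : ∃ t : m.primeCompl, (t : R) • a ∈ Ideal.span (f '' s) • (⊤ : Submodule R M) := by
    have key : ∀ y ∈ Ideal.span (f '' s) • (⊤ : Submodule R (LocalizedModule m.primeCompl M)),
        ∃ t : m.primeCompl, ∃ b ∈ Ideal.span (f '' s) • (⊤ : Submodule R M), (t : R) • y = mk b := by
      intro y hy
      refine Submodule.smul_induction_on hy (fun r hr z _ => ?_) (fun y z hy hz => ?_)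
      · obtain ⟨⟨b, t⟩, hb⟩ := IsLocalizedModule.surj m.primeCompl mk z
        exact ⟨t, r • b, Submodule.smul_mem_smul hr Submodule.mem_top,
          by rw [smul_comm, map_smul]; exact congrArg (r • ·) hb⟩
      · obtain ⟨t, b, hb, hyb⟩ := hy
        obtain ⟨t', b', hb', hzb⟩ := hz
        refine ⟨t * t', (t' : R) • b + (t : R) • b', add_mem (Submodule.smul_mem _ _ hb) (Submodule.smul_mem _ _ hb'), ?_⟩
        rw [map_add, map_smul, map_smul, ← hyb, ← hzb, smul_add, Submonoid.coe_mul, mul_smul, mul_smul, smul_comm (t : R)]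
    obtain ⟨t, b, hb, hab⟩ := key _ hmap
    rw [← map_smul] at hab
    obtain ⟨t', ht'⟩ := (IsLocalizedModule.eq_iff_exists m.primeCompl mk).1 hab
    refine ⟨t' * t, ?_⟩
    rw [Submonoid.coe_mul, mul_smul]
    exact (show (t' : R) • (t : R) • a = (t' : R) • b from ht') ▸ Submodule.smul_mem _ _ hb
  exact mem_of_smul_mem hpos h0 ℳ (homog_span_smul ℳ hf s) (hm ▸ t.2) ht

/-- Regular sequences of the base ring act regularly on a flat module. -/
lemma isWeaklyRegular_map_of_flat {A : Type u} [CommRing A] {Q : Type u} [CommRing Q] [Algebra A Q] {V : Type u}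
    [AddCommGroup V] [Module A V] [Module Q V] [IsScalarTower A Q V] [Module.Flat A V] {rs : List A}
    (h : IsWeaklyRegular A rs) : IsWeaklyRegular V (rs.map (algebraMap A Q)) :=
  (isWeaklyRegular_map_algebraMap_iff Q V rs).2
    (((TensorProduct.rid A V).isWeaklyRegular_congr rs).1 (h.isWeaklyRegular_lTensor (M₂ := V)))

variable {n D : ℕ} (hD : 0 < D) {f : Fin n → R} (hf : ∀ i, f i ∈ 𝒜 (D : ℤ)) {B : ℕ}
  (hB : ∀ e : ℤ, (B : ℤ) ≤ e → ∀ a ∈ 𝒜 e, a ∈ Module.annihilator R M ⊔ Ideal.span (Set.range f))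
  (hreg : IsWeaklyRegular M (List.ofFn f))

include hpos h0 hD hf hB hreg ℳ in
/-- A regular system of parameters makes a graded module free over the polynomial ring. -/
theorem free_of_regular [Algebra.FiniteType k R] [Module.Finite R M] :
    ∃ (ι : Type u) (_ : Fintype ι) (e : ι → M),
      Function.Bijective fun F : ι → MvPolynomial (Fin n) k => ∑ j, MvPolynomial.aeval f (F j) • e j := by
  obtain ⟨G⟩ := SegreDim.exists_homGens hpos h0
  obtain ⟨B', hB'⟩ := SegreDim.exists_divisible 𝒜 ℳ hf hB
  obtain ⟨E, hE⟩ := SegreDim.exists_low 𝒜 ℳ hpos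
  choose u hum hu using SegreDim.exists_span_piece 𝒜 ℳ G.piece_fg
  have hofList : Ideal.ofList (List.ofFn f) = Ideal.span (Set.range f) :=
    congrArg Ideal.span (Set.ext fun x => by simp [List.mem_ofFn])
  let N : Submodule R M := Ideal.ofList (List.ofFn f) • ⊤
  let mk : M →ₗ[R] M ⧸ N := N.mkQ
  have hmk : ∀ (c : k) (x : M), mk (c • x) = c • mk x := fun c x => rfl
  let W : Finset (ℤ × M) := (Finset.Ico E B').biUnion fun g => (u g).image fun x => (g, x)
  have hW : ∀ p ∈ W, p.2 ∈ ℳ p.1 := fun p hp => by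
    obtain ⟨g, -, hp⟩ := Finset.mem_biUnion.1 hp
    obtain ⟨x, hx, rfl⟩ := Finset.mem_image.1 hp
    exact hum g x hx
  let S₀ : Set (M ⧸ N) := (fun p : ℤ × M => mk p.2) '' (W : Set (ℤ × M))
  have hspan : ∀ (g : ℤ) (x : M), x ∈ ℳ g → mk x ∈ Submodule.span k S₀ := by
    intro g x hx
    rcases lt_or_ge g E with h | h
    · rw [hE g h x hx, map_zero]; exact zero_mem _
    rcases lt_or_ge g B' with h' | h'
    · have := hu g x hx
      clear hx
      induction this using Submodule.span_induction with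
      | mem y hy =>
        exact Submodule.subset_span ⟨(g, y), Finset.mem_biUnion.2 ⟨g, Finset.mem_Ico.2 ⟨h, h'⟩,
          Finset.mem_image.2 ⟨y, hy, rfl⟩⟩, rfl⟩
      | zero => rw [map_zero]; exact zero_mem _
      | add y z _ _ hy hz => rw [map_add]; exact add_mem hy hz
      | smul c y _ hy => rw [hmk]; exact Submodule.smul_mem _ c hy
    · obtain ⟨y, -, rfl⟩ := hB' g h' x hx
      have : mk (∑ i, f i • y i) = 0 := (Submodule.Quotient.mk_eq_zero N).2 (Submodule.sum_mem _ fun i _ =>
        Submodule.smul_mem_smul (Ideal.subset_span (List.mem_ofFn.2 ⟨i, rfl⟩)) Submodule.mem_top)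
      rw [this]; exact zero_mem _
  obtain ⟨b, hb, hbs, hli⟩ := exists_linearIndependent k S₀
  haveI : Fintype b := ((W.finite_toSet.image _).subset hb).fintype
  choose w hwW hw using fun v : b => hb v.2
  refine ⟨b, inferInstance, fun v => (w v).2, fun F F' h => sub_eq_zero.1 ?_, ?_⟩
  · refine eq_zero_of_aeval_sum n f M hreg (fun v => (w v).2) (fun c hc => ?_) (F - F') ?_
    · have h0c : ∑ v, c v • (v : M ⧸ N) = 0 := by
        rw [Finset.sum_congr rfl fun v _ => show c v • (v : M ⧸ N) = mk (c v • (w v).2) from by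
          rw [hmk]; exact congrArg (c v • ·) (hw v).symm, ← map_sum]
        exact (Submodule.Quotient.mk_eq_zero N).2 hc
      funext v
      exact Fintype.linearIndependent_iff.1 hli c h0c v
    · simp only [Pi.sub_apply, map_sub, sub_smul, Finset.sum_sub_distrib]
      exact sub_eq_zero.2 h
  · let Φ : (b → MvPolynomial (Fin n) k) → M := fun F => ∑ v, MvPolynomial.aeval f (F v) • (w v).2
    have hadd : ∀ F F', Φ (F + F') = Φ F + Φ F' := fun F F' => by
      simp only [Φ, Pi.add_apply, map_add, add_smul, Finset.sum_add_distrib]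
    suffices key : ∀ (K : ℕ) (g : ℤ), g < E + K → ∀ x ∈ ℳ g, ∃ F, Φ F = x by
      intro x
      induction x using DirectSum.Decomposition.inductionOn ℳ with
      | zero => exact ⟨0, by simp⟩
      | @homogeneous g y => exact key ((g - E).toNat + 1) g (by omega) y y.2
      | add p q hp hq =>
        obtain ⟨F, hF⟩ := hp; obtain ⟨F', hF'⟩ := hq
        exact ⟨F + F', (hadd F F').trans (congrArg₂ (· + ·) hF hF')⟩
    intro K
    induction K with
    | zero => intro g hg x hx; exact ⟨0, by rw [hE g (by omega) x hx]; simp [Φ]⟩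
    | succ K ih =>
      intro g hg x hx
      obtain ⟨c, hc⟩ : ∃ c : b → k, ∑ v, c v • (v : M ⧸ N) = mk x := by
        have := hspan g x hx
        rw [← hbs, ← Subtype.range_coe (s := b)] at this
        exact (Submodule.mem_span_range_iff_exists_fun k).1 this
      have hd : x - ∑ v, c v • (w v).2 ∈ N := by
        refine (Submodule.Quotient.eq N).1 ?_
        show mk x = mk (∑ v, c v • (w v).2)
        rw [← hc, map_sum]
        exact Finset.sum_congr rfl fun v _ => by rw [hmk]; exact congrArg (c v • ·) (hw v).symm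
      replace hd : x - ∑ v, c v • (w v).2 ∈ Ideal.span (Set.range f) • (⊤ : Submodule R M) := by
        rw [← hofList]; exact hd
      obtain ⟨y, hy⟩ : ∃ y : Fin n → M, x - ∑ v, c v • (w v).2 = ∑ i, f i • y i := by
        rw [← Submodule.span_univ, Submodule.span_smul_span] at hd
        generalize x - ∑ v, c v • (w v).2 = z at hd ⊢
        induction hd using Submodule.span_induction with
        | zero => exact ⟨0, by simp⟩
        | add p q _ _ hp hq =>
          obtain ⟨y, rfl⟩ := hp; obtain ⟨z, rfl⟩ := hq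
          exact ⟨y + z, by simp [smul_add, Finset.sum_add_distrib]⟩
        | smul t p _ hp =>
          obtain ⟨y, rfl⟩ := hp
          exact ⟨t • y, by simp [Finset.smul_sum, smul_comm t]⟩
        | mem p hp =>
          obtain ⟨_, ⟨i, rfl⟩, z, -, rfl⟩ := Set.mem_smul.mp hp
          exact ⟨Pi.single i z, by simp [Pi.single_apply]⟩
      have hx' : x = ∑ v, GrLCLib.pr ℳ g (c v • (w v).2) + ∑ i, f i • GrLCLib.pr ℳ (g - D) (y i) := by
        have h1 : x = ∑ v, c v • (w v).2 + ∑ i, f i • y i := by rw [← hy, add_sub_cancel]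
        have h2 := congrArg (GrLCLib.pr ℳ g) h1
        rw [GrLCLib.pr_of_mem ℳ hx, map_add, map_sum, map_sum] at h2
        exact h2.trans (congrArg₂ (· + ·) rfl (Finset.sum_congr rfl fun i _ => GrLCLib.pr_smul 𝒜 ℳ (hf i) g (y i)))
      choose Fy hFy using fun i => ih (g - D) (by omega) _ (GrLCLib.pr_mem ℳ (g - D) (y i))
      refine ⟨(fun v => MvPolynomial.C (if (w v).1 = g then c v else 0)) + fun v => ∑ i, MvPolynomial.X i * Fy i v, ?_⟩
      rw [hadd, hx']
      refine congrArg₂ (· + ·) (Finset.sum_congr rfl fun v _ => ?_) ?_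
      · rw [MvPolynomial.aeval_C, algebraMap_smul]
        by_cases hv : (w v).1 = g
        · rw [if_pos hv, GrLCLib.pr_of_mem ℳ (hv ▸ SegreDim.smul_mem_piece 𝒜 ℳ (c v) (hW _ (hwW v)))]
        · rw [if_neg hv, zero_smul, GrLCLib.pr_of_mem_ne ℳ (SegreDim.smul_mem_piece 𝒜 ℳ (c v) (hW _ (hwW v))) hv]
      · simp only [Φ, map_sum, map_mul, MvPolynomial.aeval_X, Finset.sum_smul, mul_smul]
        rw [Finset.sum_comm]
        exact Finset.sum_congr rfl fun i _ => (Finset.smul_sum (r := f i)
          (f := fun v => MvPolynomial.aeval f (Fy i v) • (w v).2)).symm.trans (congrArg (f i • ·) (hFy i))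

/-- Depth of a module flat over a Cohen–Macaulay ring. -/
theorem height_le_depth_of_flat {A : Type u} [CommRing A] [LocCoh.IsCohenMacaulayRing A] {Q : Type u} [CommRing Q]
    [IsNoetherianRing Q] [Algebra A Q] {V : Type u} [AddCommGroup V] [Module A V] [Module Q V] [IsScalarTower A Q V]
    [Module.Flat A V] [Module.Finite Q V] (q : Ideal Q) [q.IsPrime] :
    (q.comap (algebraMap A Q)).height ≤
      LocCoh.depth (Localization.AtPrime q) (LocalizedModule q.primeCompl V) := by
  let p := q.comap (algebraMap A Q)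
  have hp : p ≠ ⊤ := Ideal.IsPrime.ne_top (Ideal.IsPrime.comap _)
  obtain ⟨h, hh⟩ := ENat.ne_top_iff_exists.1 (Ideal.height_ne_top (I := p) hp)
  obtain ⟨rs, hlen, hrs, hmem⟩ := LocH.exists_isWeaklyRegular p h A ((LocH.le_idealDepth_iff p A h).1
    (((Groth.Agent.S14424.result A).1 inferInstance p hp).trans hh.symm).ge)
  rw [← hh]
  refine (LocH.le_idealDepth_iff_forall_prime q V h).1 ((LocH.le_idealDepth_iff q V h).2 fun i hi => ?_) ⟨q, inferInstance⟩ le_rfl
  refine LocH.subsingleton_of_isWeaklyRegular q _ V (isWeaklyRegular_map_of_flat hrs) (fun r hr => ?_) i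
    (by rw [List.length_map, hlen]; exact hi)
  obtain ⟨a, ha, rfl⟩ := List.mem_map.1 hr
  exact hmem a ha

/-- Depth of a module with a basis over a Cohen–Macaulay ring. -/
theorem height_le_depth_of_basis {A : Type u} [CommRing A] [LocCoh.IsCohenMacaulayRing A] {Q : Type u} [CommRing Q]
    [IsNoetherianRing Q] (φ : A →+* Q) {V : Type u} [AddCommGroup V] [Module Q V] [Module.Finite Q V] {ι : Type u}
    [Fintype ι] (e : ι → V) (he : Function.Bijective fun F : ι → A => ∑ j, φ (F j) • e j) (q : Ideal Q) [q.IsPrime] :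
    (q.comap φ).height ≤ LocCoh.depth (Localization.AtPrime q) (LocalizedModule q.primeCompl V) := by
  letI : Algebra A Q := φ.toAlgebra
  letI : Module A V := Module.compHom V (algebraMap A Q)
  haveI : IsScalarTower A Q V := IsScalarTower.of_algebraMap_smul fun _ _ => rfl
  haveI : Module.Free A V := Module.Free.of_equiv (LinearEquiv.ofBijective (Fintype.linearCombination A e) he)
  exact height_le_depth_of_flat (A := A) q

include hpos h0 hD hf hB hreg ℳ in
/-- Depth at a prime is at least the height of its contraction to the parameters. -/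
theorem height_le_depth [Algebra.FiniteType k R] [Module.Finite R M] (q : Ideal R) [q.IsPrime] :
    (q.comap (MvPolynomial.aeval (R := k) f).toRingHom).height ≤
      LocCoh.depth (Localization.AtPrime q) (LocalizedModule q.primeCompl M) := by
  haveI : IsNoetherianRing R := Algebra.FiniteType.isNoetherianRing k R
  obtain ⟨ι, _, e, he⟩ := free_of_regular hpos h0 ℳ hD hf hB hreg
  haveI := SMT.isCohenMacaulayRing_polynomial k n
  exact height_le_depth_of_basis (MvPolynomial.aeval (R := k) f).toRingHom e he q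

end Module

section Main

variable {M : Type u} [AddCommGroup M] [Module R M]

/-- The support dimension at a prime is at most the height of the contraction. -/
theorem supportDim_localized_le [Module.Finite R M] {n : ℕ} {f : Fin n → R}
    (hint : ((Ideal.Quotient.mkₐ k (Module.annihilator R M)).comp (MvPolynomial.aeval f)).toRingHom.IsIntegral)
    (q : Ideal R) [q.IsPrime] :
    Module.supportDim (Localization.AtPrime q) (LocalizedModule q.primeCompl M) ≤
      ((q.comap (MvPolynomial.aeval (R := k) f).toRingHom).height : WithBot ℕ∞) := by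
  rw [FlatDepth.supportDim_localized_eq]
  let φ := (MvPolynomial.aeval (R := k) f).toRingHom
  let J := Module.annihilator R M
  have hsm : ∀ a b : {x : PrimeSpectrum R // x ∈ Module.support R M ∧ x.asIdeal ≤ q}, a < b →
      PrimeSpectrum.comap φ a.1 < PrimeSpectrum.comap φ b.1 := by
    intro a b hab
    obtain ⟨x, hxb, hxa⟩ := Set.exists_of_ssubset (show (a.1.asIdeal : Set R) ⊂ b.1.asIdeal from hab)
    obtain ⟨P, hP, hPx⟩ := hint (Ideal.Quotient.mk J x)
    refine Ideal.comap_lt_comap_of_root_mem_sdiff (f := φ) (le_of_lt (show a.1.asIdeal < b.1.asIdeal from hab))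
      ⟨hxb, hxa⟩ (p := P) (Polynomial.map_monic_ne_zero hP) ?_
    have hJ : J ≤ a.1.asIdeal := fun r hr =>
      (PrimeSpectrum.mem_zeroLocus _ _).1 ((Module.support_eq_zeroLocus (R := R) (M := M)).le a.2.1) hr
    refine hJ (Ideal.Quotient.eq_zero_iff_mem.1 ?_)
    rw [Polynomial.hom_eval₂]
    exact hPx
  refine iSup_le fun l => ?_
  let l' : LTSeries (PrimeSpectrum (MvPolynomial (Fin n) k)) :=
    ⟨l.length, fun i => PrimeSpectrum.comap φ (l i).1, fun i => hsm _ _ (l.step i)⟩
  have hlast : l'.last ≤ ⟨q.comap φ, Ideal.IsPrime.comap _⟩ := Ideal.comap_mono (f := φ) l.last.2.2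
  refine WithBot.coe_le_coe.2 ((Order.length_le_height hlast).trans ?_)
  exact (PrimeSpectrum.height_eq_orderHeight
    (⟨q.comap φ, Ideal.IsPrime.comap _⟩ : PrimeSpectrum (MvPolynomial (Fin n) k))).symm.le

lemma supportDim_localized_le_supportDim (q : Ideal R) [q.IsPrime] :
    Module.supportDim (Localization.AtPrime q) (LocalizedModule q.primeCompl M) ≤ Module.supportDim R M := by
  rw [FlatDepth.supportDim_localized_eq, Module.supportDim]
  exact Order.krullDim_le_of_strictMono (fun x => ⟨x.1, x.2.1⟩) fun _ _ h => h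

variable [Module k M] [IsScalarTower k R M] (ℳ : ℤ → AddSubgroup M) [DirectSum.Decomposition ℳ]
  [SetLike.GradedSMul 𝒜 ℳ] [Module.Finite R M] [Algebra.FiniteType k R]

include hpos h0 ℳ in
/-- The support has full dimension at the origin. -/
theorem le_supportDim_irrel (m : Ideal R) [m.IsPrime] (hm : m = posIdeal 𝒜) {n : ℕ}
    (hn : Module.supportDim R M = n) :
    (n : WithBot ℕ∞) ≤ Module.supportDim (Localization.AtPrime m) (LocalizedModule m.primeCompl M) := by
  haveI : Nontrivial R := ⟨1, 0, fun e => (Ideal.IsPrime.ne_top (I := m) inferInstance)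
    ((Ideal.eq_top_iff_one m).mpr (e ▸ m.zero_mem))⟩
  obtain ⟨G⟩ := SegreDim.exists_homGens hpos h0
  have hmi : m = G.irrel := by rw [hm, irrel_eq_posIdeal hpos h0 G]
  have hr : ringKrullDim (R ⧸ Module.annihilator R M) = n := by
    rw [← Module.supportDim_eq_ringKrullDim_quotient_annihilator]; exact hn
  rw [FlatDepth.supportDim_localized_eq]
  rw [ringKrullDim_quotient] at hr
  obtain ⟨l, hl⟩ := Order.le_krullDim_iff.mp hr.ge
  obtain ⟨p₀, hp₀, hple⟩ := Ideal.exists_minimalPrimes_le (show Module.annihilator R M ≤ l.head.1.asIdeal from l.head.2)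
  have hp₀m : p₀ ≤ m := hmi ▸ SegreDim.le_irrel G hpos h0 hp₀.1.1.ne_top
    (SegreDim.isHomogeneous_minimalPrimes (SegreDim.isHomogeneous_annihilator 𝒜 ℳ) hp₀)
  haveI := hp₀.1.1
  let A := R ⧸ p₀
  haveI : Algebra.FiniteType k A :=
    Algebra.FiniteType.of_surjective (Ideal.Quotient.mkₐ k p₀) Ideal.Quotient.mk_surjective
  haveI hmmax : m.IsMaximal := hmi ▸ SegreDim.irrel_isPrime G hpos
  let mb : Ideal A := m.map (Ideal.Quotient.mk p₀)
  have hmb : mb.IsMaximal :=
    Ideal.IsMaximal.map_of_surjective_of_ker_le Ideal.Quotient.mk_surjective (by rw [Ideal.mk_ker]; exact hp₀m)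
  have hh := DimFormula.height_add_ringKrullDim_quotient k (⟨mb, hmb.isPrime⟩ : PrimeSpectrum A)
  rw [show ringKrullDim (A ⧸ mb) = 0 from (letI := Ideal.Quotient.field mb; ringKrullDim_eq_zero_of_field _), add_zero,
    PrimeSpectrum.height_eq_orderHeight] at hh
  have hA : (n : WithBot ℕ∞) ≤ ringKrullDim A := by
    rw [← hl, ringKrullDim_quotient]
    exact Order.LTSeries.length_le_krullDim ((⟨l.length, fun i => ⟨(l i).1, hple.trans (l.monotone (Fin.zero_le i))⟩,
      fun i => l.step i⟩ : LTSeries (PrimeSpectrum.zeroLocus (R := R) p₀)))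
  rw [← hh, ← WithBot.coe_natCast, WithBot.coe_le_coe] at hA
  obtain ⟨c, hclast, hclen⟩ := Order.exists_series_of_le_height _ hA
  rw [← hclen]
  have hcm : ∀ i, (c i).asIdeal.comap (Ideal.Quotient.mk p₀) ≤ m := fun i => by
    have h := c.monotone (Fin.le_last i)
    rw [show c (Fin.last _) = c.last from rfl, hclast] at h
    refine (Ideal.comap_mono h).trans ?_
    rw [Ideal.comap_map_of_surjective' _ Ideal.Quotient.mk_surjective, Ideal.mk_ker, sup_eq_left.mpr hp₀m]
  let g : ∀ i, {x : PrimeSpectrum R // x ∈ Module.support R M ∧ x.asIdeal ≤ m} := fun i =>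
    ⟨PrimeSpectrum.comap (Ideal.Quotient.mk p₀) (c i), by
      rw [Module.support_eq_zeroLocus, PrimeSpectrum.mem_zeroLocus]
      intro a ha
      show Ideal.Quotient.mk p₀ a ∈ (c i).asIdeal
      rw [Ideal.Quotient.eq_zero_iff_mem.mpr (hp₀.1.2 ha)]
      exact zero_mem _, hcm i⟩
  exact Order.LTSeries.length_le_krullDim (⟨c.length, g, fun i => by
    refine lt_of_le_of_ne (Ideal.comap_mono (c.step i).le) fun e => ?_
    refine (c.step i).ne (PrimeSpectrum.ext (Ideal.comap_injective_of_surjective _ Ideal.Quotient.mk_surjective ?_))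
    exact e⟩ : LTSeries _)

include hpos h0 in
/-- Graded local cohomology detects the Cohen–Macaulay property. -/
theorem cm_iff_hcomp_eq_bot [Nontrivial M] (mR : HomogeneousIdeal 𝒜) (hmR : mR.toIdeal = posIdeal 𝒜)
    (E : GrLC.StarInjRes 𝒜 ℳ) {n : ℕ} (hn : Module.supportDim R M = n) :
    (∀ (q : Ideal R) [q.IsPrime], Subsingleton (LocalizedModule q.primeCompl M) ∨
        LocCoh.IsCohenMacaulayModule (Localization.AtPrime q) (LocalizedModule q.primeCompl M)) ↔
      ∀ i < n, ∀ d : ℤ, E.Hcomp mR i d = ⊥ := by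
  haveI : IsNoetherianRing R := Algebra.FiniteType.isNoetherianRing k R
  haveI : Nontrivial R := by
    rcases subsingleton_or_nontrivial R with h | h
    · exact absurd (Module.subsingleton R M) (not_subsingleton M)
    · exact h
  let m := mR.toIdeal
  haveI hmax : m.IsMaximal := by
    show mR.toIdeal.IsMaximal
    rw [hmR]
    exact posIdeal_isMaximal hpos h0
  have hloc : (n : WithBot ℕ∞) = Module.supportDim (Localization.AtPrime m) (LocalizedModule m.primeCompl M) :=
    le_antisymm (le_supportDim_irrel hpos h0 ℳ m hmR hn) (hn ▸ supportDim_localized_le_supportDim m)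
  have hns : ¬ Subsingleton (LocalizedModule m.primeCompl M) := fun h => by
    rw [(Module.supportDim_eq_bot_iff_subsingleton _ _).2 h] at hloc
    exact WithBot.bot_ne_natCast n hloc.symm
  rw [show (∀ i < n, ∀ d : ℤ, E.Hcomp mR i d = ⊥) ↔ (n : ℕ∞) ≤ LocCoh.idealDepth m M from
    (forall₂_congr fun i _ => ⟨fun h => GrLCLib.subsingleton_of_van E mR fun g => (GrLCLib.hcomp_eq_bot_iff E mR i g).1 (h g),
      fun h g => (GrLCLib.hcomp_eq_bot_iff E mR i g).2 (GrLCLib.van_of_subsingleton E mR h g)⟩).trans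
      (LocH.le_idealDepth_iff m M n).symm]
  constructor
  · intro hcm
    refine (LocH.le_idealDepth_iff_forall_prime m M n).2 fun p hp => ?_
    obtain rfl : p = ⟨m, hmax.isPrime⟩ := PrimeSpectrum.ext (hmax.eq_of_le p.isPrime.ne_top hp).symm
    rw [← WithBot.coe_le_coe, ← (hcm m).resolve_left hns]
    exact hloc.le
  · intro hdepth q _
    refine or_iff_not_imp_left.2 fun hq => ?_
    have hdm : (n : ℕ∞) ≤ LocCoh.depth (Localization.AtPrime m) (LocalizedModule m.primeCompl M) :=
      (LocH.le_idealDepth_iff_forall_prime m M n).1 hdepth ⟨m, hmax.isPrime⟩ le_rfl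
    have hcmm : LocCoh.IsCohenMacaulayModule (Localization.AtPrime m) (LocalizedModule m.primeCompl M) := by
      show _ = _
      rw [← hloc, le_antisymm (InvFin.depth_le_supportDim _ hloc.symm) hdm]
      rfl
    obtain ⟨D₀, hD₀, hsys⟩ := SegreDim.exists_system hpos h0 (SegreDim.isHomogeneous_annihilator 𝒜 ℳ)
      ((Module.supportDim_eq_ringKrullDim_quotient_annihilator (R := R) (M := M)).symm.trans hn)
    obtain ⟨f, hf, -, hint, B, hB⟩ := hsys D₀ hD₀ dvd_rfl
    let xs := (List.ofFn f).map (algebraMap R (Localization.AtPrime m))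
    have hfm : ∀ i, f i ∈ m := fun i => by
      show f i ∈ mR.toIdeal
      rw [hmR]
      exact mem_posIdeal 𝒜 (by exact_mod_cast hD₀) (hf i)
    have hxs : ∀ x ∈ xs, x ∈ IsLocalRing.maximalIdeal (Localization.AtPrime m) := fun x hx => by
      obtain ⟨a, ha, rfl⟩ := List.mem_map.1 hx
      obtain ⟨i, rfl⟩ := List.mem_ofFn.1 ha
      exact (IsLocalization.AtPrime.to_map_mem_maximal_iff (Localization.AtPrime m) m (f i)).2 (hfm i)
    have hlen : xs.length = n := by rw [List.length_map, List.length_ofFn]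
    have hregm : IsWeaklyRegular (LocalizedModule m.primeCompl M) xs := by
      refine ((Groth.Agent.S5758.result _ _ hcmm xs hxs).1).2 ?_
      refine le_antisymm ?_ (EGA41CM.supportDim_le_quotient_add _ xs hxs)
      rw [← hloc, hlen]
      refine (add_le_add (?_ : _ ≤ (0 : WithBot ℕ∞)) le_rfl).trans (zero_add _).le
      rw [Module.supportDim, Order.krullDim_nonpos_iff_forall_isMin]
      rintro ⟨P, hP⟩ ⟨Q, hQ⟩ hQP
      rw [Module.support_eq_zeroLocus, PrimeSpectrum.mem_zeroLocus] at hQ
      have hQa : ∀ a : R, a ∈ Module.annihilator R M ⊔ Ideal.span (Set.range f) →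
          algebraMap R (Localization.AtPrime m) a ∈ Q.asIdeal := fun a ha => hQ (by
        obtain ⟨u, hu, v, hv, rfl⟩ := Submodule.mem_sup.1 ha
        rw [map_add]
        refine add_mem ?_ ?_
        · refine Module.mem_annihilator.2 fun z => ?_
          obtain ⟨z, rfl⟩ := Submodule.mkQ_surjective _ z
          rw [← map_smul]
          refine (congrArg _ ?_).trans (map_zero _)
          induction z using LocalizedModule.induction_on with
          | h a t => rw [algebraMap_smul, LocalizedModule.smul'_mk, Module.mem_annihilator.1 hu a, LocalizedModule.zero_mk]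
        · refine Module.mem_annihilator.2 fun z => ?_
          obtain ⟨z, rfl⟩ := Submodule.mkQ_surjective _ z
          refine (Submodule.Quotient.mk_eq_zero _).2 (Submodule.smul_mem_smul ?_ Submodule.mem_top)
          have : Ideal.ofList xs = (Ideal.span (Set.range f)).map (algebraMap R (Localization.AtPrime m)) := by
            rw [← Ideal.map_ofList]
            exact congrArg (Ideal.map _) (congrArg Ideal.span (Set.ext fun x => by simp [List.mem_ofFn]))
          rw [this]
          exact Ideal.mem_map_of_mem _ hv)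
      have hmQ : m ≤ Q.asIdeal.comap (algebraMap R (Localization.AtPrime m)) := by
        show mR.toIdeal ≤ _
        rw [hmR]
        refine Ideal.span_le.2 fun a ha => ?_
        obtain ⟨e, he, ha⟩ := Set.mem_iUnion₂.1 ha
        have he' : (0 : ℤ) < e := he
        refine Ideal.IsPrime.mem_of_pow_mem inferInstance (B + 1) (hQa _ (hB ((B + 1) • e) ?_ _ (SetLike.pow_mem_graded _ ha)))
        rw [nsmul_eq_mul]
        push_cast
        nlinarith
      have hQmax : Q.asIdeal = IsLocalRing.maximalIdeal (Localization.AtPrime m) := by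
        refine le_antisymm (IsLocalRing.le_maximalIdeal Q.isPrime.ne_top) ?_
        rw [← IsLocalization.AtPrime.map_eq_maximalIdeal m (Localization.AtPrime m)]
        exact Ideal.map_le_iff_le_comap.2 hmQ
      show P.asIdeal ≤ Q.asIdeal
      rw [hQmax]
      exact IsLocalRing.le_maximalIdeal P.isPrime.ne_top
    have hreg := isWeaklyRegular_of_localized hpos h0 ℳ m hmR hf hregm
    have h1 := height_le_depth hpos h0 ℳ hD₀ hf hB hreg q
    have h2 := supportDim_localized_le (k := k) hint q
    obtain ⟨e, he⟩ := WithBot.ne_bot_iff_exists.1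
      (fun h => hq ((Module.supportDim_eq_bot_iff_subsingleton _ _).1 h) :
        Module.supportDim (Localization.AtPrime q) (LocalizedModule q.primeCompl M) ≠ ⊥)
    rw [← he, WithBot.coe_le_coe] at h2
    have hetop : e ≠ ⊤ := ne_top_of_le_ne_top (Ideal.height_ne_top (Ideal.IsPrime.ne_top inferInstance)) h2
    obtain ⟨e', rfl⟩ := ENat.ne_top_iff_exists.1 hetop
    show _ = _
    rw [← he, le_antisymm (InvFin.depth_le_supportDim _ he.symm) (h2.trans h1)]

end Main

end Groth.Agent.SegreLC
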