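import Groth.Agent.SegreLC.Setup
import Groth.Agent.SegreLC.CMCrit
import Groth.Agent.LocH.Grothendieck
import Groth.Agent.S19754
import Groth.Agent.SegreDim.Params

/-!
The Cohen–Macaulay property of Segre products.
-/

set_option autoImplicit false
set_option linter.unusedSectionVars false
set_option linter.style.haveILetI false
set_option backward.isDefEq.respectTransparency false
set_option backward.isDefEq.respectTransparency.types false
universe u

open scoped Classical TensorProduct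
open DirectSum

noncomputable section

namespace Groth.Agent.SegreLC

/-- The ring is Cohen–Macaulay exactly when it is so as a module over itself. -/
theorem cmRing_iff {R : Type u} [CommRing R] [IsNoetherianRing R] :
    LocCoh.IsCohenMacaulayRing R ↔ ∀ (q : Ideal R) [q.IsPrime], Subsingleton (LocalizedModule q.primeCompl R) ∨
      LocCoh.IsCohenMacaulayModule (Localization.AtPrime q) (LocalizedModule q.primeCompl R) := by
  constructor
  · intro h q _
    refine Or.inr ?_
    show _ = _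
    rw [← Module.supportDim_eq_of_equiv (InvFin.selfEquiv q), LocCoh.depth, ← LocH.idealDepth_congr (InvFin.selfEquiv q)]
    exact (h.isCohenMacaulayLocalRing_localization q).supportDim_eq_depth
  · intro h
    refine { isCohenMacaulayLocalRing_localization := fun q _ => ?_ }
    have h1 : LocCoh.IsCohenMacaulayModule (Localization.AtPrime q) (LocalizedModule q.primeCompl R) :=
      (h q).resolve_left fun hs => by
        haveI : Subsingleton (Localization.AtPrime q) := (InvFin.selfEquiv q).toEquiv.subsingleton_congr.2 hs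
        exact not_subsingleton (Localization.AtPrime q) inferInstance
    haveI : IsNoetherianRing (Localization.AtPrime q) :=
      IsLocalization.isNoetherianRing q.primeCompl _ inferInstance
    refine { supportDim_eq_depth := ?_ }
    rw [Module.supportDim_eq_of_equiv (InvFin.selfEquiv q), LocCoh.depth, LocH.idealDepth_congr (InvFin.selfEquiv q)]
    exact h1

section One

variable {k : Type u} [Field k] {R : Type u} [CommRing R] [Algebra k R] {𝒜 : ℤ → Submodule k R} [GradedAlgebra 𝒜]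
  {M : Type u} [AddCommGroup M] [Module R M] [Module k M] [IsScalarTower k R M]
  {τ : Type u} [SetLike τ M] [AddSubgroupClass τ M] {ℳ : ℤ → τ} [DirectSum.Decomposition ℳ] [SetLike.GradedSMul 𝒜 ℳ]
  (mR : HomogeneousIdeal 𝒜) (E : GrLC.StarInjRes 𝒜 ℳ)

lemma subsingleton_kpiece_iff (d : ℤ) : Subsingleton (kpiece 𝒜 ℳ d) ↔ ∀ x ∈ ℳ d, x = 0 :=
  ⟨fun h x hx => congrArg Subtype.val (h.elim ⟨x, hx⟩ 0),
    fun h => subsingleton_of_forall_eq 0 fun x => Subtype.ext (h x.1 x.2)⟩

/-- The criterion, for any presentation of the pieces. -/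
theorem cm_iff_vanish [Algebra.FiniteType k R] [Module.Finite R M] [Nontrivial M]
    (hpos : ∀ n : ℤ, n < 0 → 𝒜 n = ⊥) (h0 : 𝒜 0 = Submodule.span k {(1 : R)})
    (hmR : mR.toIdeal = posIdeal 𝒜) {r : ℕ} (hr : Module.supportDim R M = r) :
    (∀ (q : Ideal R) [q.IsPrime], Subsingleton (LocalizedModule q.primeCompl M) ∨
      LocCoh.IsCohenMacaulayModule (Localization.AtPrime q) (LocalizedModule q.primeCompl M)) ↔
      ∀ i < r, ∀ d : ℤ, E.Hcomp mR i d = ⊥ := by
  letI : DirectSum.Decomposition (GrLCLib.agPiece ℳ) := (GrLCLib.isInternal_agPiece ℳ).chooseDecomposition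
  let E' : GrLC.StarInjRes 𝒜 (GrLCLib.agPiece ℳ) :=
    { X := E.X, d := E.d, ε := E.ε, d_grHom := E.d_grHom, ε_grHom := E.ε_grHom, ε_injective := E.ε_injective,
      exact_zero := E.exact_zero, exact_succ := E.exact_succ, starInj := E.starInj }
  exact cm_iff_hcomp_eq_bot hpos h0 (GrLCLib.agPiece ℳ) mR hmR E' hr

/-- Vanishing away from the dimension for a Cohen–Macaulay module. -/
theorem hcomp_eq_bot_of_cm [Algebra.FiniteType k R] [Module.Finite R M] [Nontrivial M]
    (hpos : ∀ n : ℤ, n < 0 → 𝒜 n = ⊥) (h0 : 𝒜 0 = Submodule.span k {(1 : R)})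
    (hmR : mR.toIdeal = posIdeal 𝒜) {r : ℕ} (hr : Module.supportDim R M = r)
    (hcm : ∀ (q : Ideal R) [q.IsPrime], Subsingleton (LocalizedModule q.primeCompl M) ∨
      LocCoh.IsCohenMacaulayModule (Localization.AtPrime q) (LocalizedModule q.primeCompl M)) :
    ∀ i ≠ r, ∀ d : ℤ, E.Hcomp mR i d = ⊥ := by
  haveI : IsNoetherianRing R := Algebra.FiniteType.isNoetherianRing k R
  intro i hi d
  rcases lt_or_gt_of_ne hi with h | h
  · exact (cm_iff_vanish mR E hpos h0 hmR hr).1 hcm i h d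
  · refine (GrLCLib.hcomp_eq_bot_iff E mR i d).2 (GrLCLib.van_of_subsingleton E mR
      (LocH.subsingleton_of_supportDim_lt mR.toIdeal i M ?_) d)
    rw [hr]
    exact_mod_cast h

end One

lemma subsingleton_tensor_iff {k : Type u} [Field k] {V W : Type u} [AddCommGroup V] [Module k V] [AddCommGroup W]
    [Module k W] : Subsingleton (V ⊗[k] W) ↔ Subsingleton V ∨ Subsingleton W := by
  constructor
  · intro h
    rcases subsingleton_or_nontrivial W with hW | hW
    · exact Or.inr hW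
    · exact Or.inl ((Module.FaithfullyFlat.subsingleton_tensorProduct_iff_left k V).1 h)
  · rintro (h | h) <;> infer_instance

lemma surjective_map_iff {k : Type u} [Field k] {V V' W W' : Type u} [AddCommGroup V] [Module k V] [AddCommGroup V']
    [Module k V'] [AddCommGroup W] [Module k W] [AddCommGroup W'] [Module k W'] {f : V →ₗ[k] V'} {g : W →ₗ[k] W'}
    (hg : Function.Bijective g) :
    Function.Surjective (TensorProduct.map f g) ↔ Function.Surjective f ∨ Subsingleton W := by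
  constructor
  · intro h
    rcases subsingleton_or_nontrivial W with hW | hW
    · exact Or.inr hW
    · refine Or.inl ((Module.FaithfullyFlat.lTensor_surjective_iff_surjective k W f).1 fun y => ?_)
      obtain ⟨x, hx⟩ := h (TensorProduct.map LinearMap.id g (TensorProduct.comm k W V' y))
      refine ⟨TensorProduct.comm k V W x, ?_⟩
      have e : TensorProduct.map f g = TensorProduct.map LinearMap.id g ∘ₗ LinearMap.rTensor W f :=
        TensorProduct.ext' fun _ _ => rfl
      rw [e, LinearMap.comp_apply] at hx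
      have h1 := (TensorProduct.map_injective_of_flat_flat LinearMap.id g Function.injective_id hg.injective) hx
      have e2 : ∀ z, LinearMap.lTensor W f (TensorProduct.comm k V W z) =
          TensorProduct.comm k V' W (LinearMap.rTensor W f z) := fun z => by
        induction z using TensorProduct.induction_on with
        | zero => simp
        | tmul a b => rfl
        | add a b ha hb => simp only [map_add, ha, hb]
      rw [e2, h1]
      clear h1 hx e2
      induction y using TensorProduct.induction_on with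
      | zero => simp
      | tmul a b => rfl
      | add a b ha hb => simp only [map_add, ha, hb]
  · rintro (h | h)
    · exact TensorProduct.map_surjective h hg.surjective
    · haveI : Subsingleton W' := hg.surjective.subsingleton
      exact fun y => ⟨0, Subsingleton.elim _ _⟩

section Two

variable {k : Type u} [Field k] {R : Type u} [CommRing R] [Algebra k R] {S : Type u} [CommRing S] [Algebra k S]
  {T : Type u} [CommRing T] [Algebra k T] {𝒜 : ℤ → Submodule k R} [GradedAlgebra 𝒜]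
  {ℬ : ℤ → Submodule k S} [GradedAlgebra ℬ] {𝒯 : ℤ → Submodule k T} [GradedAlgebra 𝒯]
  (D : Datum 𝒜 ℬ 𝒯)
variable {M : Type u} [AddCommGroup M] [Module R M] [Module k M] [IsScalarTower k R M]
  {τ : Type u} [SetLike τ M] [AddSubgroupClass τ M] {ℳ : ℤ → τ} [DirectSum.Decomposition ℳ] [SetLike.GradedSMul 𝒜 ℳ]
  {N : Type u} [AddCommGroup N] [Module S N] [Module k N] [IsScalarTower k S N]
  {τ' : Type u} [SetLike τ' N] [AddSubgroupClass τ' N] {𝒩 : ℤ → τ'} [DirectSum.Decomposition 𝒩] [SetLike.GradedSMul ℬ 𝒩]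
  {P : Type u} [AddCommGroup P] [Module T P] [Module k P] [IsScalarTower k T P]
  {υ : Type u} [SetLike υ P] [AddSubgroupClass υ P] {𝒬 : ℤ → υ} [DirectSum.Decomposition 𝒬]
  [SetLike.GradedSMul 𝒯 𝒬] {φ : P →ₗ[k] M ⊗[k] N} (hP : GrSeg.IsSegreMod D.ψ ℳ 𝒩 𝒬 φ)
  (G : Gens D) (mR : HomogeneousIdeal 𝒜) (hmR : mR.toIdeal = posIdeal 𝒜)
  (mS : HomogeneousIdeal ℬ) (hmS : mS.toIdeal = posIdeal ℬ)
  (mT : HomogeneousIdeal 𝒯) (hmT : mT.toIdeal = posIdeal 𝒯)
  (E : GrLC.StarInjRes 𝒜 ℳ) (F : GrLC.StarInjRes ℬ 𝒩) (EP : GrLC.StarInjRes 𝒯 𝒬)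

lemma subsingleton_KT_iff {P Q : Cx k} {n : ℕ} : Subsingleton (KT P Q n) ↔
    ∀ a b, a + b = n → Subsingleton (P.Coh a) ∨ Subsingleton (Q.Coh b) := by
  constructor
  · intro h a b hab
    refine (subsingleton_tensor_iff (k := k)).1 ⟨fun x y => ?_⟩
    have := congrFun (h.elim (Pi.single (M := fun p : BiCx.Idx n => P.Coh p.1.1 ⊗[k] Q.Coh p.1.2) ⟨(a, b), hab⟩ x)
      (Pi.single (M := fun p : BiCx.Idx n => P.Coh p.1.1 ⊗[k] Q.Coh p.1.2) ⟨(a, b), hab⟩ y)) ⟨(a, b), hab⟩
    rwa [Pi.single_eq_same, Pi.single_eq_same] at this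
  · intro h
    haveI : ∀ p : BiCx.Idx n, Subsingleton (P.Coh p.1.1 ⊗[k] Q.Coh p.1.2) := fun p =>
      subsingleton_tensor_iff.2 (h p.1.1 p.1.2 p.2)
    exact Pi.instSubsingleton

include hP G hmR hmS hmT in
/-- Vanishing below the top degree when both factors have depth at least two. -/
theorem vanish_iff_of_two {r s : ℕ} (h2r : 2 ≤ r) (h2s : 2 ≤ s)
    (hM : ∀ i ≠ r, ∀ d : ℤ, E.Hcomp mR i d = ⊥) (hN : ∀ i ≠ s, ∀ d : ℤ, F.Hcomp mS i d = ⊥) :
    (∀ q < r + s - 1, ∀ d : ℤ, EP.Hcomp mT q d = ⊥) ↔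
      (∀ d : ℤ, (∀ x ∈ ℳ d, x = 0) ∨ F.Hcomp mS s d = ⊥) ∧ ∀ d : ℤ, E.Hcomp mR r d = ⊥ ∨ ∀ y ∈ 𝒩 d, y = 0 := by
  have hE : ∀ d, Function.Bijective (augQuot E d mR.toIdeal) := fun d =>
    augQuot_bijective mR E d fun q hq => hM q (by omega) d
  have hF : ∀ d, Function.Bijective (augQuot F d mS.toIdeal) := fun d =>
    augQuot_bijective mS F d fun q hq => hN q (by omega) d
  have hE0 : ∀ d, Subsingleton ((cxQuot E d mR.toIdeal).Coh 0) ↔ ∀ x ∈ ℳ d, x = 0 := fun d =>
    (LinearEquiv.ofBijective _ (hE d)).toEquiv.subsingleton_congr.symm.trans (subsingleton_kpiece_iff d)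
  have hF0 : ∀ d, Subsingleton ((cxQuot F d mS.toIdeal).Coh 0) ↔ ∀ x ∈ 𝒩 d, x = 0 := fun d =>
    (LinearEquiv.ofBijective _ (hF d)).toEquiv.subsingleton_congr.symm.trans (subsingleton_kpiece_iff d)
  have hKT : ∀ (j : ℕ) (d : ℤ), EP.Hcomp mT (j + 2) d = ⊥ ↔ ∀ a b, a + b = j + 1 →
      Subsingleton ((cxQuot E d mR.toIdeal).Coh a) ∨ Subsingleton ((cxQuot F d mS.toIdeal).Coh b) := fun j d =>
    (hcomp_seg_eq_bot_iff D hP G mR hmR mS hmS mT hmT E F EP d (j + 2)).trans
      ((segGamSuccEquiv E F d mR.toIdeal mS.toIdeal j).toEquiv.subsingleton_congr.trans subsingleton_KT_iff)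
  constructor
  · intro h
    refine ⟨fun d => ?_, fun d => ?_⟩
    · obtain ⟨j, rfl⟩ := Nat.exists_eq_add_of_le' h2s
      rcases (hKT j d).1 (h (j + 2) (by omega) d) 0 (j + 1) (zero_add _) with h1 | h1
      · exact Or.inl ((hE0 d).1 h1)
      · exact Or.inr ((subsingleton_quot_succ mS F d j).1 h1)
    · obtain ⟨j, rfl⟩ := Nat.exists_eq_add_of_le' h2r
      rcases (hKT j d).1 (h (j + 2) (by omega) d) (j + 1) 0 (add_zero _) with h1 | h1
      · exact Or.inl ((subsingleton_quot_succ mR E d j).1 h1)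
      · exact Or.inr ((hF0 d).1 h1)
  · rintro ⟨h1, h2⟩ q hq d
    match q with
    | 0 =>
      exact (hcomp_seg_eq_bot_iff D hP G mR hmR mS hmS mT hmT E F EP d 0).2 ((subsingleton_segGam_zero_iff E F d _ _).2
        (TensorProduct.map_injective_of_flat_flat _ _ (hE d).injective (hF d).injective))
    | 1 =>
      exact (hcomp_seg_eq_bot_iff D hP G mR hmR mS hmS mT hmT E F EP d 1).2 ((subsingleton_segGam_one_iff E F d _ _).2
        (TensorProduct.map_surjective (hE d).surjective (hF d).surjective))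
    | j + 2 =>
      refine (hKT j d).2 fun a b hab => ?_
      match a, b with
      | 0, 0 => omega
      | 0, b + 1 =>
        by_cases hb : b + 2 = s
        · exact (h1 d).imp (hE0 d).2 fun h => (subsingleton_quot_succ mS F d b).2 (hb ▸ h)
        · exact Or.inr ((subsingleton_quot_succ mS F d b).2 (hN (b + 2) hb d))
      | a + 1, 0 =>
        by_cases ha : a + 2 = r
        · exact (h2 d).imp (fun h => (subsingleton_quot_succ mR E d a).2 (ha ▸ h)) (hF0 d).2
        · exact Or.inl ((subsingleton_quot_succ mR E d a).2 (hM (a + 2) ha d))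
      | a + 1, b + 1 =>
        by_cases ha : a + 2 = r
        · exact Or.inr ((subsingleton_quot_succ mS F d b).2 (hN (b + 2) (by omega) d))
        · exact Or.inl ((subsingleton_quot_succ mR E d a).2 (hM (a + 2) ha d))

include hP G hmR hmS hmT in
/-- Vanishing below the top degree when one factor is one-dimensional. -/
theorem vanish_iff_of_one {s : ℕ} (h2s : 2 ≤ s)
    (hM : ∀ i ≠ 1, ∀ d : ℤ, E.Hcomp mR i d = ⊥) (hN : ∀ i ≠ s, ∀ d : ℤ, F.Hcomp mS i d = ⊥) :
    (∀ q < s, ∀ d : ℤ, EP.Hcomp mT q d = ⊥) ↔ ∀ d : ℤ, E.Hcomp mR 1 d = ⊥ ∨ ∀ y ∈ 𝒩 d, y = 0 := by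
  have hEi : ∀ d, Function.Injective (augQuot E d mR.toIdeal) := fun d =>
    (augQuot_injective_iff E d _).2 ((hcomp_eq_bot_iff_gam mR E d 0).1 (hM 0 (by omega) d))
  have hF : ∀ d, Function.Bijective (augQuot F d mS.toIdeal) := fun d =>
    augQuot_bijective mS F d fun q hq => hN q (by omega) d
  have hone : ∀ d, EP.Hcomp mT 1 d = ⊥ ↔ (E.Hcomp mR 1 d = ⊥ ∨ ∀ y ∈ 𝒩 d, y = 0) := fun d =>
    (hcomp_seg_eq_bot_iff D hP G mR hmR mS hmS mT hmT E F EP d 1).trans
      ((subsingleton_segGam_one_iff E F d _ _).trans ((surjective_map_iff (hF d)).trans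
        (or_congr ((augQuot_surjective_iff E d _).trans (hcomp_eq_bot_iff_gam mR E d 1).symm) (subsingleton_kpiece_iff d))))
  refine ⟨fun h d => (hone d).1 (h 1 (by omega) d), fun h q hq d => ?_⟩
  match q with
  | 0 =>
    exact (hcomp_seg_eq_bot_iff D hP G mR hmR mS hmS mT hmT E F EP d 0).2 ((subsingleton_segGam_zero_iff E F d _ _).2
      (TensorProduct.map_injective_of_flat_flat _ _ (hEi d) (hF d).injective))
  | 1 => exact (hone d).2 (h d)
  | j + 2 =>
    refine (hcomp_seg_eq_bot_iff D hP G mR hmR mS hmS mT hmT E F EP d (j + 2)).2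
      ((segGamSuccEquiv E F d mR.toIdeal mS.toIdeal j).toEquiv.subsingleton_congr.2 (subsingleton_KT_iff.2 fun a b hab => ?_))
    match a, b with
    | a + 1, b => exact Or.inl ((subsingleton_quot_succ mR E d a).2 (hM (a + 2) (by omega) d))
    | 0, 0 => omega
    | 0, b + 1 => exact Or.inr ((subsingleton_quot_succ mS F d b).2 (hN (b + 2) (by omega) d))

include hP G hmR hmS hmT in
/-- Torsion-freeness is inherited by Segre products. -/
theorem vanish_zero (hM : ∀ d : ℤ, E.Hcomp mR 0 d = ⊥) (hN : ∀ d : ℤ, F.Hcomp mS 0 d = ⊥) (d : ℤ) :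
    EP.Hcomp mT 0 d = ⊥ :=
  (hcomp_seg_eq_bot_iff D hP G mR hmR mS hmS mT hmT E F EP d 0).2 ((subsingleton_segGam_zero_iff E F d _ _).2
    (TensorProduct.map_injective_of_flat_flat _ _
      ((augQuot_injective_iff E d _).2 ((hcomp_eq_bot_iff_gam mR E d 0).1 (hM d)))
      ((augQuot_injective_iff F d _).2 ((hcomp_eq_bot_iff_gam mS F d 0).1 (hN d)))))

end Two

section Finite

variable {k : Type u} [Field k] {R : Type u} [CommRing R] [Algebra k R] {S : Type u} [CommRing S] [Algebra k S]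
  {T : Type u} [CommRing T] [Algebra k T] {𝒜 : ℤ → Submodule k R} [GradedAlgebra 𝒜]
  {ℬ : ℤ → Submodule k S} [GradedAlgebra ℬ] {𝒯 : ℤ → Submodule k T} [GradedAlgebra 𝒯]
variable {M : Type u} [AddCommGroup M] [Module R M] [Module k M] [IsScalarTower k R M]
  {ℳ : ℤ → AddSubgroup M} [DirectSum.Decomposition ℳ] [SetLike.GradedSMul 𝒜 ℳ] [Module.Finite R M]
  {N : Type u} [AddCommGroup N] [Module S N] [Module k N] [IsScalarTower k S N]
  {𝒩 : ℤ → AddSubgroup N} [DirectSum.Decomposition 𝒩] [SetLike.GradedSMul ℬ 𝒩] [Module.Finite S N]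
  {P : Type u} [AddCommGroup P] [Module T P] [Module k P] [IsScalarTower k T P]
  {𝒬 : ℤ → AddSubgroup P} [DirectSum.Decomposition 𝒬] {φ : P →ₗ[k] M ⊗[k] N}

/-- A Segre product of finite graded modules is finite. -/
theorem finite_segreMod [Algebra.FiniteType k R] [Algebra.FiniteType k S] (D : Datum 𝒜 ℬ 𝒯)
    (hP : GrSeg.IsSegreMod D.ψ ℳ 𝒩 𝒬 φ) (hposR : ∀ n : ℤ, n < 0 → 𝒜 n = ⊥)
    (h0R : 𝒜 0 = Submodule.span k {(1 : R)}) (hposS : ∀ n : ℤ, n < 0 → ℬ n = ⊥)
    (h0S : ℬ 0 = Submodule.span k {(1 : S)}) : Module.Finite T P := by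
  obtain ⟨r, D₁, hD₁, hR⟩ := SegreDim.exists_params_any (ℳ := ℳ) hposR h0R
  obtain ⟨s, D₂, hD₂, hS⟩ := SegreDim.exists_params_any (ℳ := 𝒩) hposS h0S
  have hD := Nat.mul_pos hD₁ hD₂
  obtain ⟨f, hf, Bf, hBf⟩ := hR (D₁ * D₂) hD (dvd_mul_right _ _)
  obtain ⟨g, hg, Bg, hBg⟩ := hS (D₁ * D₂) hD (dvd_mul_left _ _)
  obtain ⟨GR⟩ := SegreDim.exists_homGens hposR h0R
  obtain ⟨GS⟩ := SegreDim.exists_homGens hposS h0S
  obtain ⟨z, hz⟩ := SegreDim.exists_preimages D.hT hf hg
  haveI := SegreDim.finite_adjoin hposR GR.piece_fg GS.piece_fg hP hD hf hBf hg hBg z hz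
  exact Module.Finite.of_restrictScalars_finite
    (MvPolynomial.aeval z : MvPolynomial (Fin r × Fin s) k →ₐ[k] T).range T P

end Finite

end Groth.Agent.SegreLC
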