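import Groth.Agent.SegreDim.Std
import Groth.Agent.SegreDim.Noether
import Groth.Agent.GrLCLib.EndDeg

/-!
Pieces of standard graded algebras of positive dimension; negative end degree.
-/

set_option autoImplicit false
set_option linter.unusedSectionVars false
universe u

open scoped Classical
open DirectSum

noncomputable section

namespace Groth.Agent.SegreLC

variable {k : Type u} [Field k] {R : Type u} [CommRing R] [Algebra k R] {𝒜 : ℤ → Submodule k R} [GradedAlgebra 𝒜]

/-- In a standard graded algebra of positive dimension no piece of nonnegative degree vanishes. -/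
theorem piece_ne_bot [Algebra.FiniteType k R] (hpos : ∀ n : ℤ, n < 0 → 𝒜 n = ⊥) (h0 : 𝒜 0 = Submodule.span k {(1 : R)})
    (hstd : Ideal.span (⋃ n ∈ Set.Ioi (0 : ℤ), (𝒜 n : Set R)) = Ideal.span ((𝒜 1 : Submodule k R) : Set R))
    {r : ℕ} (hr : ringKrullDim R = r) (h1 : 1 ≤ r) (n : ℤ) (hn : 0 ≤ n) : 𝒜 n ≠ ⊥ := by
  intro hbot
  haveI : Nontrivial R := by
    rcases subsingleton_or_nontrivial R with h | h
    · rw [ringKrullDim_eq_bot_of_subsingleton] at hr
      simp at hr
    · exact h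
  have hup : ∀ j : ℕ, 𝒜 (n + j) = ⊥ := by
    intro j
    induction j with
    | zero => simpa using hbot
    | succ j ih =>
      refine (Submodule.eq_bot_iff _).2 fun x hx => ?_
      have h := SegreDim.std_piece hstd (by omega) hx
      rw [show n + ((j + 1 : ℕ) : ℤ) - 1 = n + j by omega] at h
      refine (Submodule.mem_bot k).1 (Submodule.span_le.2 ?_ h)
      rintro _ ⟨a, -, c, hc, rfl⟩
      rw [ih, Submodule.mem_bot] at hc
      rw [hc, mul_zero, SetLike.mem_coe, Submodule.mem_bot]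
  obtain ⟨D₀, hD₀, h⟩ := SegreDim.exists_system hpos h0 (Ideal.IsHomogeneous.bot 𝒜)
    (r := r) ((ringKrullDim_eq_of_ringEquiv (RingEquiv.quotientBot R)).trans hr)
  obtain ⟨f, hf, hfree, -⟩ := h (D₀ * (n.toNat + 1)) (by positivity) (Dvd.intro _ rfl)
  have hle : n ≤ ((D₀ * (n.toNat + 1) : ℕ) : ℤ) := by
    have : n.toNat + 1 ≤ D₀ * (n.toNat + 1) := Nat.le_mul_of_pos_left _ hD₀
    omega
  obtain ⟨j, hj⟩ := Int.le.dest hle
  have h0f := hf ⟨0, h1⟩
  rw [← hj, hup, Submodule.mem_bot] at h0f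
  exact MvPolynomial.X_ne_zero (⟨0, h1⟩ : Fin r) (hfree _ (by rw [MvPolynomial.aeval_X, h0f]; exact zero_mem _))

theorem endDeg_neg_iff {R : Type u} [CommRing R] {σ : Type u} [SetLike σ R] [AddSubgroupClass σ R] {𝒜 : ℤ → σ}
    [GradedRing 𝒜] {M : Type u} [AddCommGroup M] [Module R M] {τ : Type u} [SetLike τ M] [AddSubgroupClass τ M]
    {ℳ : ℤ → τ} [DirectSum.Decomposition ℳ] [SetLike.GradedSMul 𝒜 ℳ]
    {E : GrLC.StarInjRes 𝒜 ℳ} {a : HomogeneousIdeal 𝒜} {i : ℕ} :
    GrLC.endDeg (E.Hgr a i) < 0 ↔ ∀ e : ℤ, 0 ≤ e → E.Hcomp a i e = ⊥ := by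
  have h : ∀ t : WithBot (WithTop ℤ), t < 0 ↔ t ≤ (((-1 : ℤ) : WithTop ℤ) : WithBot (WithTop ℤ)) := by
    intro t
    induction t with
    | bot => simp
    | coe t =>
      rw [← WithBot.coe_zero, WithBot.coe_lt_coe, WithBot.coe_le_coe]
      induction t with
      | top => simp
      | coe t =>
        rw [← WithTop.coe_zero, WithTop.coe_lt_coe, WithTop.coe_le_coe]
        omega
  rw [h, GrLCLib.endDeg_le_iff]
  exact forall_congr' fun e => ⟨fun h he => (GrLCLib.hcomp_eq_bot_iff E a i e).2 (h (by omega)),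
    fun h he => (GrLCLib.hcomp_eq_bot_iff E a i e).1 (h (by omega))⟩

end Groth.Agent.SegreLC
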