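import Groth.Agent.SegreLC.Apps
import Groth.Agent.SegreLC.CanonPair

/-!
The top local cohomology of a Segre product and the pieces of a *canonical module.
-/

set_option autoImplicit false
set_option linter.unusedSectionVars false
set_option linter.style.haveILetI false
set_option backward.isDefEq.respectTransparency false
set_option backward.isDefEq.respectTransparency.types false
universe u

open scoped Classical TensorProduct
open DirectSum Groth.Agent.GrLCLib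

noncomputable section

namespace Groth.Agent.SegreLC

section One

variable {k : Type u} [Field k] {R : Type u} [CommRing R] [Algebra k R] {𝒜 : ℤ → Submodule k R} [GradedAlgebra 𝒜]
  {M : Type u} [AddCommGroup M] [Module R M]
  {τ : Type u} [SetLike τ M] [AddSubgroupClass τ M] {ℳ : ℤ → τ} [DirectSum.Decomposition ℳ] [SetLike.GradedSMul 𝒜 ℳ]
  (hpos : ∀ n : ℤ, n < 0 → 𝒜 n = ⊥) (h0 : 𝒜 0 = Submodule.span k {(1 : R)})
  (mR : HomogeneousIdeal 𝒜) (hmR : mR.toIdeal = posIdeal 𝒜)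

/-- Local cohomology vanishes above the dimension. -/
theorem hcomp_eq_bot_of_dim_lt [Algebra.FiniteType k R] [Module.Finite R M] (E : GrLC.StarInjRes 𝒜 ℳ) {r : ℕ}
    (hr : Module.supportDim R M = r) {i : ℕ} (hi : r < i) (d : ℤ) : E.Hcomp mR i d = ⊥ := by
  haveI : IsNoetherianRing R := Algebra.FiniteType.isNoetherianRing k R
  refine (GrLCLib.hcomp_eq_bot_iff E mR i d).2 (GrLCLib.van_of_subsingleton E mR
    (LocH.subsingleton_of_supportDim_lt mR.toIdeal i M ?_) d)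
  rw [hr]
  exact_mod_cast hi

include hmR hpos in
lemma sub_pr_zero_mem_pos (x : R) : x - pr 𝒜 0 x ∈ mR.toIdeal := by
  induction x using DirectSum.Decomposition.inductionOn 𝒜 with
  | zero => simp
  | @homogeneous i q =>
    rcases lt_trichotomy i 0 with h | rfl | h
    · rw [eq_zero_of_neg hpos i h _ q.2]; simp
    · rw [pr_of_mem 𝒜 q.2, sub_self]; exact zero_mem _
    · rw [pr_of_mem_ne 𝒜 q.2 h.ne', sub_zero]; exact hmR ▸ mem_posIdeal 𝒜 h q.2
  | add a b ha hb => rw [map_add, add_sub_add_comm]; exact add_mem ha hb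

variable {E' : Type u} [AddCommGroup E'] [Module R E'] {𝓔 : ℤ → AddSubgroup E'} [DirectSum.Decomposition 𝓔]
  [SetLike.GradedSMul 𝒜 𝓔] {e : (R ⧸ mR.toIdeal) →ₗ[R] E'}
  {C : Type u} [AddCommGroup C] [Module R C] {𝒞 : ℤ → AddSubgroup C} [DirectSum.Decomposition 𝒞]
  [SetLike.GradedSMul 𝒜 𝒞] {n : ℕ} (I : GrLC.StarInjRes 𝒜 𝒜)

include hpos h0 hmR in
/-- The pieces of a *canonical module have the dimension of the opposite pieces of the top cohomology. -/
theorem finrank_canonical [Algebra.FiniteType k R] [Nontrivial R]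
    (he : GrLC.IsStarInjHull 𝒜 (GrLC.quotGr 𝒜 mR) 𝓔 e) (hC : GrLC.IsStarCanonical 𝒜 𝒞 𝓔 mR n I) (j : ℤ) :
    Module.finrank (GrLC.deg0 𝒜) (GrLC.comp 𝒜 𝒞 j) = Module.finrank (GrLC.deg0 𝒜) (I.Hcomp mR n (-j)) := by
  haveI : IsNoetherianRing R := Algebra.FiniteType.isNoetherianRing k R
  have hF : IsField (GrLC.deg0 𝒜) := (deg0Equiv h0).symm.toMulEquiv.isField (Field.toIsField k)
  obtain ⟨β, -, hinj, hsurj⟩ := exists_pairing (eq_zero_of_neg hpos) hF (sub_pr_zero_mem_pos hpos mR hmR)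
    (hmR ▸ (posIdeal_isMaximal hpos h0).ne_top) he hC
  letI : Field (GrLC.deg0 𝒜) := hF.toField
  let U : GrLC.comp 𝒜 𝒞 j →ₗ[GrLC.deg0 𝒜] Module.Dual (GrLC.deg0 𝒜) (I.Hcomp mR n (-j)) :=
    (β.compl₂ (I.Hcomp mR n (-j)).subtype).comp (GrLC.comp 𝒜 𝒞 j).subtype
  have hU : Function.Bijective U := by
    refine ⟨(injective_iff_map_eq_zero U).2 fun x hx => Subtype.ext ?_, fun L => ?_⟩
    · exact hinj j x x.2 fun h hh => LinearMap.congr_fun hx ⟨h, hh⟩
    · obtain ⟨L', hL'⟩ := LinearMap.exists_extend L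
      obtain ⟨x, hx, hxL⟩ := hsurj j L'
      exact ⟨⟨x, hx⟩, LinearMap.ext fun h => (hxL h h.2).trans (LinearMap.congr_fun hL' h)⟩
  exact (LinearEquiv.ofBijective U hU).finrank_eq.trans Subspace.dual_finrank_eq

end One

variable {k : Type u} [Field k] {R : Type u} [CommRing R] [Algebra k R] {S : Type u} [CommRing S] [Algebra k S]
  {T : Type u} [CommRing T] [Algebra k T] {𝒜 : ℤ → Submodule k R} [GradedAlgebra 𝒜]
  {ℬ : ℤ → Submodule k S} [GradedAlgebra ℬ] {𝒯 : ℤ → Submodule k T} [GradedAlgebra 𝒯]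
  (D : Datum 𝒜 ℬ 𝒯)
variable {M : Type u} [AddCommGroup M] [Module R M] [Module k M] [IsScalarTower k R M]
  {τ : Type u} [SetLike τ M] [AddSubgroupClass τ M] {ℳ : ℤ → τ} [DirectSum.Decomposition ℳ] [SetLike.GradedSMul 𝒜 ℳ]
  {N : Type u} [AddCommGroup N] [Module S N] [Module k N] [IsScalarTower k S N]
  {τ' : Type u} [SetLike τ' N] [AddSubgroupClass τ' N] {𝒩 : ℤ → τ'} [DirectSum.Decomposition 𝒩] [SetLike.GradedSMul ℬ 𝒩]
  {P : Type u} [AddCommGroup P] [Module T P] [Module k P] [IsScalarTower k T P]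
  {υ : Type u} [SetLike υ P] [AddSubgroupClass υ P] {𝒬 : ℤ → υ} [DirectSum.Decomposition 𝒬]
  [SetLike.GradedSMul 𝒯 𝒬] {φ : P →ₗ[k] M ⊗[k] N} (hP : GrSeg.IsSegreMod D.ψ ℳ 𝒩 𝒬 φ)
  (G : Gens D) (mR : HomogeneousIdeal 𝒜) (hmR : mR.toIdeal = posIdeal 𝒜)
  (mS : HomogeneousIdeal ℬ) (hmS : mS.toIdeal = posIdeal ℬ)
  (mT : HomogeneousIdeal 𝒯) (hmT : mT.toIdeal = posIdeal 𝒯)
  (E : GrLC.StarInjRes 𝒜 ℳ) (F : GrLC.StarInjRes ℬ 𝒩) (EP : GrLC.StarInjRes 𝒯 𝒬) (d : ℤ)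

include hP G hmR hmS hmT in
/-- The dimension of the pieces of the top local cohomology of a Segre product. -/
theorem finrank_seg_top [Nontrivial R] [Nontrivial S] [Nontrivial T]
    (h0R : 𝒜 0 = Submodule.span k {(1 : R)}) [Algebra.FiniteType k R] [Module.Finite R M]
    (h0S : ℬ 0 = Submodule.span k {(1 : S)}) [Algebra.FiniteType k S] [Module.Finite S N]
    (h0T : 𝒯 0 = Submodule.span k {(1 : T)}) {r s : ℕ} (h2r : 2 ≤ r) (h2s : 2 ≤ s)
    (hr : Module.supportDim R M = r) (hs : Module.supportDim S N = s) :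
    Module.finrank (GrLC.deg0 𝒯) (EP.Hcomp mT (r + s - 1) d) =
      Module.finrank (GrLC.deg0 𝒜) (E.Hcomp mR r d) * Module.finrank (GrLC.deg0 ℬ) (F.Hcomp mS s d) := by
  obtain ⟨r', rfl⟩ := Nat.exists_eq_add_of_le' h2r
  obtain ⟨s', rfl⟩ := Nat.exists_eq_add_of_le' h2s
  rw [finrank_gam mR E d h0R, finrank_gam mS F d h0S, finrank_seg D hP G mR hmR mS hmS mT hmT E F EP d h0T]
  have hq : r' + 2 + (s' + 2) - 1 = r' + s' + 1 + 1 + 1 := by omega
  rw [hq, (segGamSuccEquiv E F d mR.toIdeal mS.toIdeal (r' + s' + 1)).finrank_eq]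
  let p₀ : BiCx.Idx (r' + s' + 1 + 1) := ⟨(r' + 1, s' + 1), by show r' + 1 + (s' + 1) = _; omega⟩
  have hz : ∀ p : BiCx.Idx (r' + s' + 1 + 1), p ≠ p₀ →
      Subsingleton ((cxQuot E d mR.toIdeal).Coh p.1.1 ⊗[k] (cxQuot F d mS.toIdeal).Coh p.1.2) := by
    rintro ⟨⟨a, b⟩, hab⟩ hne
    refine subsingleton_tensor_iff.2 ?_
    have hab' : a + b = r' + s' + 1 + 1 := hab
    rcases lt_trichotomy a (r' + 1) with h | rfl | h
    · obtain ⟨b', rfl⟩ : ∃ b', b = b' + 1 := ⟨b - 1, by omega⟩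
      exact Or.inr ((subsingleton_quot_succ mS F d b').2 (hcomp_eq_bot_of_dim_lt mS F hs (by omega) d))
    · exact absurd (Subtype.ext (Prod.ext rfl (show b = s' + 1 by omega)) : (⟨(r' + 1, b), hab⟩ : BiCx.Idx _) = p₀) hne
    · obtain ⟨a', rfl⟩ : ∃ a', a = a' + 1 := ⟨a - 1, by omega⟩
      exact Or.inl ((subsingleton_quot_succ mR E d a').2 (hcomp_eq_bot_of_dim_lt mR E hr (by omega) d))
  let π : KT (cxQuot E d mR.toIdeal) (cxQuot F d mS.toIdeal) (r' + s' + 1 + 1) →ₗ[k]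
      (cxQuot E d mR.toIdeal).Coh (r' + 1) ⊗[k] (cxQuot F d mS.toIdeal).Coh (s' + 1) :=
    LinearMap.proj (R := k) (φ := fun p : BiCx.Idx (r' + s' + 1 + 1) =>
      (cxQuot E d mR.toIdeal).Coh p.1.1 ⊗[k] (cxQuot F d mS.toIdeal).Coh p.1.2) p₀
  have hπ : Function.Bijective π := by
    refine ⟨fun x y h => funext fun p => ?_, fun v => ⟨Pi.single (M := fun p : BiCx.Idx (r' + s' + 1 + 1) =>
        (cxQuot E d mR.toIdeal).Coh p.1.1 ⊗[k] (cxQuot F d mS.toIdeal).Coh p.1.2) p₀ v, Pi.single_eq_same (M := fun p : BiCx.Idx (r' + s' + 1 + 1) =>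
        (cxQuot E d mR.toIdeal).Coh p.1.1 ⊗[k] (cxQuot F d mS.toIdeal).Coh p.1.2) p₀ v⟩⟩
    rcases eq_or_ne p p₀ with rfl | hne
    · exact h
    · exact (hz p hne).elim _ _
  rw [(LinearEquiv.ofBijective π hπ).finrank_eq, Module.finrank_tensorProduct,
    (quotSuccEquiv E d _ r').finrank_eq, (quotSuccEquiv F d _ s').finrank_eq]

end Groth.Agent.SegreLC
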