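import Groth.Agent.SegreLC.HullDual
import Groth.Agent.SegreLC.Top

/-!
A perfect balanced pairing with the top cohomology makes a module a *canonical module.
-/

set_option autoImplicit false
set_option linter.unusedSectionVars false
set_option linter.style.haveILetI false
set_option backward.isDefEq.respectTransparency false
set_option backward.isDefEq.respectTransparency.types false
universe u

open scoped Classical
open DirectSum Groth.Agent.GrLCLib

noncomputable section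

namespace Groth.Agent.SegreLC

lemma deg0_smul_coe {k : Type u} [Field k] {R : Type u} [CommRing R] [Algebra k R] {𝒜 : ℤ → Submodule k R}
    [GradedAlgebra 𝒜] [Nontrivial R] (h0 : 𝒜 0 = Submodule.span k {(1 : R)}) {V : Type u} [AddCommGroup V]
    [Module R V] [Module k V] [IsScalarTower k R V] (c : k) (x : V) : deg0Equiv h0 c • x = c • x :=
  algebraMap_smul R c x

variable {k : Type u} [Field k] {T : Type u} [CommRing T] [Algebra k T] {𝒯 : ℤ → Submodule k T} [GradedAlgebra 𝒯]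
  (hpos : ∀ n : ℤ, n < 0 → 𝒯 n = ⊥) (h0 : 𝒯 0 = Submodule.span k {(1 : T)})
  (mT : HomogeneousIdeal 𝒯) (hmT : mT.toIdeal = posIdeal 𝒯)
  {E' : Type u} [AddCommGroup E'] [Module T E'] {𝓔 : ℤ → AddSubgroup E'} [DirectSum.Decomposition 𝓔]
  [SetLike.GradedSMul 𝒯 𝓔] {e : (T ⧸ mT.toIdeal) →ₗ[T] E'}
  {C : Type u} [AddCommGroup C] [Module T C] [Module k C] [IsScalarTower k T C]
  {𝒞 : ℤ → AddSubgroup C} [DirectSum.Decomposition 𝒞] [SetLike.GradedSMul 𝒯 𝒞] {n : ℕ}
  (I : GrLC.StarInjRes 𝒯 𝒯)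

set_option maxHeartbeats 1600000 in
include hpos h0 hmT in
/-- A module paired perfectly with the top cohomology, compatibly with the ring, is a *canonical module. -/
theorem isStarCanonical_of_pairing [Algebra.FiniteType k T] [Nontrivial T] [Module.Finite T C]
    (he : GrLC.IsStarInjHull 𝒯 (GrLC.quotGr 𝒯 mT) 𝓔 e)
    (W : ℤ → Type u) [∀ d, AddCommGroup (W d)] [∀ d, Module k (W d)] [∀ d, Module.Finite k (W d)]
    (J : ∀ d, I.Hcomp mT n d ≃+ W d)
    (pair : ∀ d, kpiece 𝒯 𝒞 (-d) →ₗ[k] Module.Dual k (W d)) (hpair : ∀ d, Function.Bijective (pair d))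
    (hbal : ∀ (a d : ℤ) (t : T) (_ : t ∈ 𝒯 a) (x : kpiece 𝒯 𝒞 (-(a + d))) (y : kpiece 𝒯 𝒞 (-d)) (h : I.Hcomp mT n d)
      (h' : I.Hcomp mT n (a + d)), (y : C) = t • (x : C) → (h' : I.H mT n) = t • (h : I.H mT n) →
        pair d y (J d h) = pair (a + d) x (J (a + d) h')) :
    GrLC.IsStarCanonical 𝒯 𝒞 𝓔 mT n I := by
  haveI : IsNoetherianRing T := Algebra.FiniteType.isNoetherianRing k T
  have hF : IsField (GrLC.deg0 𝒯) := (deg0Equiv h0).symm.toMulEquiv.isField (Field.toIsField k)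
  obtain ⟨χ, hdet, hext⟩ := exists_hullDual (C := C) (𝒞 := 𝒞) (eq_zero_of_neg hpos) hF
    (sub_pr_zero_mem_pos hpos mT hmT) (hmT ▸ (posIdeal_isMaximal hpos h0).ne_top) he
  letI := (isInternal_Hgr I mT n).chooseDecomposition
  let τ : k ≃+* GrLC.deg0 𝒯 := deg0Equiv h0
  let B : ∀ d, I.Hcomp mT n d → C → k := fun d h x =>
    pair d ⟨pr 𝒞 (-d) x, pr_mem 𝒞 (-d) x⟩ (J d h)
  have hBx : ∀ (d : ℤ) (h : I.Hcomp mT n d) (x : C) (hx : x ∈ 𝒞 (-d)), B d h x = pair d ⟨x, hx⟩ (J d h) :=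
    fun d h x hx => congrArg (fun z => pair d z (J d h)) (Subtype.ext (pr_of_mem 𝒞 hx))
  have hexΓ : ∀ (d : ℤ) (h : I.Hcomp mT n d), ∃ f : C →ₗ[T] E', f ∈ GrLC.homDeg 𝒯 𝒞 𝓔 d ∧
      ∀ x ∈ 𝒞 (-d), χ (f x) = τ (B d h x) := by
    intro d h
    let l : C →ₗ[GrLC.deg0 𝒯] GrLC.deg0 𝒯 :=
      { toFun := fun x => τ (B d h x)
        map_add' := fun x x' => by
          rw [← map_add]
          refine congrArg τ ?_
          show pair d _ (J d h) = pair d _ (J d h) + pair d _ (J d h)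
          rw [← LinearMap.add_apply, ← map_add]
          exact congrArg (fun z => pair d z (J d h)) (Subtype.ext (map_add (pr 𝒞 (-d)) x x'))
        map_smul' := fun c x => by
          obtain ⟨c, rfl⟩ := (deg0Equiv h0).surjective c
          show τ (B d h (deg0Equiv h0 c • x)) = τ c * τ (B d h x)
          rw [← map_mul, deg0_smul_coe h0]
          refine congrArg τ ?_
          show pair d _ (J d h) = c • pair d _ (J d h)
          rw [← LinearMap.smul_apply, ← map_smul]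
          exact congrArg (fun z => pair d z (J d h)) (Subtype.ext (pr_k_smul 𝒯 𝒞 (-d) c x)) }
    obtain ⟨f, hf, hfl⟩ := hext (-d) l
    exact ⟨f, neg_neg d ▸ hf, hfl⟩
  choose Γ hΓm hΓ using hexΓ
  have huniq : ∀ (d : ℤ) (h : I.Hcomp mT n d) (f : C →ₗ[T] E'), f ∈ GrLC.homDeg 𝒯 𝒞 𝓔 d →
      (∀ x ∈ 𝒞 (-d), χ (f x) = τ (B d h x)) → f = Γ d h := fun d h f hf hfx => by
    refine sub_eq_zero.1 (hdet d _ (sub_mem hf (hΓm d h)) fun x hx => ?_)
    rw [LinearMap.sub_apply, map_sub, hfx x hx, hΓ d h x hx, sub_self]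
  let ΓH : ∀ d, I.Hgr mT n d →+ (C →ₗ[T] E') := fun d =>
    AddMonoidHom.mk' (fun h => Γ d ⟨h.1, h.2⟩) fun h h' => (huniq d _ _ (add_mem (hΓm d _) (hΓm d _)) fun x hx => by
      rw [LinearMap.add_apply, map_add, hΓ d _ x hx, hΓ d _ x hx, ← map_add τ]
      refine congrArg τ ?_
      show pair d _ (J d _) + pair d _ (J d _) = pair d _ (J d _)
      rw [← map_add, ← map_add]
      rfl).symm
  let F₀ : I.H mT n →+ (C →ₗ[T] E') :=
    (DirectSum.toAddMonoid ΓH).comp (DirectSum.decomposeAddEquiv (I.Hgr mT n)).toAddMonoidHom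
  have hF0 : ∀ (d : ℤ) (h : I.Hcomp mT n d), F₀ (h : I.H mT n) = Γ d h := fun d h => by
    simp only [F₀, AddMonoidHom.comp_apply, AddEquiv.coe_toAddMonoidHom, DirectSum.decomposeAddEquiv_apply]
    rw [DirectSum.decompose_of_mem (I.Hgr mT n) (show (h : I.H mT n) ∈ I.Hgr mT n d from h.2), DirectSum.toAddMonoid_of]
    rfl
  have hsm : ∀ (t : T) (h : I.H mT n), F₀ (t • h) = t • F₀ h := by
    intro t h
    induction t using DirectSum.Decomposition.inductionOn 𝒯 with
    | zero => rw [zero_smul, zero_smul, map_zero]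
    | add t t' ht ht' => rw [add_smul, map_add, ht, ht', add_smul]
    | @homogeneous a t =>
      induction h using DirectSum.Decomposition.inductionOn (I.Hgr mT n) with
      | zero => rw [smul_zero, map_zero, smul_zero]
      | add x x' hx hx' => rw [smul_add, map_add, hx, hx', map_add, smul_add]
      | @homogeneous d h =>
        have hth : (t : T) • (h : I.H mT n) ∈ I.Hgr mT n (a + d) := by
          obtain ⟨z, hz, hzh⟩ := (h.2 : (h : I.H mT n) ∈ I.Hgr mT n d)
          exact ⟨(t : T) • z, GrLCLib.smul_mem 𝒯 (I.X n).gr t.2 hz, by rw [map_smul, hzh]⟩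
        rw [hF0 d ⟨h.1, h.2⟩, hF0 (a + d) ⟨_, hth⟩]
        refine (huniq (a + d) _ _ (fun g m hm => ?_) fun x hx => ?_).symm
        · show (t : T) • Γ d ⟨h.1, h.2⟩ m ∈ 𝓔 (g + (a + d))
          have h1 := GrLCLib.smul_mem 𝒯 𝓔 t.2 (hΓm d ⟨h.1, h.2⟩ g m hm)
          rwa [show a + (g + d) = g + (a + d) by abel] at h1
        · have hy : (t : T) • x ∈ 𝒞 (-d) := by
            have h1 := GrLCLib.smul_mem 𝒯 𝒞 t.2 hx
            rwa [show a + -(a + d) = -d by abel] at h1
          rw [LinearMap.smul_apply, ← map_smul, hΓ d ⟨h.1, h.2⟩ _ hy, hBx d _ _ hy, hBx (a + d) _ _ hx]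
          exact congrArg τ (hbal a d t t.2 ⟨x, hx⟩ ⟨_, hy⟩ ⟨h.1, h.2⟩ ⟨_, hth⟩ rfl rfl)
  let F : I.H mT n →ₗ[T] (C →ₗ[T] E') := { F₀ with map_smul' := hsm }
  have hinj : Function.Injective F := by
    refine (injective_iff_map_eq_zero F).2 fun h hh => ?_
    rw [← sum_pr (I.Hgr mT n) h]
    refine Finset.sum_eq_zero fun d hd => ?_
    have hd' : pr (I.Hgr mT n) d h ∈ I.Hgr mT n d := pr_mem _ _ _
    have key : ∀ x ∈ 𝒞 (-d), χ (Γ d ⟨_, hd'⟩ x) = 0 := fun x hx => by
      have h1 : F₀ h x = ∑ g ∈ (DirectSum.decompose (I.Hgr mT n) h).support,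
          Γ g ⟨pr (I.Hgr mT n) g h, pr_mem (I.Hgr mT n) g h⟩ x := by
        conv_lhs => rw [← sum_pr (I.Hgr mT n) h]
        rw [_root_.map_sum, LinearMap.sum_apply]
        exact Finset.sum_congr rfl fun g _ => LinearMap.congr_fun (hF0 g ⟨_, pr_mem (I.Hgr mT n) g h⟩) x
      have h2 := congrArg (pr 𝓔 0) (h1.symm.trans (LinearMap.congr_fun (hh : F₀ h = 0) x))
      rw [_root_.map_sum, LinearMap.zero_apply, map_zero, Finset.sum_eq_single d] at h2
      · rw [pr_of_mem 𝓔 (neg_add_cancel d ▸ hΓm d _ (-d) x hx : Γ d ⟨_, hd'⟩ x ∈ 𝓔 0)] at h2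
        rw [h2, map_zero]
      · exact fun g _ hg => pr_of_mem_ne 𝓔 (hΓm g _ (-d) x hx) fun h0' => hg (by omega)
      · exact fun h' => absurd hd h'
    have h3 : J d ⟨_, hd'⟩ = 0 := (Module.forall_dual_apply_eq_zero_iff k _).1 fun L => by
      obtain ⟨x, rfl⟩ := (hpair d).surjective L
      refine τ.injective ?_
      rw [map_zero, ← hBx d _ x.1 x.2, ← hΓ d _ x.1 x.2]
      exact key x.1 x.2
    exact congrArg Subtype.val ((J d).map_eq_zero_iff.1 h3)
  have hhom : ∀ (d : ℤ) (f : C →ₗ[T] E'), f ∈ GrLC.homDeg 𝒯 𝒞 𝓔 d → ∃ h : I.Hcomp mT n d, Γ d h = f := by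
    intro d f hf
    let l : Module.Dual k (kpiece 𝒯 𝒞 (-d)) :=
      { toFun := fun x => τ.symm (χ (f x))
        map_add' := fun x y => by rw [Submodule.coe_add, map_add, map_add, map_add]
        map_smul' := fun c x => by
          rw [Submodule.coe_smul, ← deg0_smul_coe h0, LinearMap.map_smul_of_tower f, map_smul, smul_eq_mul, map_mul,
            show τ.symm (deg0Equiv h0 c) = c from τ.symm_apply_apply c]
          rfl }
    let P := LinearEquiv.ofBijective (pair d) (hpair d)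
    let z : W d := (Module.evalEquiv k (W d)).symm (l.comp P.symm.toLinearMap)
    refine ⟨(J d).symm z, (huniq d _ f hf fun x hx => ?_).symm⟩
    rw [hBx d _ x hx, (J d).apply_symm_apply,
      show pair d ⟨x, hx⟩ z = (l.comp P.symm.toLinearMap) (P ⟨x, hx⟩) from
        Module.apply_evalEquiv_symm_apply k (W d) _ _]
    rw [LinearMap.comp_apply, LinearEquiv.coe_coe, P.symm_apply_apply]
    exact (τ.apply_symm_apply _).symm
  have hsurj : Function.Surjective F := by
    intro f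
    let A₀ := GrLC.GMod.of 𝒯 C 𝒞
    let B₀ := GrLC.GMod.of 𝒯 E' 𝓔
    have hparts : ∀ δ : ℤ, ∃ f' : C →ₗ[T] E', ∀ g, ∀ x ∈ 𝒞 g, f' x = pr 𝓔 (g + δ) (f x) :=
      fun δ => exists_degPart' A₀ B₀ f δ
    choose F' hF' using hparts
    have hdeg : ∀ δ, (F' δ : C →ₗ[T] E') ∈ GrLC.homDeg 𝒯 𝒞 𝓔 δ := fun δ g x hx => by
      show F' δ x ∈ 𝓔 (g + δ)
      exact hF' δ g x hx ▸ pr_mem 𝓔 _ _
    obtain ⟨m, dd, y, hy, hys⟩ := exists_homog_spanning (R := T) 𝒞
    let Δ : Finset ℤ := Finset.univ.biUnion fun i =>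
      (DirectSum.decompose 𝓔 (f (y i))).support.image fun g => g - dd i
    have hsum : f = ∑ δ ∈ Δ, (F' δ : C →ₗ[T] E') := LinearMap.ext_on_range hys fun i => by
      rw [LinearMap.sum_apply]
      symm
      calc ∑ δ ∈ Δ, (F' δ : C →ₗ[T] E') (y i) = ∑ δ ∈ Δ, pr 𝓔 (dd i + δ) (f (y i)) :=
            Finset.sum_congr rfl fun δ _ => hF' δ _ _ (hy i)
        _ = ∑ δ ∈ (DirectSum.decompose 𝓔 (f (y i))).support.image (fun g => g - dd i),
            pr 𝓔 (dd i + δ) (f (y i)) := by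
          refine (Finset.sum_subset (Finset.subset_biUnion_of_mem (fun i =>
            (DirectSum.decompose 𝓔 (f (y i))).support.image fun g => g - dd i) (Finset.mem_univ i))
            fun δ _ hδ => ?_).symm
          by_contra h'
          refine hδ (Finset.mem_image.2 ⟨dd i + δ, DFinsupp.mem_support_iff.2 fun h0 => h' (congrArg Subtype.val h0), ?_⟩)
          abel
        _ = f (y i) := by
          rw [Finset.sum_image fun a _ b _ hab => sub_left_inj.1 hab]
          refine (Finset.sum_congr rfl fun g _ => ?_).trans (sum_pr 𝓔 (f (y i)))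
          rw [add_sub_cancel]
    choose H hH using fun δ => hhom δ (F' δ) (hdeg δ)
    refine ⟨∑ δ ∈ Δ, (H δ : I.H mT n), ?_⟩
    rw [_root_.map_sum, hsum]
    exact Finset.sum_congr rfl fun δ _ => (hF0 δ (H δ)).trans (hH δ)
  let Φ := LinearEquiv.ofBijective F ⟨hinj, hsurj⟩
  refine ⟨inferInstance, Φ.symm, fun d f hf => ?_⟩
  obtain ⟨h, hh⟩ := hhom d f hf
  show Φ.symm f ∈ I.Hgr mT n d
  rw [show Φ.symm f = (h : I.H mT n) from (LinearEquiv.symm_apply_eq Φ).2 ((hF0 d h).trans hh).symm]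
  exact h.2

end Groth.Agent.SegreLC
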