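import Groth.Agent.SegreLC.TopDual
import Groth.Agent.SegreLC.CanonOfPairing

/-!
The Segre product of *canonical modules is the *canonical module of the Segre product.
-/

set_option autoImplicit false
set_option linter.unusedSectionVars false
set_option linter.style.haveILetI false
set_option backward.isDefEq.respectTransparency false
set_option backward.isDefEq.respectTransparency.types false
universe u

open scoped Classical TensorProduct
open DirectSum Groth.Agent.GrLCLib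

noncomputable section

namespace Groth.Agent.SegreLC

section Balanced

/-- Three-fold additive functions agreeing on pure tensors agree. -/
lemma eq_of_pure {k : Type u} [Field k] {A B A' B' A'' B'' K : Type u} [AddCommGroup A] [Module k A] [AddCommGroup B]
    [Module k B] [AddCommGroup A'] [Module k A'] [AddCommGroup B'] [Module k B'] [AddCommGroup A''] [Module k A'']
    [AddCommGroup B''] [Module k B''] [AddCommGroup K] (f g : A ⊗[k] B → A' ⊗[k] B' → A'' ⊗[k] B'' → K)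
    (h₁ : ∀ u u' v x, f (u + u') v x = f u v x + f u' v x ∧ g (u + u') v x = g u v x + g u' v x)
    (h₂ : ∀ u v v' x, f u (v + v') x = f u v x + f u v' x ∧ g u (v + v') x = g u v x + g u v' x)
    (h₃ : ∀ u v x x', f u v (x + x') = f u v x + f u v x' ∧ g u v (x + x') = g u v x + g u v x')
    (hpure : ∀ a b a' b' a'' b'', f (a ⊗ₜ b) (a' ⊗ₜ b') (a'' ⊗ₜ b'') = g (a ⊗ₜ b) (a' ⊗ₜ b') (a'' ⊗ₜ b'')) :
    ∀ u v x, f u v x = g u v x := by
  have e₃ : ∀ a b a' b' x, f (a ⊗ₜ b) (a' ⊗ₜ b') x = g (a ⊗ₜ b) (a' ⊗ₜ b') x := fun a b a' b' x =>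
    x.induction_on (by rw [← TensorProduct.zero_tmul A'' (0 : B'')]; exact hpure a b a' b' _ _) (hpure a b a' b')
      fun y z hy hz => by rw [(h₃ _ _ y z).1, (h₃ _ _ y z).2, hy, hz]
  have e₂ : ∀ a b v x, f (a ⊗ₜ b) v x = g (a ⊗ₜ b) v x := fun a b v =>
    v.induction_on (fun x => by rw [← TensorProduct.zero_tmul A' (0 : B')]; exact e₃ a b _ _ x) (e₃ a b)
      fun y z hy hz x => by rw [(h₂ _ y z x).1, (h₂ _ y z x).2, hy, hz]
  exact fun u => u.induction_on (fun v x => by rw [← TensorProduct.zero_tmul A (0 : B)]; exact e₂ _ _ v x) e₂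
    fun y z hy hz v x => by rw [(h₁ y z v x).1, (h₁ y z v x).2, hy, hz]

end Balanced

variable {k : Type u} [Field k] {R : Type u} [CommRing R] [Algebra k R] {S : Type u} [CommRing S] [Algebra k S]
  {T : Type u} [CommRing T] [Algebra k T] {𝒜 : ℤ → Submodule k R} [GradedAlgebra 𝒜]
  {ℬ : ℤ → Submodule k S} [GradedAlgebra ℬ] {𝒯 : ℤ → Submodule k T} [GradedAlgebra 𝒯]
  (D : Datum 𝒜 ℬ 𝒯)
  {CR : Type u} [AddCommGroup CR] [Module R CR] [Module k CR] [IsScalarTower k R CR]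
  {𝒞R : ℤ → AddSubgroup CR} [DirectSum.Decomposition 𝒞R] [SetLike.GradedSMul 𝒜 𝒞R]
  {CS : Type u} [AddCommGroup CS] [Module S CS] [Module k CS] [IsScalarTower k S CS]
  {𝒞S : ℤ → AddSubgroup CS} [DirectSum.Decomposition 𝒞S] [SetLike.GradedSMul ℬ 𝒞S]
  {P : Type u} [AddCommGroup P] [Module T P] [Module k P] [IsScalarTower k T P]
  {𝒬 : ℤ → AddSubgroup P} [DirectSum.Decomposition 𝒬] [SetLike.GradedSMul 𝒯 𝒬]
  {φ : P →ₗ[k] CR ⊗[k] CS}

lemma map_piece_smul (hP : GrSeg.IsSegreMod D.ψ 𝒞R 𝒞S 𝒬 φ) {t : T} {a : R} {b : S} (ht : D.ψ t = a ⊗ₜ[k] b)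
    {x : CR} {y : CS} {p : P} (hp : φ p = x ⊗ₜ[k] y) : φ (t • p) = (a • x) ⊗ₜ[k] (b • y) := by
  rw [hP.map_smul, hp, ht, GrSeg.act_tmul]

variable {ER : Type u} [AddCommGroup ER] [Module R ER] {𝓔R : ℤ → AddSubgroup ER} [DirectSum.Decomposition 𝓔R]
  [SetLike.GradedSMul 𝒜 𝓔R]
  {ES : Type u} [AddCommGroup ES] [Module S ES] {𝓔S : ℤ → AddSubgroup ES} [DirectSum.Decomposition 𝓔S]
  [SetLike.GradedSMul ℬ 𝓔S]
  {ET : Type u} [AddCommGroup ET] [Module T ET] {𝓔T : ℤ → AddSubgroup ET} [DirectSum.Decomposition 𝓔T]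
  [SetLike.GradedSMul 𝒯 𝓔T]

set_option maxHeartbeats 3200000 in
theorem isStarCanonical_segre [Nontrivial R] [Nontrivial S] [Nontrivial T] [Algebra.FiniteType k R]
    [Algebra.FiniteType k S] [Algebra.FiniteType k T]
    (hposR : ∀ n : ℤ, n < 0 → 𝒜 n = ⊥) (h0R : 𝒜 0 = Submodule.span k {(1 : R)})
    (hposS : ∀ n : ℤ, n < 0 → ℬ n = ⊥) (h0S : ℬ 0 = Submodule.span k {(1 : S)})
    (hposT : ∀ n : ℤ, n < 0 → 𝒯 n = ⊥) (h0T : 𝒯 0 = Submodule.span k {(1 : T)})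
    (G : Gens D) (mR : HomogeneousIdeal 𝒜) (hmR : mR.toIdeal = posIdeal 𝒜) (I : GrLC.StarInjRes 𝒜 𝒜)
    (mS : HomogeneousIdeal ℬ) (hmS : mS.toIdeal = posIdeal ℬ) (K : GrLC.StarInjRes ℬ ℬ)
    (mT : HomogeneousIdeal 𝒯) (hmT : mT.toIdeal = posIdeal 𝒯) (IT : GrLC.StarInjRes 𝒯 𝒯) {i j : ℕ}
    (hr : Module.supportDim R R = ((i + 1 + 1 : ℕ) : WithBot ℕ∞))
    (hs : Module.supportDim S S = ((j + 1 + 1 : ℕ) : WithBot ℕ∞))
    {eR : (R ⧸ mR.toIdeal) →ₗ[R] ER} (heR : GrLC.IsStarInjHull 𝒜 (GrLC.quotGr 𝒜 mR) 𝓔R eR)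
    (hCR : GrLC.IsStarCanonical 𝒜 𝒞R 𝓔R mR (i + 1 + 1) I)
    {eS : (S ⧸ mS.toIdeal) →ₗ[S] ES} (heS : GrLC.IsStarInjHull ℬ (GrLC.quotGr ℬ mS) 𝓔S eS)
    (hCS : GrLC.IsStarCanonical ℬ 𝒞S 𝓔S mS (j + 1 + 1) K)
    {eT : (T ⧸ mT.toIdeal) →ₗ[T] ET} (heT : GrLC.IsStarInjHull 𝒯 (GrLC.quotGr 𝒯 mT) 𝓔T eT)
    (hP : GrSeg.IsSegreMod D.ψ 𝒞R 𝒞S 𝒬 φ) :
    GrLC.IsStarCanonical 𝒯 𝒬 𝓔T mT (i + j + 1 + 1 + 1) IT := by
  haveI : IsNoetherianRing T := Algebra.FiniteType.isNoetherianRing k T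
  haveI := hCR.1
  haveI := hCS.1
  haveI := finite_segreMod D hP hposR h0R hposS h0S
  obtain ⟨BR, hBR, hBRs⟩ := exists_pieceDual hposR h0R mR hmR (C := CR) (𝒞 := 𝒞R) (i := i) I heR hCR
  obtain ⟨BS, hBS, hBSs⟩ := exists_pieceDual hposS h0S mS hmS (C := CS) (𝒞 := 𝒞S) (i := j) K heS hCS
  choose w hw using fun g => exists_pieceEquiv D hP g
  obtain ⟨c⟩ := GrLCVeronese.exists_cmap (totRes D I K (isSegreMod_self D) G mT hmT) IT
  choose J hJc hJ using fun d => exists_topEquiv (i := i) (j := j) D (isSegreMod_self D) G mR hmR mS hmS mT hmT I K d IT c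
    (fun l hl => hcomp_eq_bot_of_dim_lt mR I hr (show i + 1 + 1 < l by omega) d)
    (fun l hl => hcomp_eq_bot_of_dim_lt mS K hs (show j + 1 + 1 < l by omega) d)
  haveI : ∀ d, Module.Finite k ((cxQuot I d mR.toIdeal).Coh (i + 1)) := fun d => finite_quot mR hmR I hposR h0R d
  haveI : ∀ d, Module.Finite k ((cxQuot K d mS.toIdeal).Coh (j + 1)) := fun d => finite_quot mS hmS K hposS h0S d
  let dd : ∀ d, Module.Dual k ((cxQuot I d mR.toIdeal).Coh (i + 1)) ⊗[k] Module.Dual k ((cxQuot K d mS.toIdeal).Coh (j + 1)) →ₗ[k]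
      Module.Dual k ((cxQuot I d mR.toIdeal).Coh (i + 1) ⊗[k] (cxQuot K d mS.toIdeal).Coh (j + 1)) :=
    fun d => TensorProduct.dualDistrib k _ _
  have hdd : ∀ d, Function.Bijective (dd d) := fun d =>
    (TensorProduct.dualDistribEquiv k ((cxQuot I d mR.toIdeal).Coh (i + 1)) ((cxQuot K d mS.toIdeal).Coh (j + 1))).bijective
  let pair : ∀ d, kpiece 𝒯 𝒬 (-d) →ₗ[k]
      Module.Dual k ((cxQuot I d mR.toIdeal).Coh (i + 1) ⊗[k] (cxQuot K d mS.toIdeal).Coh (j + 1)) :=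
    fun d => dd d ∘ₗ TensorProduct.map (BR d) (BS d) ∘ₗ (w (-d)).toLinearMap
  have hpair : ∀ d, Function.Bijective (pair d) := fun d => by
    have h1 : Function.Bijective (TensorProduct.map (BR d) (BS d)) :=
      ⟨TensorProduct.map_injective_of_flat_flat _ _ (hBR d).injective (hBS d).injective,
        TensorProduct.map_surjective (hBR d).surjective (hBS d).surjective⟩
    exact (hdd d).comp (h1.comp (w (-d)).bijective)
  refine isStarCanonical_of_pairing hposT h0T mT hmT IT heT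
    (fun d => (cxQuot I d mR.toIdeal).Coh (i + 1) ⊗[k] (cxQuot K d mS.toIdeal).Coh (j + 1)) J pair hpair ?_
  intro a d t₀ ht₀ x₀' y₀' g₀ g₀' hy₀ hh₀
  obtain ⟨wT, hwT⟩ := exists_pieceEquiv D (isSegreMod_self D) a
  have hmT' : ∀ (t : kpiece 𝒯 𝒯 a) (x : kpiece 𝒯 𝒬 (-(a + d))), (t : T) • (x : P) ∈ 𝒬 (-d) := fun t x => by
    have h1 := GrLCLib.smul_mem 𝒯 𝒬 t.2 x.2
    rwa [show a + -(a + d) = -d by abel] at h1
  have hmH : ∀ (t : kpiece 𝒯 𝒯 a) (h : IT.Hcomp mT (i + j + 1 + 1 + 1) d),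
      (t : T) • (h : IT.H mT (i + j + 1 + 1 + 1)) ∈ IT.Hcomp mT (i + j + 1 + 1 + 1) (a + d) := fun t h => by
    obtain ⟨z, hz, hzh⟩ := h.2
    exact ⟨(t : T) • z, GrLCLib.smul_mem 𝒯 (IT.X _).gr t.2 hz, by rw [map_smul, hzh]⟩
  let sm : kpiece 𝒯 𝒯 a → kpiece 𝒯 𝒬 (-(a + d)) → kpiece 𝒯 𝒬 (-d) := fun t x => ⟨_, hmT' t x⟩
  let sh : kpiece 𝒯 𝒯 a → IT.Hcomp mT (i + j + 1 + 1 + 1) d → IT.Hcomp mT (i + j + 1 + 1 + 1) (a + d) :=
    fun t h => ⟨_, hmH t h⟩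
  have sm₁ : ∀ t t' x, sm (t + t') x = sm t x + sm t' x := fun t t' x =>
    Subtype.ext (show ((t + t' : kpiece 𝒯 𝒯 a) : T) • (x : P) = (t : T) • (x : P) + (t' : T) • (x : P) by
      rw [Submodule.coe_add, add_smul])
  have sm₂ : ∀ t x x', sm t (x + x') = sm t x + sm t x' := fun t x x' =>
    Subtype.ext (show (t : T) • ((x + x' : kpiece 𝒯 𝒬 (-(a + d))) : P) = (t : T) • (x : P) + (t : T) • (x' : P) by
      rw [Submodule.coe_add, smul_add])
  have sh₁ : ∀ t t' h, sh (t + t') h = sh t h + sh t' h := fun t t' h =>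
    Subtype.ext (show ((t + t' : kpiece 𝒯 𝒯 a) : T) • (h : IT.H mT (i + j + 1 + 1 + 1)) =
      (t : T) • (h : IT.H mT (i + j + 1 + 1 + 1)) + (t' : T) • (h : IT.H mT (i + j + 1 + 1 + 1)) by
      rw [Submodule.coe_add, add_smul])
  have sh₂ : ∀ t h h', sh t (h + h') = sh t h + sh t h' := fun t h h' =>
    Subtype.ext (show (t : T) • ((h + h' : IT.Hcomp mT (i + j + 1 + 1 + 1) d) : IT.H mT (i + j + 1 + 1 + 1)) =
      (t : T) • (h : IT.H mT (i + j + 1 + 1 + 1)) + (t : T) • (h' : IT.H mT (i + j + 1 + 1 + 1)) by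
      rw [Submodule.coe_add, smul_add])
  let f := fun τ η ξ => pair d (sm (wT.symm τ) ((w (-(a + d))).symm ξ)) η
  let g := fun τ η ξ => pair (a + d) ((w (-(a + d))).symm ξ) (J (a + d) (sh (wT.symm τ) ((J d).symm η)))
  have key : ∀ τ η ξ, f τ η ξ = g τ η ξ := by
    refine eq_of_pure f g (fun u u' v x => ⟨?_, ?_⟩) (fun u v v' x => ⟨?_, ?_⟩) (fun u v x x' => ⟨?_, ?_⟩) ?_
    · simp only [f, map_add, sm₁, LinearMap.add_apply]
    · simp only [g, map_add, sh₁]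
    · simp only [f, map_add]
    · simp only [g, map_add, sh₂]
    · simp only [f, map_add, sm₂, LinearMap.add_apply]
    · simp only [g, map_add, LinearMap.add_apply]
    intro a₀ b₀ u' v' x₀ y₀
    simp only [f, g]
    generalize hτ' : wT.symm (a₀ ⊗ₜ[k] b₀) = t
    generalize hξ' : (w (-(a + d))).symm (x₀ ⊗ₜ[k] y₀) = x
    have hτ : D.ψ (t : T) = (a₀ : R) ⊗ₜ[k] (b₀ : S) := by
      rw [← hτ']
      refine (hwT _).symm.trans ?_
      rw [wT.apply_symm_apply]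
      rfl
    have hξ : w _ x = x₀ ⊗ₜ[k] y₀ := by rw [← hξ', LinearEquiv.apply_symm_apply]
    obtain ⟨u, rfl⟩ := Cx.down_surjective (toQuot I d mR.toIdeal) (toQuot_comm I d mR.toIdeal)
      (toQuot_surjective I d mR.toIdeal) (i + 1) u'
    obtain ⟨v, rfl⟩ := Cx.down_surjective (toQuot K d mS.toIdeal) (toQuot_comm K d mS.toIdeal)
      (toQuot_surjective K d mS.toIdeal) (j + 1) v'
    rw [show (J d).symm _ = (⟨_, prodH_mem D (isSegreMod_self D) G mR hmR mS hmS mT hmT I K d IT c u v⟩ :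
        IT.Hcomp mT (i + j + 1 + 1 + 1) d) from (J d).injective (((J d).apply_symm_apply _).trans (hJ d u v).symm)]
    have hh2 : sh t ⟨_, prodH_mem D (isSegreMod_self D) G mR hmR mS hmS mT hmT I K d IT c u v⟩ =
        ⟨_, prodH_mem D (isSegreMod_self D) G mR hmR mS hmS mT hmT I K (a + d) IT c
          (smulLift I mR a₀.2 u) (smulLift K mS b₀.2 v)⟩ :=
      Subtype.ext (smul_prodH D (isSegreMod_self D) G mR hmR mS hmS mT hmT I K d IT c a₀.2 b₀.2 hτ u v)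
    have hxm : (a₀ : R) • (x₀ : CR) ∈ 𝒞R (-d) := by
      have h1 := GrLCLib.smul_mem 𝒜 𝒞R a₀.2 x₀.2
      rwa [show a + -(a + d) = -d by abel] at h1
    have hym : (b₀ : S) • (y₀ : CS) ∈ 𝒞S (-d) := by
      have h1 := GrLCLib.smul_mem ℬ 𝒞S b₀.2 y₀.2
      rwa [show a + -(a + d) = -d by abel] at h1
    have hwy : w (-d) (sm t x) = (⟨_, hxm⟩ : kpiece 𝒜 𝒞R (-d)) ⊗ₜ[k] (⟨_, hym⟩ : kpiece ℬ 𝒞S (-d)) := by
      refine TensorProduct.map_injective_of_flat_flat _ _ (Submodule.injective_subtype _)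
        (Submodule.injective_subtype _) ((hw (-d) (sm t x)).trans ?_)
      rw [TensorProduct.map_tmul]
      refine map_piece_smul D hP hτ ?_
      rw [← hw, hξ, TensorProduct.map_tmul]
      rfl
    have e1 : pair d (sm t x) = dd d (BR d ⟨_, hxm⟩ ⊗ₜ[k] BS d ⟨_, hym⟩) := by
      show dd d (TensorProduct.map (BR d) (BS d) (w (-d) (sm t x))) = _
      rw [hwy, TensorProduct.map_tmul]
    have e2 : pair (a + d) x = dd (a + d) (BR (a + d) x₀ ⊗ₜ[k] BS (a + d) y₀) := by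
      show dd (a + d) (TensorProduct.map (BR (a + d)) (BS (a + d)) (w _ x)) = _
      rw [hξ, TensorProduct.map_tmul]
    rw [e1, e2, hh2, hJ (a + d)]
    refine (TensorProduct.dualDistrib_apply (BR d ⟨_, hxm⟩) (BS d ⟨_, hym⟩) _ _).trans
      (Eq.trans ?_ (TensorProduct.dualDistrib_apply (BR (a + d) x₀) (BS (a + d) y₀) _ _).symm)
    exact congrArg₂ (· * ·) (hBRs a d a₀ a₀.2 x₀ ⟨_, hxm⟩ rfl u) (hBSs a d b₀ b₀.2 y₀ ⟨_, hym⟩ rfl v)
  have h1 := key (wT ⟨t₀, ht₀⟩) (J d g₀) (w _ x₀')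
  simp only [f, g, LinearEquiv.symm_apply_apply, AddEquiv.symm_apply_apply] at h1
  rw [show y₀' = sm ⟨t₀, ht₀⟩ x₀' from Subtype.ext hy₀, show g₀' = sh ⟨t₀, ht₀⟩ g₀ from Subtype.ext hh₀]
  exact h1

end Groth.Agent.SegreLC
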