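import Groth.Agent.SegreLC.Gor
import Groth.Agent.SegreLC.SegreCanon

/-!
Segre products of Gorenstein rings.
-/

set_option autoImplicit false
set_option linter.unusedSectionVars false
set_option linter.style.haveILetI false
set_option backward.isDefEq.respectTransparency false
set_option backward.isDefEq.respectTransparency.types false
universe u

open scoped Classical TensorProduct
open DirectSum Groth.Agent.GrLCLib

noncomputable section

namespace Groth.Agent.SegreLC

variable {k : Type u} [Field k] {R : Type u} [CommRing R] [Algebra k R] {S : Type u} [CommRing S] [Algebra k S]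
  {T : Type u} [CommRing T] [Algebra k T] {𝒜 : ℤ → Submodule k R} [GradedAlgebra 𝒜]
  {ℬ : ℤ → Submodule k S} [GradedAlgebra ℬ] {𝒯 : ℤ → Submodule k T} [GradedAlgebra 𝒯]
  (D : Datum 𝒜 ℬ 𝒯)

/-- The positive degree part, as a homogeneous ideal. -/
def posHom (𝒯 : ℤ → Submodule k T) [GradedAlgebra 𝒯] : HomogeneousIdeal 𝒯 :=
  ⟨posIdeal 𝒯, Ideal.homogeneous_span 𝒯 _ (fun x hx => by
    obtain ⟨n, -, hn⟩ := Set.mem_iUnion₂.1 hx
    exact ⟨n, hn⟩)⟩

/-- Segre products commute with a common shift. -/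
theorem isSegreMod_shift (a : ℤ) :
    letI := shiftDec 𝒯 a
    GrSeg.IsSegreMod D.ψ (shiftPiece 𝒜 a) (shiftPiece ℬ a) (shiftPiece 𝒯 a) D.ψ.toLinearMap :=
  letI := shiftDec 𝒯 a
  ⟨(isSegreMod_self D).injective, fun n => (isSegreMod_self D).image_piece (n + a), (isSegreMod_self D).map_smul⟩

include D in
/-- The Segre product of Gorenstein rings with the same a-invariant is, when Cohen–Macaulay, Gorenstein. -/
theorem isGorenstein_segre [Nontrivial R] [Nontrivial S] [Algebra.FiniteType k R] [Algebra.FiniteType k S]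
    [LocCoh.IsGorensteinRing R] [LocCoh.IsGorensteinRing S] [LocCoh.IsCohenMacaulayRing T]
    (hposR : ∀ n : ℤ, n < 0 → 𝒜 n = ⊥) (h0R : 𝒜 0 = Submodule.span k {(1 : R)})
    (hposS : ∀ n : ℤ, n < 0 → ℬ n = ⊥) (h0S : ℬ 0 = Submodule.span k {(1 : S)})
    (mR : HomogeneousIdeal 𝒜) (hmR : mR.toIdeal = posIdeal 𝒜) (I : GrLC.StarInjRes 𝒜 𝒜)
    (mS : HomogeneousIdeal ℬ) (hmS : mS.toIdeal = posIdeal ℬ) (J : GrLC.StarInjRes ℬ ℬ) {i j : ℕ}
    (hr : ringKrullDim R = ((i + 1 + 1 : ℕ) : WithBot ℕ∞)) (hs : ringKrullDim S = ((j + 1 + 1 : ℕ) : WithBot ℕ∞))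
    (haeq : GrLC.endDeg (I.Hgr mR (i + 1 + 1)) = GrLC.endDeg (J.Hgr mS (j + 1 + 1)))
    (hdT : ringKrullDim T = ((i + j + 1 + 1 + 1 : ℕ) : WithBot ℕ∞)) : LocCoh.IsGorensteinRing T := by
  haveI := nontrivial_T D
  haveI := finiteType_T D hposR h0R hposS h0S
  haveI : IsNoetherianRing T := Algebra.FiniteType.isNoetherianRing k T
  obtain ⟨G⟩ := exists_gens' D hposR h0R hposS h0S
  obtain ⟨a, ER, eR, heR, hCR⟩ := exists_shift_canonical hposR h0R mR hmR hr I
  obtain ⟨b, ES, eS, heS, hCS⟩ := exists_shift_canonical hposS h0S mS hmS hs J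
  have hab : a = b := by
    rw [endDeg_eq_of_shift_canonical hposR h0R mR hmR I heR a hCR,
      endDeg_eq_of_shift_canonical hposS h0S mS hmS J heS b hCS] at haeq
    exact_mod_cast haeq
  subst hab
  obtain ⟨IT⟩ := GrLCLib.nonempty_starInjRes 𝒯 𝒯
  obtain ⟨ET, eT, heT, heT'⟩ := exists_hull_both (posHom 𝒯)
  letI := shiftDec 𝒜 a
  letI := shiftDec ℬ a
  letI := shiftDec 𝒯 a
  have hposT := neg_T D hposR
  have h0T := h0_T D h0R h0S
  refine isGorenstein_of_shift_canonical hposT h0T (posHom 𝒯) rfl hdT IT heT' a ?_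
  exact isStarCanonical_segre D hposR h0R hposS h0S hposT h0T G mR hmR I mS hmS J (posHom 𝒯) rfl IT
    ((Module.supportDim_self_eq_ringKrullDim _).trans hr) ((Module.supportDim_self_eq_ringKrullDim _).trans hs)
    heR hCR heS hCS heT (isSegreMod_shift D a)

end Groth.Agent.SegreLC
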