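import Groth.Agent.SegreLC.GorConverse
import Groth.Agent.SegreLC.StdPieces
import Groth.Agent.SegreLC.SegreCanon
import Groth.Agent.GrGor.Converse

/-!
Gorenstein Segre products have Gorenstein factors.
-/

set_option autoImplicit false
set_option linter.unusedSectionVars false
set_option linter.style.haveILetI false
set_option backward.isDefEq.respectTransparency false
set_option backward.isDefEq.respectTransparency.types false
set_option synthInstance.maxHeartbeats 400000
set_option maxHeartbeats 12800000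
universe u

open scoped Classical TensorProduct
open DirectSum Groth.Agent.GrLCLib

noncomputable section

namespace Groth.Agent.SegreLC

/-- The positive degree part, as a homogeneous ideal. -/
def posHom' {k : Type u} [Field k] {T : Type u} [CommRing T] [Algebra k T] (𝒯 : ℤ → Submodule k T) [GradedAlgebra 𝒯] :
    HomogeneousIdeal 𝒯 :=
  ⟨posIdeal 𝒯, Ideal.homogeneous_span 𝒯 _ (fun x hx => by
    obtain ⟨n, -, hn⟩ := Set.mem_iUnion₂.1 hx
    exact ⟨n, hn⟩)⟩

/-- Functionals extend from submodules over a field. -/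
lemma exists_extend' {A H : Type u} [CommRing A] [AddCommGroup H] [Module A H] (hA : IsField A) (p : Submodule A H)
    (l : p →ₗ[A] A) : ∃ l' : H →ₗ[A] A, ∀ x : p, l' x = l x := by
  letI : Field A := hA.toField
  obtain ⟨l', hl'⟩ := LinearMap.exists_extend (p := p) l
  exact ⟨l', fun x => LinearMap.congr_fun hl' x⟩

section Unit

variable {k : Type u} [Field k] {T : Type u} [CommRing T] [Algebra k T] {𝒯 : ℤ → Submodule k T} [GradedAlgebra 𝒯]

/-- The functional attached to the unit of a ring that is its own *canonical module up to a shift. -/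
theorem exists_unitFunctional [Nontrivial T] [Algebra.FiniteType k T] (hposT : ∀ n : ℤ, n < 0 → 𝒯 n = ⊥)
    (h0T : 𝒯 0 = Submodule.span k {(1 : T)}) (mT : HomogeneousIdeal 𝒯) (hmT : mT.toIdeal = posIdeal 𝒯)
    (IT : GrLC.StarInjRes 𝒯 𝒯) {n : ℕ} {c : ℤ} {E : GrLC.GMod.{u} 𝒯} {e : (T ⧸ mT.toIdeal) →ₗ[T] E.carrier}
    (he : GrLC.IsStarInjHull 𝒯 (GrLC.quotGr 𝒯 mT) E.gr e)
    (hC : letI := shiftDec 𝒯 c; GrLC.IsStarCanonical 𝒯 (shiftPiece 𝒯 c) E.gr mT n IT)
    (W : ℤ → Type u) [∀ d, AddCommGroup (W d)] [∀ d, Module k (W d)] [∀ d, Module.Finite k (W d)]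
    (J : ∀ d, IT.Hcomp mT n d ≃+ W d)
    (hJc : ∀ d (e : k) y, J d ((⟨algebraMap k T e, SetLike.algebraMap_mem_graded 𝒯 e⟩ : GrLC.deg0 𝒯) • y) = e • J d y) :
    ∃ (F : ∀ d, T → W d → k) (Ω : Module.Dual k (W c)),
      (∀ d t t' η, F d (t + t') η = F d t η + F d t' η) ∧
      (∀ d t η η', F d t (η + η') = F d t η + F d t η') ∧
      (∀ d, ∀ t ∈ 𝒯 (-d + c), (∀ η, F d t η = 0) → t = 0) ∧
      (∀ d (L : Module.Dual k (W d)), ∃ t ∈ 𝒯 (-d + c), ∀ η, F d t η = L η) ∧
      Module.finrank k (W c) = 1 ∧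
      ∀ d (t : T) η (x : IT.Hcomp mT n c), (x : IT.H mT n) = t • ((J d).symm η : IT.H mT n) → F d t η = Ω (J c x) := by
  haveI : IsNoetherianRing T := Algebra.FiniteType.isNoetherianRing k T
  letI := shiftDec 𝒯 c
  have hF : IsField (GrLC.deg0 𝒯) := (deg0Equiv h0T).symm.toMulEquiv.isField (Field.toIsField k)
  obtain ⟨β, hbal, hinj, hsurj⟩ := exists_pairing (eq_zero_of_neg hposT) hF (sub_pr_zero_mem_pos hposT mT hmT)
    (hmT ▸ (posIdeal_isMaximal hposT h0T).ne_top) he hC
  let σ : GrLC.deg0 𝒯 ≃+* k := (deg0Equiv h0T).symm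
  have hσ : ∀ (a : k) z, σ (deg0Equiv h0T a * z) = a * σ z := fun a z =>
    (map_mul σ _ _).trans (congrArg (· * σ z) ((deg0Equiv h0T).symm_apply_apply a))
  have hJs : ∀ d (a : k) η, (J d).symm (a • η) = deg0Equiv h0T a • (J d).symm η := fun d a η =>
    (J d).injective (((J d).apply_symm_apply _).trans
      ((congrArg (a • ·) ((J d).apply_symm_apply η).symm).trans (hJc d a _).symm))
  let Ω : Module.Dual k (W c) :=
    { toFun := fun η => σ (β (1 : T) ((J c).symm η))
      map_add' := fun η η' => by rw [map_add, Submodule.coe_add, map_add, map_add]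
      map_smul' := fun a η => by
        rw [hJs, Submodule.coe_smul, map_smul, RingHom.id_apply, smul_eq_mul, smul_eq_mul]
        exact hσ a _ }
  have hone : ∀ (t : T) (h : IT.H mT n), β t h = β (1 : T) (t • h) := fun t h => by
    rw [← hbal t (1 : T) h, smul_eq_mul, mul_one]
  have hfull : ∀ d (L : Module.Dual k (W d)), ∃ t ∈ 𝒯 (-d + c), ∀ η, σ (β (1 : T) (t • ((J d).symm η : IT.H mT n))) = L η := by
    intro d L
    obtain ⟨l, hl⟩ := exists_functional (deg0Equiv h0T) (J d).symm (hJs d) L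
    obtain ⟨l', hl'⟩ := exists_extend' hF (IT.Hcomp mT n d) l
    obtain ⟨x, hx, hxl⟩ := hsurj (-d) l'
    refine ⟨x, hx, fun η => ?_⟩
    rw [← hone, hxl _ (by rw [neg_neg]; exact ((J d).symm η).2), hl', hl]
    exact (deg0Equiv h0T).symm_apply_apply _
  have hjoint : ∀ d, ∀ t ∈ 𝒯 (-d + c), (∀ η, σ (β (1 : T) (t • ((J d).symm η : IT.H mT n))) = 0) → t = 0 := by
    intro d t ht h
    refine hinj (-d) t ht fun z hz => σ.injective ?_
    rw [neg_neg] at hz
    have h1 := h (J d ⟨z, hz⟩)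
    rw [(J d).symm_apply_apply, ← hone] at h1
    rw [map_zero]
    exact h1
  refine ⟨fun d t η => σ (β (1 : T) (t • ((J d).symm η : IT.H mT n))), Ω,
    fun d t t' η => by beta_reduce; rw [add_smul, map_add, map_add],
    fun d t η η' => by beta_reduce; rw [← hone, ← hone, ← hone, (J d).symm.map_add, Submodule.coe_add, (β t).map_add, σ.map_add], hjoint, hfull, ?_, ?_⟩
  · have hΩ0 : Ω ≠ 0 := fun h => by
      refine one_ne_zero (hjoint c 1 (by rw [neg_add_cancel]; exact SetLike.one_mem_graded 𝒯) fun η => ?_)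
      rw [one_smul]
      exact LinearMap.congr_fun h η
    rw [← Subspace.dual_finrank_eq]
    refine finrank_eq_one Ω hΩ0 fun L => ?_
    obtain ⟨t, ht, hL⟩ := hfull c L
    rw [neg_add_cancel, h0T, Submodule.mem_span_singleton] at ht
    obtain ⟨a, rfl⟩ := ht
    refine ⟨a, LinearMap.ext fun η => ?_⟩
    rw [← hL, LinearMap.smul_apply, smul_eq_mul, show (a • (1 : T)) • ((J c).symm η : IT.H mT n) =
      deg0Equiv h0T a • ((J c).symm η : IT.H mT n) by rw [← Algebra.algebraMap_eq_smul_one]; rfl, map_smul, smul_eq_mul]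
    exact (hσ a _).symm
  · intro d t η x hx
    show _ = σ (β (1 : T) ((J c).symm (J c x)))
    rw [(J c).symm_apply_apply, hx]

end Unit

section Split

variable {k : Type u} [Field k]

lemma eq_zero_or_of_tmul {V V' : Type u} [AddCommGroup V] [Module k V] [AddCommGroup V'] [Module k V'] {v : V} {v' : V'}
    (h : v ⊗ₜ[k] v' = 0) : v = 0 ∨ v' = 0 := by
  refine or_iff_not_imp_left.2 fun hv => (Module.forall_dual_apply_eq_zero_iff k v').1 fun β => ?_
  obtain ⟨α, hα⟩ := not_forall.1 fun h0 => hv ((Module.forall_dual_apply_eq_zero_iff k v).1 h0)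
  have h1 := congrArg (TensorProduct.dualDistrib k V V' (α ⊗ₜ[k] β)) h
  rw [TensorProduct.dualDistrib_apply, map_zero] at h1
  exact (mul_eq_zero.1 h1).resolve_left hα

/-- A bijective tensor product of maps between nonzero spaces has bijective factors. -/
theorem bijective_of_map {V V' W W' : Type u} [AddCommGroup V] [Module k V] [AddCommGroup V'] [Module k V']
    [AddCommGroup W] [Module k W] [AddCommGroup W'] [Module k W'] [Nontrivial V] [Nontrivial V']
    [Module.Finite k W] [Module.Finite k W'] (f : V →ₗ[k] W) (g : V' →ₗ[k] W')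
    (h : Function.Bijective (TensorProduct.map f g)) : Function.Bijective f ∧ Function.Bijective g := by
  have hf : Function.Injective f := (injective_iff_map_eq_zero f).2 fun v hv => by
    obtain ⟨v', hv'⟩ := exists_ne (0 : V')
    by_contra hne
    have h1 : v ⊗ₜ[k] v' = 0 := h.injective (by rw [TensorProduct.map_tmul, hv, TensorProduct.zero_tmul, map_zero])
    rcases eq_zero_or_of_tmul h1 with h2 | h2
    · exact hne h2
    · exact hv' h2
  have hg : Function.Injective g := (injective_iff_map_eq_zero g).2 fun v' hv' => by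
    obtain ⟨v, hv⟩ := exists_ne (0 : V)
    by_contra hne
    have h1 : v ⊗ₜ[k] v' = 0 := h.injective (by rw [TensorProduct.map_tmul, hv', TensorProduct.tmul_zero, map_zero])
    rcases eq_zero_or_of_tmul h1 with h2 | h2
    · exact hv h2
    · exact hne h2
  haveI := Module.Finite.of_injective f hf
  haveI := Module.Finite.of_injective g hg
  have e : Module.finrank k V * Module.finrank k V' = Module.finrank k W * Module.finrank k W' := by
    rw [← Module.finrank_tensorProduct, ← Module.finrank_tensorProduct]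
    exact (LinearEquiv.ofBijective _ h).finrank_eq
  have h1 := LinearMap.finrank_le_finrank_of_injective hf
  have h2 := LinearMap.finrank_le_finrank_of_injective hg
  have p1 : 0 < Module.finrank k V := Module.finrank_pos
  have p2 : 0 < Module.finrank k V' := Module.finrank_pos
  have e1 : Module.finrank k V = Module.finrank k W := by
    by_contra hne
    exact absurd e (Nat.ne_of_lt (lt_of_lt_of_le (Nat.mul_lt_mul_of_pos_right (lt_of_le_of_ne h1 hne) p2)
      (Nat.mul_le_mul_left _ h2)))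
  have e2 : Module.finrank k V' = Module.finrank k W' := by
    rw [e1] at e
    exact mul_left_cancel₀ (by omega) e
  exact ⟨⟨hf, (LinearMap.injective_iff_surjective_of_finrank_eq_finrank e1).1 hf⟩,
    ⟨hg, (LinearMap.injective_iff_surjective_of_finrank_eq_finrank e2).1 hg⟩⟩

/-- A functional on a tensor product of two lines is a product. -/
theorem exists_factor {V V' : Type u} [AddCommGroup V] [Module k V] [AddCommGroup V']
    [Module k V'] (hV : Module.finrank k V = 1) (hV' : Module.finrank k V' = 1) (Ω : Module.Dual k (V ⊗[k] V')) :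
    ∃ (ω : Module.Dual k V) (ω' : Module.Dual k V'), Ω = TensorProduct.dualDistrib k V V' (ω ⊗ₜ[k] ω') := by
  obtain ⟨u₀, hu0, hu⟩ := finrank_eq_one_iff'.1 hV
  obtain ⟨v₀, hv0, hv⟩ := finrank_eq_one_iff'.1 hV'
  rcases eq_or_ne (Ω (u₀ ⊗ₜ v₀)) 0 with h0 | h0
  · refine ⟨0, 0, TensorProduct.ext' fun x y => ?_⟩
    obtain ⟨a, rfl⟩ := hu x
    obtain ⟨b, rfl⟩ := hv y
    rw [TensorProduct.dualDistrib_apply, LinearMap.zero_apply, zero_mul, TensorProduct.smul_tmul_smul, map_smul, h0, smul_zero]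
  refine ⟨Ω ∘ₗ (TensorProduct.mk k V V').flip v₀, (Ω (u₀ ⊗ₜ v₀))⁻¹ • (Ω ∘ₗ TensorProduct.mk k V V' u₀),
    TensorProduct.ext' fun x y => ?_⟩
  obtain ⟨a, rfl⟩ := hu x
  obtain ⟨b, rfl⟩ := hv y
  rw [TensorProduct.dualDistrib_apply, LinearMap.smul_apply, LinearMap.comp_apply, LinearMap.comp_apply,
    LinearMap.flip_apply, TensorProduct.mk_apply, TensorProduct.mk_apply, TensorProduct.smul_tmul_smul,
    ← TensorProduct.smul_tmul', TensorProduct.tmul_smul, map_smul, map_smul, map_smul]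
  simp only [smul_eq_mul]
  field_simp

end Split

variable {k : Type u} [Field k] {R : Type u} [CommRing R] [Algebra k R] {S : Type u} [CommRing S] [Algebra k S]
  {T : Type u} [CommRing T] [Algebra k T] {𝒜 : ℤ → Submodule k R} [GradedAlgebra 𝒜]
  {ℬ : ℤ → Submodule k S} [GradedAlgebra ℬ] {𝒯 : ℤ → Submodule k T} [GradedAlgebra 𝒯]
  (D : Datum 𝒜 ℬ 𝒯)

section Key

variable [IsNoetherianRing T] (G : Gens D) (mR : HomogeneousIdeal 𝒜) (hmR : mR.toIdeal = posIdeal 𝒜)
  (mS : HomogeneousIdeal ℬ) (hmS : mS.toIdeal = posIdeal ℬ)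
  (mT : HomogeneousIdeal 𝒯) (hmT : mT.toIdeal = posIdeal 𝒯)
  (I : GrLC.StarInjRes 𝒜 𝒜) (K : GrLC.StarInjRes ℬ ℬ) (IT : GrLC.StarInjRes 𝒯 𝒯) {i j : ℕ}
  (cm : GrLCVeronese.CMap (totRes D I K (isSegreMod_self D) G mT hmT) IT)

/-- Products of classes, multiplied. -/
theorem smul_prodH_mulQ {e d d' : ℤ} (h : e + d = d') {a : 𝒜 e} {b : ℬ e} {t : T} (ht : D.ψ t = (a : R) ⊗ₜ[k] (b : S))
    (u : liftPiece I mR d (i + 1)) (v : liftPiece K mS d (j + 1))
    (J : IT.Hcomp mT (i + j + 1 + 1 + 1) d' ≃+ (cxQuot I d' mR.toIdeal).Coh (i + 1) ⊗[k] (cxQuot K d' mS.toIdeal).Coh (j + 1))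
    (hJ : ∀ u v, J ⟨_, prodH_mem D (isSegreMod_self D) G mR hmR mS hmS mT hmT I K d' IT cm u v⟩ =
        Cx.down (toQuot I d' mR.toIdeal) (toQuot_comm I d' mR.toIdeal) (i + 1) u ⊗ₜ[k]
          Cx.down (toQuot K d' mS.toIdeal) (toQuot_comm K d' mS.toIdeal) (j + 1) v)
    (x : IT.Hcomp mT (i + j + 1 + 1 + 1) d')
    (hx : (x : IT.H mT (i + j + 1 + 1 + 1)) = t • prodH D (isSegreMod_self D) G mR hmR mS hmS mT hmT I K d IT cm u v) :
    J x = mulQ I mR i h a (Cx.down (toQuot I d mR.toIdeal) (toQuot_comm I d mR.toIdeal) (i + 1) u) ⊗ₜ[k]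
      mulQ K mS j h b (Cx.down (toQuot K d mS.toIdeal) (toQuot_comm K d mS.toIdeal) (j + 1) v) := by
  subst h
  have hx' : x = ⟨_, prodH_mem D (isSegreMod_self D) G mR hmR mS hmS mT hmT I K (e + d) IT cm
      (smulLift I mR a.2 u) (smulLift K mS b.2 v)⟩ :=
    Subtype.ext (hx.trans (smul_prodH D (isSegreMod_self D) G mR hmR mS hmS mT hmT I K d IT cm a.2 b.2 ht u v))
  rw [hx', hJ]
  refine congrArg₂ (· ⊗ₜ[k] ·) (qEquiv_ext I mR ?_) (qEquiv_ext K mS ?_)
  · rw [qEquiv_mulQ, qEquiv_down, qEquiv_down, liftH_smulLift]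
  · rw [qEquiv_mulQ, qEquiv_down, qEquiv_down, liftH_smulLift]

end Key

include D in
/-- The top cohomology of a Gorenstein Segre product gives functionals on those of the factors. -/
theorem exists_functionals [Nontrivial R] [Nontrivial S] [Algebra.FiniteType k R] [Algebra.FiniteType k S]
    [LocCoh.IsGorensteinRing T]
    (hposR : ∀ n : ℤ, n < 0 → 𝒜 n = ⊥) (h0R : 𝒜 0 = Submodule.span k {(1 : R)})
    (hposS : ∀ n : ℤ, n < 0 → ℬ n = ⊥) (h0S : ℬ 0 = Submodule.span k {(1 : S)})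
    (hneR : ∀ n : ℤ, 0 ≤ n → 𝒜 n ≠ ⊥) (hneS : ∀ n : ℤ, 0 ≤ n → ℬ n ≠ ⊥)
    (mR : HomogeneousIdeal 𝒜) (hmR : mR.toIdeal = posIdeal 𝒜) (I : GrLC.StarInjRes 𝒜 𝒜)
    (mS : HomogeneousIdeal ℬ) (hmS : mS.toIdeal = posIdeal ℬ) (K : GrLC.StarInjRes ℬ ℬ) {i j : ℕ}
    (hr : ringKrullDim R = ((i + 1 + 1 : ℕ) : WithBot ℕ∞)) (hs : ringKrullDim S = ((j + 1 + 1 : ℕ) : WithBot ℕ∞))
    (hdT : ringKrullDim T = ((i + j + 1 + 1 + 1 : ℕ) : WithBot ℕ∞)) :
    ∃ (c : ℤ) (ωR : Module.Dual k ((cxQuot I c mR.toIdeal).Coh (i + 1)))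
      (ωS : Module.Dual k ((cxQuot K c mS.toIdeal).Coh (j + 1))),
      (∀ d ≤ c, Function.Bijective (pairQ I mR i ωR d)) ∧ ∀ d ≤ c, Function.Bijective (pairQ K mS j ωS d) := by
  haveI := nontrivial_T D
  haveI := finiteType_T D hposR h0R hposS h0S
  haveI : IsNoetherianRing T := Algebra.FiniteType.isNoetherianRing k T
  obtain ⟨G⟩ := exists_gens' D hposR h0R hposS h0S
  have hposT := neg_T D hposR
  have h0T := h0_T D h0R h0S
  let mT : HomogeneousIdeal 𝒯 := posHom' 𝒯
  have hmT : mT.toIdeal = posIdeal 𝒯 := rfl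
  obtain ⟨IT⟩ := GrLCLib.nonempty_starInjRes 𝒯 𝒯
  obtain ⟨c, ET, eT, heT, hCT⟩ := exists_shift_canonical hposT h0T mT hmT hdT IT
  obtain ⟨cm⟩ := GrLCVeronese.exists_cmap (totRes D I K (isSegreMod_self D) G mT hmT) IT
  choose J hJc hJ using fun d => exists_topEquiv (i := i) (j := j) D (isSegreMod_self D) G mR hmR mS hmS mT hmT I K d IT cm
    (fun l hl => hcomp_eq_bot_of_dim_lt mR I ((Module.supportDim_self_eq_ringKrullDim _).trans hr)
      (show i + 1 + 1 < l by omega) d)
    (fun l hl => hcomp_eq_bot_of_dim_lt mS K ((Module.supportDim_self_eq_ringKrullDim _).trans hs)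
      (show j + 1 + 1 < l by omega) d)
  haveI : ∀ d, Module.Finite k ((cxQuot I d mR.toIdeal).Coh (i + 1)) := fun d => finite_quot mR hmR I hposR h0R d
  haveI : ∀ d, Module.Finite k ((cxQuot K d mS.toIdeal).Coh (j + 1)) := fun d => finite_quot mS hmS K hposS h0S d
  obtain ⟨P, Ω, hadd₁, hadd₂, hjoint, hfull, hlines, hval⟩ := exists_unitFunctional hposT h0T mT hmT IT heT hCT
    (fun d => (cxQuot I d mR.toIdeal).Coh (i + 1) ⊗[k] (cxQuot K d mS.toIdeal).Coh (j + 1)) J hJc
  rw [Module.finrank_tensorProduct] at hlines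
  obtain ⟨ωR, ωS, hω⟩ := exists_factor (Nat.eq_one_of_mul_eq_one_right hlines) (Nat.eq_one_of_mul_eq_one_left hlines) Ω
  refine ⟨c, ωR, ωS, ?_⟩
  suffices h : ∀ d ≤ c, Function.Bijective (pairQ I mR i ωR d) ∧ Function.Bijective (pairQ K mS j ωS d) from
    ⟨fun d hd => (h d hd).1, fun d hd => (h d hd).2⟩
  intro d hd
  haveI : Nontrivial (𝒜 (-d + c)) := Submodule.nontrivial_iff_ne_bot.2 (hneR _ (by omega))
  haveI : Nontrivial (ℬ (-d + c)) := Submodule.nontrivial_iff_ne_bot.2 (hneS _ (by omega))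
  refine bijective_of_map _ _ ?_
  let F := TensorProduct.map (pairQ I mR i ωR d) (pairQ K mS j ωS d)
  let dd := TensorProduct.dualDistrib k ((cxQuot I d mR.toIdeal).Coh (i + 1)) ((cxQuot K d mS.toIdeal).Coh (j + 1))
  have hdd : Function.Bijective dd :=
    (TensorProduct.dualDistribEquiv k ((cxQuot I d mR.toIdeal).Coh (i + 1)) ((cxQuot K d mS.toIdeal).Coh (j + 1))).bijective
  have hψmem : ∀ τ : 𝒜 (-d + c) ⊗[k] ℬ (-d + c), ∃ t ∈ 𝒯 (-d + c),
      D.ψ t = TensorProduct.map (𝒜 (-d + c)).subtype (ℬ (-d + c)).subtype τ := fun τ => by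
    induction τ using TensorProduct.induction_on with
    | zero => exact ⟨0, zero_mem _, by rw [map_zero, map_zero]⟩
    | add a b ha hb =>
      obtain ⟨t, ht, e⟩ := ha
      obtain ⟨t', ht', e'⟩ := hb
      exact ⟨t + t', add_mem ht ht', by rw [map_add, map_add, e, e']⟩
    | tmul a b => exact D.exists_preimage a.2 b.2
  have key : ∀ (τ : 𝒜 (-d + c) ⊗[k] ℬ (-d + c)) (t : T), t ∈ 𝒯 (-d + c) →
      D.ψ t = TensorProduct.map (𝒜 (-d + c)).subtype (ℬ (-d + c)).subtype τ → ∀ η, dd (F τ) η = P d t η := by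
    intro τ
    induction τ using TensorProduct.induction_on with
    | zero =>
      intro t _ ht η
      rw [map_zero, ← map_zero D.ψ] at ht
      have h0 := hadd₁ d 0 0 η
      rw [add_zero] at h0
      rw [D.hT.1 ht, map_zero, map_zero, LinearMap.zero_apply]
      linear_combination h0
    | add a b ha hb =>
      intro t _ ht η
      obtain ⟨ta, hta, ea⟩ := hψmem a
      obtain ⟨tb, htb, eb⟩ := hψmem b
      rw [map_add, ← ea, ← eb, ← map_add] at ht
      rw [D.hT.1 ht, map_add, map_add, LinearMap.add_apply, ha ta hta ea η, hb tb htb eb η, hadd₁]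
    | tmul a b =>
      intro t htm ht η
      induction η using TensorProduct.induction_on with
      | zero =>
        have h0 := hadd₂ d t 0 0
        rw [add_zero] at h0
        rw [map_zero]
        linear_combination h0
      | add x y hx hy => rw [map_add, hx, hy, hadd₂]
      | tmul u' v' =>
        obtain ⟨u, rfl⟩ := Cx.down_surjective (toQuot I d mR.toIdeal) (toQuot_comm I d mR.toIdeal)
          (toQuot_surjective I d mR.toIdeal) (i + 1) u'
        obtain ⟨v, rfl⟩ := Cx.down_surjective (toQuot K d mS.toIdeal) (toQuot_comm K d mS.toIdeal)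
          (toQuot_surjective K d mS.toIdeal) (j + 1) v'
        have hmem : t • prodH D (isSegreMod_self D) G mR hmR mS hmS mT hmT I K d IT cm u v ∈
            IT.Hcomp mT (i + j + 1 + 1 + 1) c :=
          smul_mem_hcomp IT mT (show -d + c + d = c by abel) htm
            (prodH_mem D (isSegreMod_self D) G mR hmR mS hmS mT hmT I K d IT cm u v)
        have hx : (J d).symm (Cx.down (toQuot I d mR.toIdeal) (toQuot_comm I d mR.toIdeal) (i + 1) u ⊗ₜ[k]
            Cx.down (toQuot K d mS.toIdeal) (toQuot_comm K d mS.toIdeal) (j + 1) v) =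
            ⟨_, prodH_mem D (isSegreMod_self D) G mR hmR mS hmS mT hmT I K d IT cm u v⟩ :=
          (J d).injective (((J d).apply_symm_apply _).trans (hJ d u v).symm)
        have e1 := hval d t _ ⟨_, hmem⟩
          (congrArg (fun z : IT.Hcomp mT (i + j + 1 + 1 + 1) d => t • (z : IT.H mT (i + j + 1 + 1 + 1))) hx).symm
        have e2 := smul_prodH_mulQ D G mR hmR mS hmS mT hmT I K IT cm (show -d + c + d = c by abel) (a := a) (b := b)
            ht u v (J c) (hJ c) ⟨_, hmem⟩ rfl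
        refine Eq.trans ?_ (e1.trans ((congrArg Ω e2).trans (LinearMap.congr_fun hω _))).symm
        exact (TensorProduct.dualDistrib_apply _ _ _ _).trans (TensorProduct.dualDistrib_apply _ _ _ _).symm
  have hP : Function.Bijective (dd ∘ₗ F) := by
    refine ⟨(injective_iff_map_eq_zero _).2 fun τ hτ => ?_, fun L => ?_⟩
    · obtain ⟨t, ht, e⟩ := hψmem τ
      have ht0 : t = 0 := hjoint d t ht fun η => (key τ t ht e η).symm.trans (LinearMap.congr_fun hτ η)
      refine TensorProduct.map_injective_of_flat_flat _ _ (Submodule.injective_subtype _)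
        (Submodule.injective_subtype _) ?_
      rw [← e, ht0, map_zero, map_zero]
    · obtain ⟨t, ht, hL⟩ := hfull d L
      obtain ⟨w, hw⟩ := exists_pieceEquiv D (isSegreMod_self D) (-d + c)
      exact ⟨w ⟨t, ht⟩, LinearMap.ext fun η => (key _ t ht (hw ⟨t, ht⟩).symm η).trans (hL η)⟩
  exact ⟨fun x y h => hP.injective (congrArg dd h), fun y => by
    obtain ⟨x, hx⟩ := hP.surjective (dd y)
    exact ⟨x, hdd.injective hx⟩⟩


include D in
/-- The factors of a Gorenstein Segre product of standard algebras are Gorenstein with the same negative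
a-invariant. -/
theorem gorenstein_factors [Nontrivial R] [Nontrivial S] [Algebra.FiniteType k R] [Algebra.FiniteType k S]
    [LocCoh.IsGorensteinRing T] [LocCoh.IsCohenMacaulayRing R] [LocCoh.IsCohenMacaulayRing S]
    (hposR : ∀ n : ℤ, n < 0 → 𝒜 n = ⊥) (h0R : 𝒜 0 = Submodule.span k {(1 : R)})
    (hposS : ∀ n : ℤ, n < 0 → ℬ n = ⊥) (h0S : ℬ 0 = Submodule.span k {(1 : S)})
    (hneR : ∀ n : ℤ, 0 ≤ n → 𝒜 n ≠ ⊥) (hneS : ∀ n : ℤ, 0 ≤ n → ℬ n ≠ ⊥)
    (mR : HomogeneousIdeal 𝒜) (hmR : mR.toIdeal = posIdeal 𝒜) (I : GrLC.StarInjRes 𝒜 𝒜)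
    (mS : HomogeneousIdeal ℬ) (hmS : mS.toIdeal = posIdeal ℬ) (K : GrLC.StarInjRes ℬ ℬ) {i j : ℕ}
    (hr : ringKrullDim R = ((i + 1 + 1 : ℕ) : WithBot ℕ∞)) (hs : ringKrullDim S = ((j + 1 + 1 : ℕ) : WithBot ℕ∞))
    (hdT : ringKrullDim T = ((i + j + 1 + 1 + 1 : ℕ) : WithBot ℕ∞)) :
    LocCoh.IsGorensteinRing R ∧ LocCoh.IsGorensteinRing S ∧
      GrLC.endDeg (I.Hgr mR (i + 1 + 1)) = GrLC.endDeg (K.Hgr mS (j + 1 + 1)) ∧
      GrLC.endDeg (I.Hgr mR (i + 1 + 1)) < 0 := by
  obtain ⟨c, ωR, ωS, hR, hS⟩ :=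
    exists_functionals D hposR h0R hposS h0S hneR hneS mR hmR I mS hmS K hr hs hdT
  obtain ⟨gR, eR⟩ := isGorenstein_of_functional I mR hmR hposR h0R hr ωR hR
  obtain ⟨gS, eS⟩ := isGorenstein_of_functional K mS hmS hposS h0S hs ωS hS
  refine ⟨gR, gS, eR.trans eS.symm, ?_⟩
  haveI := nontrivial_T D
  haveI := finiteType_T D hposR h0R hposS h0S
  haveI : IsNoetherianRing T := Algebra.FiniteType.isNoetherianRing k T
  haveI : IsNoetherianRing R := Algebra.FiniteType.isNoetherianRing k R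
  haveI : IsNoetherianRing S := Algebra.FiniteType.isNoetherianRing k S
  haveI : LocCoh.IsCohenMacaulayRing T :=
    { isCohenMacaulayLocalRing_localization := fun p _ =>
        haveI := LocCoh.IsGorensteinRing.isGorensteinLocalRing_localization (A := T) p
        Goren.isCohenMacaulay (Localization.AtPrime p) }
  obtain ⟨G⟩ := exists_gens' D hposR h0R hposS h0S
  obtain ⟨IT⟩ := GrLCLib.nonempty_starInjRes 𝒯 𝒯
  have hI := hcomp_eq_bot_of_cm mR I hposR h0R hmR (r := i + 1 + 1) ((Module.supportDim_self_eq_ringKrullDim _).trans hr)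
    (cmRing_iff.1 inferInstance)
  have hK := hcomp_eq_bot_of_cm mS K hposS h0S hmS (r := j + 1 + 1) ((Module.supportDim_self_eq_ringKrullDim _).trans hs)
    (cmRing_iff.1 inferInstance)
  have hT := hcomp_eq_bot_of_cm (posHom' 𝒯) IT (neg_T D hposR) (h0_T D h0R h0S) rfl (r := i + j + 1 + 1 + 1)
    ((Module.supportDim_self_eq_ringKrullDim _).trans hdT) (cmRing_iff.1 inferInstance)
  obtain ⟨-, h⟩ := (vanish_iff_of_two D (isSegreMod_self D) G mR hmR mS hmS (posHom' 𝒯) rfl I K IT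
    (r := i + 1 + 1) (s := j + 1 + 1) (by omega) (by omega) hI hK).1 fun q hq d => hT q (by omega) d
  rw [endDeg_neg_iff]
  intro n hn
  have h1 : I.Hcomp mR (i + 1 + 1) n = ⊥ := (h n).resolve_right fun h0 =>
    hneS n hn ((Submodule.eq_bot_iff _).2 h0)
  exact h1

end Groth.Agent.SegreLC
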