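import Groth.Agent.SegreLC.Nums
import Groth.Agent.SegreDim.SegreMod

/-!
Standing facts about a Segre product of graded algebras.
-/

set_option autoImplicit false
set_option linter.unusedSectionVars false
set_option linter.style.haveILetI false
set_option backward.isDefEq.respectTransparency false
set_option backward.isDefEq.respectTransparency.types false
universe u

open scoped Classical TensorProduct
open DirectSum Groth.Agent.GrLCLib

noncomputable section

namespace Groth.Agent.SegreLC

variable {k : Type u} [Field k] {R : Type u} [CommRing R] [Algebra k R] {S : Type u} [CommRing S] [Algebra k S]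
  {T : Type u} [CommRing T] [Algebra k T] {𝒜 : ℤ → Submodule k R} [GradedAlgebra 𝒜]
  {ℬ : ℤ → Submodule k S} [GradedAlgebra ℬ] {𝒯 : ℤ → Submodule k T} [GradedAlgebra 𝒯] (D : Datum 𝒜 ℬ 𝒯)
  (hposR : ∀ n : ℤ, n < 0 → 𝒜 n = ⊥) (h0R : 𝒜 0 = Submodule.span k {(1 : R)})
  (hposS : ∀ n : ℤ, n < 0 → ℬ n = ⊥) (h0S : ℬ 0 = Submodule.span k {(1 : S)})

include D in
theorem nontrivial_T [Nontrivial R] [Nontrivial S] : Nontrivial T := by
  haveI : Nontrivial (R ⊗[k] S) := nontrivial_of_ne (1 : R ⊗[k] S) 0 fun h => by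
    have h1 : ((1 : k) ⊗ₜ[k] (1 : k)) = 0 := by
      refine TensorProduct.map_injective_of_flat_flat (Algebra.linearMap k R) (Algebra.linearMap k S)
        (algebraMap k R).injective (algebraMap k S).injective ?_
      rw [TensorProduct.map_tmul, map_zero]
      simpa [Algebra.TensorProduct.one_def] using h
    simpa using congrArg (TensorProduct.lid k k) h1
  exact D.ψ.toRingHom.domain_nontrivial

include D h0R h0S in
theorem h0_T : 𝒯 0 = Submodule.span k {(1 : T)} := by
  refine Submodule.map_injective_of_injective (f := D.ψ.toLinearMap) D.hT.1 ?_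
  show (𝒯 0).map D.ψ.toLinearMap = (Submodule.span k {(1 : T)}).map D.ψ.toLinearMap
  rw [D.hT.2, Submodule.map_span, Set.image_singleton]
  refine le_antisymm (Submodule.span_le.2 ?_) (Submodule.span_le.2 (Set.singleton_subset_iff.2
    (Submodule.subset_span ⟨1, h0R ▸ Submodule.mem_span_singleton_self _, 1, h0S ▸ Submodule.mem_span_singleton_self _,
      map_one D.ψ⟩)))
  rintro _ ⟨a, ha, b, hb, rfl⟩
  rw [h0R, Submodule.mem_span_singleton] at ha
  rw [h0S, Submodule.mem_span_singleton] at hb
  obtain ⟨c, rfl⟩ := ha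
  obtain ⟨e, rfl⟩ := hb
  rw [TensorProduct.smul_tmul_smul]
  refine Submodule.smul_mem _ _ (Submodule.mem_span_singleton.2 ⟨1, ?_⟩)
  rw [one_smul]
  exact map_one D.ψ

include D hposR in
theorem neg_T (n : ℤ) (hn : n < 0) : 𝒯 n = ⊥ := by
  refine Submodule.map_injective_of_injective (f := D.ψ.toLinearMap) D.hT.1 ?_
  show (𝒯 n).map D.ψ.toLinearMap = (⊥ : Submodule k T).map D.ψ.toLinearMap
  rw [D.hT.2, Submodule.map_bot]
  refine Submodule.span_eq_bot.2 ?_
  rintro _ ⟨a, ha, b, -, rfl⟩
  rw [hposR n hn, Submodule.mem_bot] at ha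
  rw [ha, TensorProduct.zero_tmul]

include D in
/-- The ring itself is the Segre product of the rings. -/
theorem isSegreMod_self : GrSeg.IsSegreMod D.ψ 𝒜 ℬ 𝒯 D.ψ.toLinearMap where
  injective := D.hT.1
  image_piece n := by rw [← D.hT.2 n]; exact (Submodule.map_coe _ _).symm
  map_smul t p := by
    show D.ψ (t * p) = GrSeg.act k R S R S (D.ψ t) (D.ψ p)
    rw [map_mul]
    induction D.ψ t using TensorProduct.induction_on with
    | zero => rw [zero_mul, map_zero, LinearMap.zero_apply]
    | add u v hu hv => rw [add_mul, map_add, LinearMap.add_apply, hu, hv]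
    | tmul a b =>
      induction D.ψ p using TensorProduct.induction_on with
      | zero => rw [mul_zero, map_zero]
      | add u v hu hv => rw [mul_add, map_add, hu, hv]
      | tmul c e => rw [GrSeg.act_tmul, Algebra.TensorProduct.tmul_mul_tmul]; rfl

include D hposR h0R hposS h0S in
theorem finiteType_T [Algebra.FiniteType k R] [Algebra.FiniteType k S] : Algebra.FiniteType k T := by
  obtain ⟨G⟩ := SegreDim.exists_homGens hposR h0R
  obtain ⟨H⟩ := SegreDim.exists_homGens hposS h0S
  let m := (∏ h ∈ G.set, G.deg h) * ∏ h ∈ H.set, H.deg h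
  have hm : 0 < m := Nat.mul_pos (Finset.prod_pos fun h hh => G.deg_pos h hh) (Finset.prod_pos fun h hh => H.deg_pos h hh)
  obtain ⟨ER, hER⟩ := Equi.exists_pow (G := G) (m := m) 𝒜 hm fun h hh => (Finset.dvd_prod_of_mem _ hh).mul_right _
  obtain ⟨ES, hES⟩ := Equi.exists_pow (G := H) (m := m) ℬ hm fun h hh => (Finset.dvd_prod_of_mem _ hh).mul_left _
  have hd : ES.deg = ER.deg := hES.trans hER.symm
  let 𝒜' : ℤ → AddSubgroup R := agPiece 𝒜
  let ℬ' : ℤ → AddSubgroup S := agPiece ℬ
  let 𝒯' : ℤ → AddSubgroup T := agPiece 𝒯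
  letI : DirectSum.Decomposition 𝒜' := (isInternal_agPiece 𝒜).chooseDecomposition
  letI : DirectSum.Decomposition ℬ' := (isInternal_agPiece ℬ).chooseDecomposition
  letI : DirectSum.Decomposition 𝒯' := (isInternal_agPiece 𝒯).chooseDecomposition
  haveI : SetLike.GradedSMul 𝒜 𝒜' := agPiece_gradedSMul 𝒜 𝒜
  haveI : SetLike.GradedSMul ℬ ℬ' := agPiece_gradedSMul ℬ ℬ
  have hP : GrSeg.IsSegreMod D.ψ 𝒜' ℬ' 𝒯' D.ψ.toLinearMap :=
    ⟨D.hT.1, (isSegreMod_self D).image_piece, (isSegreMod_self D).map_smul⟩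
  obtain ⟨z, hz⟩ := SegreDim.exists_preimages D.hT ER.mem (hd ▸ ES.mem)
  haveI := SegreDim.finite_adjoin (M := R) (N := S) (P := T) hposR G.piece_fg H.piece_fg hP ER.deg_pos ER.mem
    (fun n hn a ha => Ideal.mem_sup_right (ER.piece n hn a ha)) (hd ▸ ES.mem)
    (fun n hn a ha => Ideal.mem_sup_right (ES.piece n hn a ha)) z hz
  haveI : Algebra.FiniteType k (MvPolynomial.aeval z : MvPolynomial (Fin ER.num × Fin ES.num) k →ₐ[k] T).range :=
    Algebra.FiniteType.of_surjective (MvPolynomial.aeval z).rangeRestrict (AlgHom.rangeRestrict_surjective _)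
  exact Algebra.FiniteType.trans (S := (MvPolynomial.aeval z : MvPolynomial (Fin ER.num × Fin ES.num) k →ₐ[k] T).range)
    inferInstance inferInstance

include D hposR h0R hposS h0S in
theorem exists_gens' [Algebra.FiniteType k R] [Algebra.FiniteType k S] : Nonempty (Gens D) := by
  haveI := finiteType_T D hposR h0R hposS h0S
  haveI : IsNoetherianRing T := Algebra.FiniteType.isNoetherianRing k T
  exact exists_gens D hposR h0R hposS h0S

end Groth.Agent.SegreLC
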