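import Groth.Agent.SegreLC.DimOne
import Groth.Agent.SegreLC.Apps
import Groth.Agent.SegreLC.Setup
import Groth.Agent.SegreLC.Top
import Groth.Agent.Goren.Ring
import Groth.Agent.Goren.Artin

/-!
One-dimensional Segre products that are Gorenstein.
-/

set_option autoImplicit false
set_option linter.unusedSectionVars false
set_option linter.style.haveILetI false
set_option backward.isDefEq.respectTransparency false
set_option backward.isDefEq.respectTransparency.types false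
universe u

open scoped Classical TensorProduct
open DirectSum Groth.Agent.GrLCLib

noncomputable section

namespace Groth.Agent.SegreLC

variable {k : Type u} [Field k]

/-- A functional vanishing on an ideal and equal to one at a given element outside it. -/
lemma exists_functional_one {R : Type u} [CommRing R] [Algebra k R] {f a : R} (ha : a ∉ Ideal.span {f}) :
    ∃ α : R →ₗ[k] k, (∀ x ∈ Ideal.span {f}, α x = 0) ∧ α a = 1 := by
  obtain ⟨L, hL, hL'⟩ := Submodule.exists_dual_map_eq_bot_of_notMem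
    (p := (Ideal.span {f}).restrictScalars k) (x := a) ha inferInstance
  refine ⟨(L a)⁻¹ • L, fun x hx => ?_, ?_⟩
  · have h1 : L x ∈ ((Ideal.span {f}).restrictScalars k).map L := Submodule.mem_map_of_mem hx
    rw [hL', Submodule.mem_bot] at h1
    rw [LinearMap.smul_apply, h1, smul_zero]
  · rw [LinearMap.smul_apply, smul_eq_mul, inv_mul_cancel₀ hL]

section One

variable {R : Type u} [CommRing R] [Algebra k R] {𝒜 : ℤ → Submodule k R} [GradedAlgebra 𝒜]
  (hpos : ∀ n : ℤ, n < 0 → 𝒜 n = ⊥) (h0 : 𝒜 0 = Submodule.span k {(1 : R)})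

include hpos h0 in
/-- Nothing is killed by all high pieces of a Cohen–Macaulay algebra of dimension one. -/
theorem eq_zero_of_bound [Algebra.FiniteType k R] [Nontrivial R] [LocCoh.IsCohenMacaulayRing R]
    (hr : ringKrullDim R = 1) {x : R} {B : ℕ} (h : ∀ e : ℤ, (B : ℤ) ≤ e → ∀ r ∈ 𝒜 e, r * x = 0) : x = 0 := by
  haveI : IsNoetherianRing R := Algebra.FiniteType.isNoetherianRing k R
  let mR : HomogeneousIdeal 𝒜 := ⟨posIdeal 𝒜, Ideal.homogeneous_span 𝒜 _ (fun x hx => by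
    obtain ⟨n, -, hn⟩ := Set.mem_iUnion₂.1 hx
    exact ⟨n, hn⟩)⟩
  obtain ⟨I⟩ := nonempty_starInjRes 𝒜 𝒜
  have hH := hcomp_eq_bot_of_cm mR I hpos h0 rfl (r := 1) ((Module.supportDim_self_eq_ringKrullDim _).trans hr)
    (cmRing_iff.1 inferInstance) 0 (by omega)
  rw [← sum_pr 𝒜 x]
  refine Finset.sum_eq_zero fun g _ => ?_
  refine (van_zero_iff I mR g).1 ((hcomp_eq_bot_iff I mR 0 g).1 (hH g)) _ (pr_mem 𝒜 g x) ?_
  refine mem_gam_of_bound (B := B) fun e he r hr => ?_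
  have h1 := pr_smul 𝒜 𝒜 hr (g + e) x
  rw [smul_eq_mul, h e he r hr, map_zero, add_sub_cancel_right] at h1
  exact h1.symm

include hpos h0 in
/-- A homogeneous regular element, and where the quotient by it ends. -/
theorem exists_regular_homog [Algebra.FiniteType k R] [Nontrivial R] [LocCoh.IsCohenMacaulayRing R]
    (hr : ringKrullDim R = 1) :
    ∃ D₀ : ℕ, 0 < D₀ ∧ ∀ D : ℕ, 0 < D → D₀ ∣ D → ∃ f ∈ 𝒜 (D : ℤ), IsSMulRegular R f ∧
      ∃ N : ℤ, (∀ n, N < n → ∀ a ∈ 𝒜 n, a ∈ Ideal.span {f}) ∧ (∃ a ∈ 𝒜 N, a ∉ Ideal.span {f}) ∧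
        ((2 : ℕ) ≤ D → 𝒜 1 ≠ ⊥ → 1 ≤ N) := by
  obtain ⟨D₀, hD₀, h⟩ := SegreDim.exists_system hpos h0 (Ideal.IsHomogeneous.bot 𝒜)
    (r := 1) ((ringKrullDim_eq_of_ringEquiv (RingEquiv.quotientBot R)).trans hr)
  refine ⟨D₀, hD₀, fun D hD hdvd => ?_⟩
  obtain ⟨fs, hfs, -, -, B, hB⟩ := h D hD hdvd
  have hrange : Set.range fs = {fs 0} := Set.ext fun x =>
    ⟨fun ⟨i, hi⟩ => by rw [← hi, Subsingleton.elim i 0]; rfl, fun hx => ⟨0, (Set.mem_singleton_iff.1 hx).symm⟩⟩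
  rw [hrange] at hB
  simp only [bot_sup_eq] at hB
  refine ⟨fs 0, hfs 0, IsSMulRegular.of_right_eq_zero_of_smul fun x hx => ?_, ?_⟩
  · refine eq_zero_of_bound hpos h0 hr (B := B) fun e he r hr' => ?_
    obtain ⟨c, rfl⟩ := Ideal.mem_span_singleton.1 (hB e he r hr')
    rw [mul_right_comm, show fs 0 * x = 0 from hx, zero_mul]
  have hlow : ∀ n : ℤ, n < (D : ℤ) → ∀ a ∈ 𝒜 n, a ∈ Ideal.span {fs 0} → a = 0 := fun n hn a ha h' => by
    obtain ⟨c, hc, rfl⟩ := exists_eq_mul_of_mem_span (hfs 0) ha h'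
    rw [(Submodule.mem_bot k).1 ((hpos _ (by omega)).le hc), mul_zero]
  let P : ℤ → Prop := fun n => ∃ a ∈ 𝒜 n, a ∉ Ideal.span {fs 0}
  have hP0 : P 0 := ⟨1, SetLike.one_mem_graded 𝒜, fun h' => one_ne_zero (hlow 0 (by omega) 1 (SetLike.one_mem_graded 𝒜) h')⟩
  obtain ⟨N, hN, hmax⟩ := Int.exists_greatest_of_bdd (P := P) ⟨(B : ℤ), fun z ⟨a, ha, hz⟩ => by
    by_contra hlt
    exact hz (hB z (by omega) a ha)⟩ ⟨0, hP0⟩
  refine ⟨N, fun n hn a ha => ?_, hN, fun h2 hne => ?_⟩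
  · by_contra h'
    exact absurd (hmax n ⟨a, ha, h'⟩) (by omega)
  · obtain ⟨a, ha, ha0⟩ := (Submodule.ne_bot_iff _).1 hne
    exact hmax 1 ⟨a, ha, fun h' => ha0 (hlow 1 (by omega) a ha h')⟩

include hpos h0 in
/-- A line in one positive degree forces a line in degree one. -/
theorem exists_gen_of_line [Algebra.FiniteType k R] [Nontrivial R] [LocCoh.IsCohenMacaulayRing R]
    (hr : ringKrullDim R = 1)
    (hstd : Ideal.span (⋃ n ∈ Set.Ioi (0 : ℤ), (𝒜 n : Set R)) = Ideal.span ((𝒜 1 : Submodule k R) : Set R))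
    {m : ℕ} (hm : 1 ≤ m) {w : R} (hw : w ∈ 𝒜 (m : ℤ)) (hline : ∀ a ∈ 𝒜 (m : ℤ), a ∈ Submodule.span k {w}) :
    ∃ u ∈ 𝒜 1, ∀ a ∈ 𝒜 1, a ∈ Submodule.span k {u} := by
  have hin : ∀ j : ℕ, ∀ a ∈ 𝒜 ((m + j : ℕ) : ℤ), a ∈ Ideal.span {w} := by
    intro j
    induction j with
    | zero =>
      intro a ha
      rw [add_zero] at ha
      obtain ⟨c, rfl⟩ := Submodule.mem_span_singleton.1 (hline a ha)
      exact Submodule.smul_of_tower_mem _ c (Ideal.mem_span_singleton_self w)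
    | succ j ih =>
      intro a ha
      refine (Submodule.span_le (p := (Ideal.span {w}).restrictScalars k)).2 ?_
        (SegreDim.std_piece hstd (by omega) ha)
      rintro _ ⟨x, -, c, hc, rfl⟩
      rw [show ((m + (j + 1) : ℕ) : ℤ) - 1 = ((m + j : ℕ) : ℤ) by omega] at hc
      exact Ideal.mul_mem_left _ x (ih c hc)
  have hkill : ∀ x : R, x * w = 0 → x = 0 := fun x hx => eq_zero_of_bound hpos h0 hr (B := m) fun e he r hr' => by
    obtain ⟨j, rfl⟩ : ∃ j : ℕ, e = ((m + j : ℕ) : ℤ) := ⟨(e - m).toNat, by omega⟩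
    obtain ⟨c, rfl⟩ := Ideal.mem_span_singleton.1 (hin j r hr')
    rw [mul_right_comm, mul_comm w x, hx, zero_mul]
  have hex : ∃ x ∈ 𝒜 1, ∃ c ∈ 𝒜 ((m : ℤ) - 1), x * c ≠ 0 := by
    by_contra hcon
    push Not at hcon
    refine one_ne_zero (hkill 1 ?_)
    rw [one_mul]
    refine (Submodule.mem_bot k).1 (Submodule.span_le.2 ?_ (SegreDim.std_piece hstd (by omega) hw))
    rintro _ ⟨x, hx, c, hc, rfl⟩
    exact (Submodule.mem_bot k).2 (hcon x hx c hc)
  obtain ⟨x, hx, c, hc, hxc⟩ := hex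
  have hmem : ∀ a ∈ 𝒜 1, a * c ∈ 𝒜 (m : ℤ) := fun a ha => by
    have := SetLike.mul_mem_graded ha hc
    rwa [add_sub_cancel] at this
  obtain ⟨α, hα⟩ := Submodule.mem_span_singleton.1 (hline _ (hmem x hx))
  have hα0 : α ≠ 0 := fun e => hxc (by rw [← hα, e, zero_smul])
  refine ⟨x, hx, fun a ha => ?_⟩
  obtain ⟨β, hβ⟩ := Submodule.mem_span_singleton.1 (hline _ (hmem a ha))
  refine Submodule.mem_span_singleton.2 ⟨α⁻¹ * β, ?_⟩
  have h1 : (α • a - β • x) * c = 0 := by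
    rw [sub_mul, smul_mul_assoc, smul_mul_assoc, ← hβ, ← hα, smul_smul, smul_smul, mul_comm, sub_self]
  have h2 : α • a - β • x = 0 := by
    refine hkill _ ?_
    have h3 : (α • a - β • x) * (α⁻¹ • (x * c)) = 0 := by
      rw [mul_smul_comm, mul_left_comm, h1, mul_zero, smul_zero]
    rwa [← hα, inv_smul_smul₀ hα0] at h3
  rw [mul_smul, inv_smul_eq_iff₀ hα0]
  exact (sub_eq_zero.1 h2).symm

end One

section Socle

variable {T : Type u} [CommRing T] [Algebra k T] {𝒯 : ℤ → Submodule k T} [GradedAlgebra 𝒯]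

/-- The top piece of the quotient of a Gorenstein algebra by a regular element is a line. -/
theorem socle_line [Algebra.FiniteType k T] [Nontrivial T] [LocCoh.IsGorensteinRing T]
    (hpos : ∀ n : ℤ, n < 0 → 𝒯 n = ⊥) (h0 : 𝒯 0 = Submodule.span k {(1 : T)}) {D : ℤ} (hD : 0 < D) {t : T}
    (ht : t ∈ 𝒯 D) (hreg : IsSMulRegular T t) {N : ℤ} (hN : 0 ≤ N)
    (hhigh : ∀ n, N < n → ∀ a ∈ 𝒯 n, a ∈ Ideal.span {t}) {z z' : T} (hz : z ∈ 𝒯 N) (hz' : z' ∈ 𝒯 N)
    (hnz : z ∉ Ideal.span {t}) : ∃ α : k, z' - α • z ∈ Ideal.span {t} := by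
  haveI : IsNoetherianRing T := Algebra.FiniteType.isNoetherianRing k T
  let J := Ideal.span {t}
  let m := posIdeal 𝒯
  haveI hmax : m.IsMaximal := posIdeal_isMaximal hpos h0
  have hJm : J ≤ m := Ideal.span_le.2 (Set.singleton_subset_iff.2 (mem_posIdeal 𝒯 hD ht))
  have hpow : m ^ (N.toNat + 1) ≤ J := by
    refine (pow_posIdeal_le _).trans (Ideal.span_le.2 fun x hx => ?_)
    obtain ⟨e, he, hx⟩ := Set.mem_iUnion₂.1 hx
    have he' : ((N.toNat + 1 : ℕ) : ℤ) ≤ e := he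
    exact hhigh e (by omega) x hx
  haveI : Nontrivial (T ⧸ J) := Ideal.Quotient.nontrivial_iff.2 fun h => hmax.ne_top (top_le_iff.1 (h ▸ hJm))
  haveI : (m.map (Ideal.Quotient.mk J)).IsMaximal :=
    Ideal.IsMaximal.map_of_surjective_of_ker_le Ideal.Quotient.mk_surjective (by rw [Ideal.mk_ker]; exact hJm)
  have hprimes : ∀ M : Ideal (T ⧸ J), M.IsPrime → M = m.map (Ideal.Quotient.mk J) := fun M hM => by
    haveI := hM
    have h1 : m ≤ M.comap (Ideal.Quotient.mk J) :=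
      Ideal.IsPrime.le_of_pow_le (hpow.trans fun x hx => by
        rw [Ideal.mem_comap, Ideal.Quotient.eq_zero_iff_mem.2 hx]; exact zero_mem _)
    rw [← Ideal.map_comap_of_surjective _ Ideal.Quotient.mk_surjective M,
      ← hmax.eq_of_le (hM.comap (Ideal.Quotient.mk J)).ne_top h1]
  haveI : IsLocalRing (T ⧸ J) :=
    IsLocalRing.of_unique_max_ideal ⟨_, inferInstance, fun M hM => hprimes M hM.isPrime⟩
  have hdim : ringKrullDim (T ⧸ J) = 0 := by
    haveI : Ring.KrullDimLE 0 (T ⧸ J) := Ring.krullDimLE_zero_iff.2 fun P hP => by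
      rw [hprimes P hP]; infer_instance
    exact ringKrullDimZero_iff_ringKrullDim_eq_zero.1 inferInstance
  have hG : LocCoh.IsGorensteinLocalRing (T ⧸ J) := by
    haveI := (Goren.isGorensteinRing_quot T inferInstance t hreg).isGorensteinLocalRing_localization
      (IsLocalRing.maximalIdeal (T ⧸ J))
    exact Goren.isGorenstein_of_equiv (A := Localization.AtPrime (IsLocalRing.maximalIdeal (T ⧸ J)))
      (IsLocalization.atUnits (T ⧸ J) (IsLocalRing.maximalIdeal (T ⧸ J)).primeCompl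
        (fun w hw => IsLocalRing.notMem_maximalIdeal.1 hw)).symm.toRingEquiv
  obtain ⟨σ, -, hσm, hσ⟩ := (Goren.gorenstein_iff_socSimple (T ⧸ J) hdim).1 hG
  have hmz : ∀ w ∈ 𝒯 N, ∀ x ∈ m, x * w ∈ J := fun w hw x hx => by
    refine (Ideal.span_le.2 ?_ : m ≤ J.colon {w}) hx |> fun h => Submodule.mem_colon_singleton.1 h
    intro y hy
    obtain ⟨e, he, hy⟩ := Set.mem_iUnion₂.1 hy
    exact Submodule.mem_colon_singleton.2 (hhigh (e + N) (by have : (0 : ℤ) < e := he; omega) _ (SetLike.mul_mem_graded hy hw))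
  have hkill : ∀ w ∈ 𝒯 N, ∃ c : T, w - c * Classical.choose (Ideal.Quotient.mk_surjective σ) ∈ J := fun w hw => by
    obtain ⟨c', hc'⟩ := Ideal.mem_span_singleton'.1 (hσ (Ideal.Quotient.mk J w) fun y hy => by
      rw [hprimes _ (IsLocalRing.maximalIdeal.isMaximal _).isPrime] at hy
      obtain ⟨x, hx, rfl⟩ := (Ideal.mem_map_iff_of_surjective _ Ideal.Quotient.mk_surjective).1 hy
      rw [← map_mul]
      exact Ideal.Quotient.eq_zero_iff_mem.2 (hmz w hw x hx))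
    obtain ⟨c, rfl⟩ := Ideal.Quotient.mk_surjective c'
    refine ⟨c, Ideal.Quotient.eq.1 ?_⟩
    rw [map_mul, Classical.choose_spec (Ideal.Quotient.mk_surjective σ), hc']
  generalize hs : Classical.choose (Ideal.Quotient.mk_surjective σ) = s at hkill
  have hsσ : Ideal.Quotient.mk J s = σ := hs ▸ Classical.choose_spec (Ideal.Quotient.mk_surjective σ)
  have hms : ∀ x ∈ m, x * s ∈ J := fun x hx => Ideal.Quotient.eq_zero_iff_mem.1 (by
    rw [map_mul, hsσ]
    exact hσm _ ((hprimes _ (IsLocalRing.maximalIdeal.isMaximal _).isPrime).symm ▸ Ideal.mem_map_of_mem _ hx))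
  have hscal : ∀ c : T, ∃ a : k, c - algebraMap k T a ∈ m := fun c => by
    obtain ⟨a, ha⟩ := Submodule.mem_span_singleton.1 (h0.le (pr_mem 𝒯 (0 : ℤ) c))
    exact ⟨a, by
      rw [Algebra.algebraMap_eq_smul_one, ha]
      exact sub_pr_zero_mem_pos hpos (⟨posIdeal 𝒯, Ideal.homogeneous_span 𝒯 _ (fun x hx => by
        obtain ⟨n, -, hn⟩ := Set.mem_iUnion₂.1 hx
        exact ⟨n, hn⟩)⟩ : HomogeneousIdeal 𝒯) rfl c⟩
  have hline : ∀ w ∈ 𝒯 N, ∃ a : k, w - a • s ∈ J := fun w hw => by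
    obtain ⟨c, hc⟩ := hkill w hw
    obtain ⟨a, ha⟩ := hscal c
    refine ⟨a, ?_⟩
    rw [Algebra.smul_def, show w - algebraMap k T a * s = (w - c * s) + (c - algebraMap k T a) * s by ring]
    exact add_mem hc (hms _ ha)
  obtain ⟨a, ha⟩ := hline z hz
  obtain ⟨a', ha'⟩ := hline z' hz'
  have ha0 : a ≠ 0 := fun e => hnz (by rwa [e, zero_smul, sub_zero] at ha)
  refine ⟨a' * a⁻¹, ?_⟩
  rw [show z' - (a' * a⁻¹) • z = (z' - a' • s) - (a' * a⁻¹) • (z - a • s) by
    rw [smul_sub, smul_smul, mul_assoc, inv_mul_cancel₀ ha0, mul_one]; abel]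
  exact sub_mem ha' (Submodule.smul_of_tower_mem J _ ha)

end Socle

section Segre

variable {R : Type u} [CommRing R] [Algebra k R] {S : Type u} [CommRing S] [Algebra k S]
  {T : Type u} [CommRing T] [Algebra k T] {𝒜 : ℤ → Submodule k R} [GradedAlgebra 𝒜]
  {ℬ : ℤ → Submodule k S} [GradedAlgebra ℬ] {𝒯 : ℤ → Submodule k T} [GradedAlgebra 𝒯]
  (D : Datum 𝒜 ℬ 𝒯)
  (hposR : ∀ n : ℤ, n < 0 → 𝒜 n = ⊥) (h0R : 𝒜 0 = Submodule.span k {(1 : R)})
  (hposS : ∀ n : ℤ, n < 0 → ℬ n = ⊥) (h0S : ℬ 0 = Submodule.span k {(1 : S)})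

include hposR h0R hposS h0S D in
/-- A one-dimensional Gorenstein Segre product has a factor with a line in a positive degree. -/
theorem exists_line [Nontrivial R] [Nontrivial S] [Algebra.FiniteType k R] [Algebra.FiniteType k S]
    [LocCoh.IsCohenMacaulayRing R] [LocCoh.IsCohenMacaulayRing S] [LocCoh.IsGorensteinRing T]
    (hr : ringKrullDim R = 1) (hs : ringKrullDim S = 1) (hneR : ∀ n : ℤ, 0 ≤ n → 𝒜 n ≠ ⊥)
    (hneS : ∀ n : ℤ, 0 ≤ n → ℬ n ≠ ⊥) :
    (∃ m : ℕ, 1 ≤ m ∧ ∃ w ∈ 𝒜 (m : ℤ), ∀ a ∈ 𝒜 (m : ℤ), a ∈ Submodule.span k {w}) ∨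
      ∃ m : ℕ, 1 ≤ m ∧ ∃ w ∈ ℬ (m : ℤ), ∀ a ∈ ℬ (m : ℤ), a ∈ Submodule.span k {w} := by
  haveI := nontrivial_T D
  haveI := finiteType_T D hposR h0R hposS h0S
  obtain ⟨D₁, hD₁, h₁⟩ := exists_regular_homog hposR h0R hr
  obtain ⟨D₂, hD₂, h₂⟩ := exists_regular_homog hposS h0S hs
  have hD : 0 < 2 * D₁ * D₂ := Nat.mul_pos (by omega) hD₂
  obtain ⟨f, hf, hfreg, NR, hR1, ⟨a₀, ha₀, ha₀'⟩, hR2⟩ := h₁ (2 * D₁ * D₂) hD (by rw [mul_comm 2]; exact dvd_mul_of_dvd_left (dvd_mul_right _ _) _)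
  obtain ⟨g, hg, hgreg, NS, hS1, ⟨b₀, hb₀, hb₀'⟩, hS2⟩ := h₂ (2 * D₁ * D₂) hD (dvd_mul_left _ _)
  have h2D : 2 ≤ 2 * D₁ * D₂ := by nlinarith
  have hNR := hR2 h2D (hneR 1 zero_le_one)
  have hNS := hS2 h2D (hneS 1 zero_le_one)
  obtain ⟨t, ht, hψt⟩ := D.exists_preimage hf hg
  have htreg : IsSMulRegular T t := IsSMulRegular.of_right_eq_zero_of_smul fun x hx => by
    refine D.hT.1 ((?_ : D.ψ x = 0).trans (map_zero _).symm)
    refine TensorProduct.map_injective_of_flat_flat (LinearMap.mulLeft k f) (LinearMap.mulLeft k g) (fun _ _ h => hfreg h)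
      (fun _ _ h => hgreg h) ?_
    rw [map_zero, ← map_zero D.ψ, ← hx, smul_eq_mul, map_mul, hψt]
    induction D.ψ x using TensorProduct.induction_on with
    | zero => rw [map_zero, mul_zero]
    | add u v hu hv => rw [map_add, hu, hv, mul_add]
    | tmul a b => rw [TensorProduct.map_tmul, Algebra.TensorProduct.tmul_mul_tmul]; rfl
  have hhigh : ∀ n, max NR NS < n → ∀ p ∈ 𝒯 n, p ∈ Ideal.span {t} := by
    intro n hn p hp
    have hp' := D.ψ_mem hp
    suffices h : ∃ q : T, D.ψ p = D.ψ (t * q) by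
      obtain ⟨q, hq⟩ := h
      exact Ideal.mem_span_singleton.2 ⟨q, D.hT.1 hq⟩
    generalize D.ψ p = y at hp' ⊢
    induction hp' using Submodule.span_induction with
    | zero => exact ⟨0, by rw [mul_zero, map_zero]⟩
    | add u v _ _ hu hv =>
      obtain ⟨q, hq⟩ := hu
      obtain ⟨q', hq'⟩ := hv
      exact ⟨q + q', by rw [hq, hq', mul_add, map_add]⟩
    | smul c u _ hu =>
      obtain ⟨q, hq⟩ := hu
      exact ⟨c • q, by rw [hq, mul_smul_comm, map_smul]⟩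
    | mem z hz =>
      obtain ⟨a, ha, b, hb, rfl⟩ := hz
      obtain ⟨a', ha', rfl⟩ := exists_eq_mul_of_mem_span hf ha (hR1 n (lt_of_le_of_lt (le_max_left _ _) hn) a ha)
      obtain ⟨b', hb', rfl⟩ := exists_eq_mul_of_mem_span hg hb (hS1 n (lt_of_le_of_lt (le_max_right _ _) hn) b hb)
      obtain ⟨q, -, hq⟩ := D.exists_preimage ha' hb'
      exact ⟨q, by rw [map_mul, hψt, hq, Algebra.TensorProduct.tmul_mul_tmul]⟩
  have hsoc := fun z z' => socle_line (neg_T D hposR) (h0_T D h0R h0S) (D := ((2 * D₁ * D₂ : ℕ) : ℤ)) (by omega) ht htreg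
    (N := max NR NS) (le_trans (by omega) (le_max_left NR NS)) hhigh (z := z) (z' := z')
  rcases le_total NS NR with h | h
  · right
    rw [max_eq_left h] at hsoc
    obtain ⟨α, hα, hαa⟩ := exists_functional_one (k := k) ha₀'
    let Φ : R ⊗[k] S →ₗ[k] S := (TensorProduct.lid k S).toLinearMap ∘ₗ TensorProduct.map α LinearMap.id
    have hΦ : ∀ q, Φ (D.ψ (t * q)) = 0 := fun q => by
      rw [map_mul, hψt]
      induction D.ψ q using TensorProduct.induction_on with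
      | zero => rw [mul_zero, map_zero]
      | add u v hu hv => rw [mul_add, map_add, hu, hv, add_zero]
      | tmul a b =>
        simp only [Φ, LinearMap.comp_apply, Algebra.TensorProduct.tmul_mul_tmul, TensorProduct.map_tmul,
          LinearEquiv.coe_coe, TensorProduct.lid_tmul]
        rw [hα _ (Ideal.mul_mem_right a _ (Ideal.mem_span_singleton_self f)), zero_smul]
    obtain ⟨b₁, hb₁, hb₁0⟩ := (Submodule.ne_bot_iff _).1 (hneS NR (by omega))
    refine ⟨NR.toNat, by omega, b₁, by rwa [Int.toNat_of_nonneg (by omega)], fun b hb => ?_⟩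
    rw [Int.toNat_of_nonneg (by omega)] at hb
    obtain ⟨z, hz, hzψ⟩ := D.exists_preimage ha₀ hb₁
    obtain ⟨z', hz', hzψ'⟩ := D.exists_preimage ha₀ hb
    have hval : ∀ y, Φ (a₀ ⊗ₜ[k] y) = y := fun y => by
      simp only [Φ, LinearMap.comp_apply, TensorProduct.map_tmul, LinearEquiv.coe_coe, TensorProduct.lid_tmul,
        hαa, one_smul, LinearMap.id_apply]
    obtain ⟨β, hβ⟩ := hsoc z z' hz hz' fun hmem => hb₁0 (by
      obtain ⟨q, hq⟩ := Ideal.mem_span_singleton.1 hmem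
      rw [← hval b₁, ← hzψ, hq, hΦ])
    obtain ⟨q, hq⟩ := Ideal.mem_span_singleton.1 hβ
    refine Submodule.mem_span_singleton.2 ⟨β, (sub_eq_zero.1 ?_).symm⟩
    rw [← hval b, ← hval b₁, ← map_smul, ← map_sub, ← hzψ, ← hzψ', ← map_smul, ← map_sub, hq, hΦ]
  · left
    rw [max_eq_right h] at hsoc
    obtain ⟨α, hα, hαa⟩ := exists_functional_one (k := k) hb₀'
    let Φ : R ⊗[k] S →ₗ[k] R := (TensorProduct.rid k R).toLinearMap ∘ₗ TensorProduct.map LinearMap.id α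
    have hΦ : ∀ q, Φ (D.ψ (t * q)) = 0 := fun q => by
      rw [map_mul, hψt]
      induction D.ψ q using TensorProduct.induction_on with
      | zero => rw [mul_zero, map_zero]
      | add u v hu hv => rw [mul_add, map_add, hu, hv, add_zero]
      | tmul a b =>
        simp only [Φ, LinearMap.comp_apply, Algebra.TensorProduct.tmul_mul_tmul, TensorProduct.map_tmul,
          LinearEquiv.coe_coe, TensorProduct.rid_tmul]
        rw [hα _ (Ideal.mul_mem_right b _ (Ideal.mem_span_singleton_self g)), zero_smul]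
    obtain ⟨b₁, hb₁, hb₁0⟩ := (Submodule.ne_bot_iff _).1 (hneR NS (by omega))
    refine ⟨NS.toNat, by omega, b₁, by rwa [Int.toNat_of_nonneg (by omega)], fun b hb => ?_⟩
    rw [Int.toNat_of_nonneg (by omega)] at hb
    obtain ⟨z, hz, hzψ⟩ := D.exists_preimage hb₁ hb₀
    obtain ⟨z', hz', hzψ'⟩ := D.exists_preimage hb hb₀
    have hval : ∀ y, Φ (y ⊗ₜ[k] b₀) = y := fun y => by
      simp only [Φ, LinearMap.comp_apply, TensorProduct.map_tmul, LinearEquiv.coe_coe, TensorProduct.rid_tmul,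
        hαa, one_smul, LinearMap.id_apply]
    obtain ⟨β, hβ⟩ := hsoc z z' hz hz' fun hmem => hb₁0 (by
      obtain ⟨q, hq⟩ := Ideal.mem_span_singleton.1 hmem
      rw [← hval b₁, ← hzψ, hq, hΦ])
    obtain ⟨q, hq⟩ := Ideal.mem_span_singleton.1 hβ
    refine Submodule.mem_span_singleton.2 ⟨β, (sub_eq_zero.1 ?_).symm⟩
    rw [← hval b, ← hval b₁, ← map_smul, ← map_sub, ← hzψ, ← hzψ', ← map_smul, ← map_sub, hq, hΦ]

include D h0R h0S in
/-- A Segre product with a polynomial ring in one variable is the other factor. -/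
theorem bijective_collapse (hposR : ∀ n : ℤ, n < 0 → 𝒜 n = ⊥) {u : S} (hu1 : u ∈ ℬ 1)
    (hu : ∀ n : ℕ, ∀ b ∈ ℬ (n : ℤ), b ∈ Submodule.span k {u ^ n}) (ε : S →ₐ[k] k) (hε : ε u = 1) :
    Function.Bijective
      (((Algebra.TensorProduct.rid k k R).toAlgHom.comp (Algebra.TensorProduct.map (AlgHom.id k R) ε)).comp D.ψ) := by
  set φ := (Algebra.TensorProduct.rid k k R).toAlgHom.comp (Algebra.TensorProduct.map (AlgHom.id k R) ε) with hφdef
  have hφ : ∀ a b, φ (a ⊗ₜ[k] b) = ε b • a := fun a b => rfl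
  have hpw : ∀ n : ℕ, u ^ n ∈ ℬ (n : ℤ) := fun n => by
    have := SetLike.pow_mem_graded n hu1
    rwa [nsmul_eq_mul, mul_one] at this
  have hform : ∀ (n : ℕ) (x : R ⊗[k] S), x ∈ GrSeg.segrePiece k 𝒜 ℬ (n : ℤ) → φ x ∈ 𝒜 (n : ℤ) ∧ x = φ x ⊗ₜ[k] (u ^ n) := by
    intro n x hx
    induction hx using Submodule.span_induction with
    | mem z hz =>
      obtain ⟨a, ha, b, hb, rfl⟩ := hz
      obtain ⟨c, rfl⟩ := Submodule.mem_span_singleton.1 (hu n b hb)
      have hc : ε (c • u ^ n) = c := by rw [map_smul, map_pow, hε, one_pow, smul_eq_mul, mul_one]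
      exact ⟨by rw [hφ, hc]; exact Submodule.smul_mem _ c ha,
        by rw [hφ, hc, TensorProduct.tmul_smul, TensorProduct.smul_tmul']⟩
    | zero => exact ⟨by rw [map_zero]; exact zero_mem _, by rw [map_zero, TensorProduct.zero_tmul]⟩
    | add a b _ _ ha hb => exact ⟨by rw [map_add]; exact add_mem ha.1 hb.1, by rw [map_add, TensorProduct.add_tmul, ← ha.2, ← hb.2]⟩
    | smul c a _ ha => exact ⟨by rw [map_smul]; exact Submodule.smul_mem _ c ha.1, by rw [map_smul, ← TensorProduct.smul_tmul', ← ha.2]⟩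
  have hneg : ∀ n : ℤ, n < 0 → ∀ x ∈ 𝒯 n, x = 0 := eq_zero_of_neg (neg_T D hposR)
  have hgr : ∀ n : ℤ, ∀ x ∈ 𝒯 n, φ (D.ψ x) ∈ 𝒜 n := fun n x hx => by
    rcases lt_or_ge n 0 with h | h
    · rw [hneg n h x hx, map_zero, map_zero]; exact zero_mem _
    · obtain ⟨m, rfl⟩ := Int.eq_ofNat_of_zero_le h
      exact (hform m _ (D.ψ_mem hx)).1
  have hpr : ∀ (g : ℤ) (x : T), pr 𝒜 g (φ (D.ψ x)) = φ (D.ψ (pr 𝒯 g x)) := fun g x => by
    induction x using DirectSum.Decomposition.inductionOn 𝒯 with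
    | zero => rw [map_zero, map_zero, map_zero, map_zero, map_zero, map_zero]
    | @homogeneous e q =>
      rcases eq_or_ne e g with rfl | hne
      · rw [pr_of_mem 𝒯 q.2, pr_of_mem 𝒜 (hgr e q q.2)]
      · rw [pr_of_mem_ne 𝒯 q.2 hne, pr_of_mem_ne 𝒜 (hgr e q q.2) hne, map_zero, map_zero]
    | add a b ha hb => rw [map_add, map_add, map_add, ha, hb, map_add, map_add, map_add]
  refine ⟨(injective_iff_map_eq_zero (φ.comp D.ψ)).2 fun x hx => ?_, fun a => ?_⟩
  · rw [← sum_pr 𝒯 x]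
    refine Finset.sum_eq_zero fun g _ => ?_
    have h1 := hpr g x
    rw [show φ (D.ψ x) = 0 from hx, map_zero] at h1
    rcases lt_or_ge g 0 with h | h
    · exact hneg g h _ (pr_mem 𝒯 g x)
    · obtain ⟨m, rfl⟩ := Int.eq_ofNat_of_zero_le h
      refine D.hT.1 (((hform m _ (D.ψ_mem (pr_mem 𝒯 _ x))).2).trans ?_)
      rw [← h1, TensorProduct.zero_tmul, map_zero]
  · rw [← sum_pr 𝒜 a]
    refine (φ.comp D.ψ).range.sum_mem fun g _ => ?_
    rcases lt_or_ge g 0 with hg | hg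
    · rw [(Submodule.mem_bot k).1 ((hposR g hg).le (pr_mem 𝒜 g a))]
      exact zero_mem _
    · obtain ⟨m, rfl⟩ := Int.eq_ofNat_of_zero_le hg
      obtain ⟨t, -, ht⟩ := D.exists_preimage (pr_mem 𝒜 (m : ℤ) a) (hpw m)
      refine ⟨t, ?_⟩
      show φ (D.ψ t) = _
      rw [ht, hφ, map_pow, hε, one_pow, one_smul]

include hposR h0R hposS h0S D in
/-- A one-dimensional Gorenstein Segre product: a polynomial factor and a Gorenstein one. -/
theorem polynomial_and_gorenstein [Nontrivial R] [Nontrivial S] [Algebra.FiniteType k R] [Algebra.FiniteType k S]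
    [LocCoh.IsCohenMacaulayRing R] [LocCoh.IsCohenMacaulayRing S] [LocCoh.IsGorensteinRing T]
    (hstdR : Ideal.span (⋃ n ∈ Set.Ioi (0 : ℤ), (𝒜 n : Set R)) = Ideal.span ((𝒜 1 : Submodule k R) : Set R))
    (hstdS : Ideal.span (⋃ n ∈ Set.Ioi (0 : ℤ), (ℬ n : Set S)) = Ideal.span ((ℬ 1 : Submodule k S) : Set S))
    (hr : ringKrullDim R = 1) (hs : ringKrullDim S = 1) (hR : IsEmpty (R ≃ₐ[k] Polynomial k)) :
    Nonempty (S ≃ₐ[k] Polynomial k) ∧ LocCoh.IsGorensteinRing R := by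
  have hneR := piece_ne_bot hposR h0R hstdR (r := 1) hr le_rfl
  have hneS := piece_ne_bot hposS h0S hstdS (r := 1) hs le_rfl
  rcases exists_line D hposR h0R hposS h0S hr hs hneR hneS with ⟨m, hm, w, hw, hline⟩ | ⟨m, hm, w, hw, hline⟩
  · obtain ⟨u, hu1, hu⟩ := exists_gen_of_line hposR h0R hr hstdR hm hw hline
    exact hR.elim (AlgEquiv.ofBijective _ (bijective_aeval hposR h0R hstdR hneR hu1 hu)).symm
  · obtain ⟨u, hu1, hu⟩ := exists_gen_of_line hposS h0S hs hstdS hm hw hline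
    let e := AlgEquiv.ofBijective _ (bijective_aeval hposS h0S hstdS hneS hu1 hu)
    let ε : S →ₐ[k] k := (Polynomial.aeval (1 : k)).comp e.symm.toAlgHom
    have hε : ε u = 1 := by
      show Polynomial.aeval (1 : k) (e.symm u) = 1
      rw [show e.symm u = Polynomial.X from (AlgEquiv.symm_apply_eq e).2 (Polynomial.aeval_X u).symm, Polynomial.aeval_X]
    refine ⟨⟨e.symm⟩, ?_⟩
    exact Goren.isGorensteinRing_of_equiv T R (RingEquiv.ofBijective _
      (bijective_collapse D h0R h0S hposR hu1 (piece_eq_span_pow h0S hstdS hu) ε hε)) inferInstance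

end Segre

end Groth.Agent.SegreLC
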