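import Groth.Agent.SegreLC.CMCrit
import Groth.Agent.SegreLC.StdPieces
import Groth.Agent.GrLCLib.SES
import Groth.Agent.GrLCLib.Shift

/-!
One-dimensional standard graded algebras and polynomial rings in one variable.
-/

set_option autoImplicit false
set_option linter.unusedSectionVars false
set_option linter.style.haveILetI false
set_option backward.isDefEq.respectTransparency false
set_option backward.isDefEq.respectTransparency.types false
universe u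

open scoped Classical
open DirectSum Groth.Agent.GrLCLib

noncomputable section

namespace Groth.Agent.SegreLC

variable {k : Type u} [Field k] {R : Type u} [CommRing R] [Algebra k R] {𝒜 : ℤ → Submodule k R} [GradedAlgebra 𝒜]

/-- A power of the irrelevant ideal lies in high degrees. -/
lemma pow_posIdeal_le (N : ℕ) :
    posIdeal 𝒜 ^ N ≤ Ideal.span (⋃ n ∈ Set.Ici (N : ℤ), (𝒜 n : Set R)) := by
  induction N with
  | zero =>
    rw [pow_zero, Ideal.one_eq_top]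
    refine le_of_eq (Eq.symm ((Ideal.eq_top_iff_one _).2 (Ideal.subset_span (Set.mem_iUnion₂.2
      ⟨0, by simp, SetLike.one_mem_graded 𝒜⟩))))
  | succ N ih =>
    rw [pow_succ]
    refine (Ideal.mul_mono_left ih).trans ?_
    rw [posIdeal, Ideal.span_mul_span']
    refine Ideal.span_le.2 ?_
    rintro _ ⟨a, ha, b, hb, rfl⟩
    obtain ⟨i, hi, ha⟩ := Set.mem_iUnion₂.1 ha
    obtain ⟨j, hj, hb⟩ := Set.mem_iUnion₂.1 hb
    refine Ideal.subset_span (Set.mem_iUnion₂.2 ⟨i + j, ?_, SetLike.mul_mem_graded ha hb⟩)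
    simp only [Set.mem_Ici, Set.mem_Ioi] at hi hj ⊢
    push_cast
    omega

lemma mem_gam_of_bound {M : Type u} [AddCommGroup M] [Module R M] {x : M} {B : ℕ}
    (h : ∀ e : ℤ, (B : ℤ) ≤ e → ∀ r ∈ 𝒜 e, r • x = 0) : x ∈ GrLC.gam (posIdeal 𝒜) M := by
  refine ⟨B, fun r hr => ?_⟩
  have hle : Ideal.span (⋃ n ∈ Set.Ici (B : ℤ), (𝒜 n : Set R)) ≤ LinearMap.ker (LinearMap.toSpanSingleton R M x) := by
    refine Ideal.span_le.2 fun r hr => ?_
    obtain ⟨e, he, hr⟩ := Set.mem_iUnion₂.1 hr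
    exact h e he r hr
  exact hle (pow_posIdeal_le B hr)

/-- A homogeneous element of the principal ideal of a homogeneous element, divided. -/
lemma exists_eq_mul_of_mem_span {f : R} {D e : ℤ} (hf : f ∈ 𝒜 D) {a : R} (ha : a ∈ 𝒜 e)
    (h : a ∈ Ideal.span {f}) : ∃ c ∈ 𝒜 (e - D), a = f * c := by
  obtain ⟨c, rfl⟩ := Ideal.mem_span_singleton.1 h
  refine ⟨pr 𝒜 (e - D) c, pr_mem _ _ _, ?_⟩
  conv_lhs => rw [← pr_of_mem 𝒜 ha]
  exact pr_smul 𝒜 𝒜 hf e c

/-- One generator in degree one, and the pieces. -/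
lemma piece_eq_span_pow (h0 : 𝒜 0 = Submodule.span k {(1 : R)})
    (hstd : Ideal.span (⋃ n ∈ Set.Ioi (0 : ℤ), (𝒜 n : Set R)) = Ideal.span ((𝒜 1 : Submodule k R) : Set R))
    {u : R} (hu : ∀ a ∈ 𝒜 1, a ∈ Submodule.span k {u}) : ∀ n : ℕ, ∀ a ∈ 𝒜 (n : ℤ), a ∈ Submodule.span k {u ^ n} := by
  intro n
  induction n with
  | zero => intro a ha; rw [Nat.cast_zero, h0] at ha; simpa using ha
  | succ n ih =>
    intro a ha
    refine Submodule.span_le.2 ?_ (SegreDim.std_piece hstd (by omega) ha)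
    rintro _ ⟨x, hx, c, hc, rfl⟩
    rw [show ((n + 1 : ℕ) : ℤ) - 1 = n by omega] at hc
    obtain ⟨α, rfl⟩ := Submodule.mem_span_singleton.1 (hu x hx)
    obtain ⟨β, rfl⟩ := Submodule.mem_span_singleton.1 (ih c hc)
    exact Submodule.mem_span_singleton.2 ⟨α * β, by rw [smul_mul_smul_comm, pow_succ']⟩

/-- Multiplication by a homogeneous nonzerodivisor and the quotient. -/
lemma van_principal {f : R} {D : ℤ} (hf : f ∈ 𝒜 D) (hreg : IsSMulRegular R f) (mR : HomogeneousIdeal 𝒜)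
    (I : GrLC.StarInjRes 𝒜 𝒜) :
    ∀ e : ℤ, Van I mR 0 e → Van I mR 1 (e - D) →
      ∀ a ∈ 𝒜 e, (∀ r ∈ mR.toIdeal, ∃ N : ℕ, r ^ N ∈ Ideal.span {f}) → mR.toIdeal.FG → a ∈ Ideal.span {f} := by
  intro e h0 h1 a ha hrad hfg
  let ℳ := agPiece 𝒜
  letI : DirectSum.Decomposition ℳ := (isInternal_agPiece 𝒜).chooseDecomposition
  have hK : Homog ℳ (Ideal.span {f} : Submodule R R) := by
    intro x hx g
    obtain ⟨c, rfl⟩ := Ideal.mem_span_singleton.1 hx
    exact Ideal.mem_span_singleton.2 ⟨pr ℳ (g - D) c, pr_smul 𝒜 ℳ hf g c⟩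
  letI : DirectSum.Decomposition (quotPiece ℳ (Ideal.span {f} : Submodule R R)) := quotDec ℳ _ hK
  obtain ⟨EQ⟩ := nonempty_starInjRes 𝒜 (quotPiece ℳ (Ideal.span {f} : Submodule R R))
  letI := shiftDec 𝒜 (-D)
  have hs : IsSES (shiftPiece 𝒜 (-D)) 𝒜 (quotPiece ℳ (Ideal.span {f} : Submodule R R)) (f • LinearMap.id : R →ₗ[R] R) (Ideal.span {f}).mkQ :=
    ⟨fun _ _ h => hreg h, Submodule.mkQ_surjective _, by
      rw [Submodule.ker_mkQ]
      ext x
      exact ⟨fun ⟨c, hc⟩ => hc ▸ Ideal.mem_span_singleton.2 ⟨c, rfl⟩,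
        fun hx => (Ideal.mem_span_singleton.1 hx).elim fun c hc => ⟨c, hc.symm⟩⟩,
      fun g y hy => by
        have h := smul_mem 𝒜 𝒜 hf (mem_shiftPiece.1 hy)
        rwa [show D + (g + -D) = g by ring] at h,
      fun g x hx => ⟨x, hx, rfl⟩⟩
  have hQ : Van EQ mR 0 e := van_right hs (shiftRes I (-D)) I EQ mR h0
    ((van_shiftRes_iff I (-D) mR (0 + 1) e).2 (by rwa [← sub_eq_add_neg]))
  refine (Submodule.Quotient.mk_eq_zero _).1 ((van_zero_iff EQ mR e).1 hQ _ ⟨a, ha, rfl⟩ ?_)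
  obtain ⟨N, hN⟩ := Ideal.exists_pow_le_of_le_radical_of_fg (I := mR.toIdeal) (J := Ideal.span {f}) hrad hfg
  exact ⟨N, fun r hr => (Submodule.Quotient.mk_eq_zero _).2 (Ideal.mul_mem_right a _ (hN hr))⟩

/-- Vanishing of `H¹` in nonnegative degrees leaves one generator in degree one. -/
theorem exists_gen_of_van [Algebra.FiniteType k R] (hpos : ∀ n : ℤ, n < 0 → 𝒜 n = ⊥)
    (h0 : 𝒜 0 = Submodule.span k {(1 : R)})
    (hstd : Ideal.span (⋃ n ∈ Set.Ioi (0 : ℤ), (𝒜 n : Set R)) = Ideal.span ((𝒜 1 : Submodule k R) : Set R))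
    (hr : ringKrullDim R = 1) (mR : HomogeneousIdeal 𝒜) (hmR : mR.toIdeal = posIdeal 𝒜)
    (I : GrLC.StarInjRes 𝒜 𝒜) (hH0 : ∀ e, Van I mR 0 e) (hH1 : ∀ e, 0 ≤ e → Van I mR 1 e) :
    ∃ u ∈ 𝒜 1, ∀ a ∈ 𝒜 1, a ∈ Submodule.span k {u} := by
  haveI : IsNoetherianRing R := Algebra.FiniteType.isNoetherianRing k R
  obtain ⟨D₀, hD₀, h⟩ := SegreDim.exists_system hpos h0 (Ideal.IsHomogeneous.bot 𝒜)
    (r := 1) ((ringKrullDim_eq_of_ringEquiv (RingEquiv.quotientBot R)).trans hr)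
  obtain ⟨fs, hfs, hfree, -, B, hB⟩ := h D₀ hD₀ dvd_rfl
  have hrange : Set.range fs = {fs 0} := Set.ext fun x =>
    ⟨fun ⟨i, hi⟩ => by rw [← hi, Subsingleton.elim i 0]; rfl, fun hx => ⟨0, (Set.mem_singleton_iff.1 hx).symm⟩⟩
  rw [hrange] at hB
  simp only [bot_sup_eq] at hB
  generalize hf' : fs 0 = f at hB
  have hf : f ∈ 𝒜 (D₀ : ℤ) := hf' ▸ hfs 0
  have hne : f ≠ 0 := fun e => MvPolynomial.X_ne_zero (0 : Fin 1) (hfree _ (by
    rw [MvPolynomial.aeval_X, hf', e]; exact zero_mem _))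
  have hreg : IsSMulRegular R f := by
    refine IsSMulRegular.of_right_eq_zero_of_smul fun a ha => ?_
    rw [← sum_pr 𝒜 a]
    refine Finset.sum_eq_zero fun g _ => ?_
    have hg : f * pr 𝒜 g a = 0 := by
      have := pr_smul 𝒜 𝒜 hf (g + D₀) a
      rw [ha, map_zero, add_sub_cancel_right] at this
      exact this.symm
    refine (van_zero_iff I mR g).1 (hH0 g) _ (pr_mem 𝒜 g a) (hmR.symm ▸ mem_gam_of_bound (B := B) fun e he r hr => ?_)
    obtain ⟨c, rfl⟩ := Ideal.mem_span_singleton.1 (hB e he r hr)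
    rw [smul_eq_mul, mul_right_comm, hg, zero_mul]
  have hrad : ∀ r ∈ mR.toIdeal, ∃ N : ℕ, r ^ N ∈ Ideal.span {f} := fun r hr => by
    refine ⟨B, (Ideal.span_le.2 ?_ : Ideal.span _ ≤ Ideal.span {f}) (pow_posIdeal_le B (Ideal.pow_mem_pow (hmR ▸ hr) B))⟩
    intro x hx
    obtain ⟨e, he, hx⟩ := Set.mem_iUnion₂.1 hx
    exact hB e he x hx
  have hfD : ∀ a ∈ 𝒜 (D₀ : ℤ), ∃ α : k, a = α • f := by
    intro a ha
    obtain ⟨c, hc, rfl⟩ := exists_eq_mul_of_mem_span hf ha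
      (van_principal hf hreg mR I (D₀ : ℤ) (hH0 _) (hH1 _ (by omega)) a ha hrad (IsNoetherian.noetherian _))
    rw [sub_self, h0] at hc
    obtain ⟨α, rfl⟩ := Submodule.mem_span_singleton.1 hc
    exact ⟨α, by rw [mul_smul_comm, mul_one]⟩
  have hex : ∃ x ∈ 𝒜 1, IsSMulRegular R x := by
    by_contra hcon
    push Not at hcon
    refine hne ((Submodule.mem_bot k).1 (Submodule.span_le.2 ?_ (SegreDim.std_piece hstd (by omega) hf)))
    rintro _ ⟨x, hx, c, hc, rfl⟩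
    have hmem : x * c ∈ 𝒜 (D₀ : ℤ) := by
      have := SetLike.mul_mem_graded hx hc
      rwa [add_sub_cancel] at this
    obtain ⟨α, hα⟩ := hfD _ hmem
    rw [SetLike.mem_coe, Submodule.mem_bot]
    by_contra hne'
    refine hcon x hx (IsSMulRegular.of_right_eq_zero_of_smul fun z hz => ?_)
    have hα0 : α ≠ 0 := fun e => hne' (by rw [hα, e, zero_smul])
    refine hreg.right_eq_zero_of_smul ?_
    have h1 : α • (f * z) = 0 := by
      rw [← smul_mul_assoc, ← hα, mul_right_comm, show x * z = 0 from hz, zero_mul]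
    exact (smul_eq_zero.1 h1).resolve_left hα0
  obtain ⟨x, hx, hxreg⟩ := hex
  refine ⟨x, hx, fun a ha => ?_⟩
  have hpow : ∀ z ∈ 𝒜 1, x ^ (D₀ - 1) * z ∈ 𝒜 (D₀ : ℤ) := fun z hz => by
    have := SetLike.mul_mem_graded (SetLike.pow_mem_graded (D₀ - 1) hx) hz
    rwa [nsmul_eq_mul, mul_one, show ((D₀ - 1 : ℕ) : ℤ) + 1 = D₀ by omega] at this
  obtain ⟨α, hα⟩ := hfD _ (hpow a ha)
  obtain ⟨β, hβ⟩ := hfD _ (hpow x hx)
  haveI : Nontrivial R := nontrivial_of_ne f 0 hne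
  have hβ0 : β ≠ 0 := fun e => by
    rw [e, zero_smul, ← pow_succ] at hβ
    have h1 : x = 0 := (hxreg.pow (D₀ - 1)).right_eq_zero_of_smul (show x ^ (D₀ - 1) • x = (0 : R) from by
      rw [smul_eq_mul, ← pow_succ]; exact hβ)
    exact one_ne_zero (hxreg.right_eq_zero_of_smul (show x • (1 : R) = 0 by rw [h1, zero_smul]))
  refine Submodule.mem_span_singleton.2 ⟨α * β⁻¹, ?_⟩
  refine (hxreg.pow (D₀ - 1)).eq_iff.1 ?_
  show x ^ (D₀ - 1) * ((α * β⁻¹) • x) = x ^ (D₀ - 1) * a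
  rw [mul_smul_comm, hβ, hα, smul_smul, mul_assoc, inv_mul_cancel₀ hβ0, mul_one]

/-- One generator and no vanishing piece give a polynomial ring. -/
theorem bijective_aeval (hpos : ∀ n : ℤ, n < 0 → 𝒜 n = ⊥) (h0 : 𝒜 0 = Submodule.span k {(1 : R)})
    (hstd : Ideal.span (⋃ n ∈ Set.Ioi (0 : ℤ), (𝒜 n : Set R)) = Ideal.span ((𝒜 1 : Submodule k R) : Set R))
    (hne : ∀ n : ℤ, 0 ≤ n → 𝒜 n ≠ ⊥) {u : R} (hu1 : u ∈ 𝒜 1) (hu : ∀ a ∈ 𝒜 1, a ∈ Submodule.span k {u}) :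
    Function.Bijective (Polynomial.aeval u : Polynomial k →ₐ[k] R) := by
  have hpw : ∀ n : ℕ, u ^ n ∈ 𝒜 (n : ℤ) := fun n => by
    have := SetLike.pow_mem_graded n hu1
    rwa [nsmul_eq_mul, mul_one] at this
  have hn0 : ∀ n : ℕ, u ^ n ≠ 0 := fun n e => hne n (by omega) ((Submodule.eq_bot_iff _).2 fun a ha => by
    obtain ⟨c, rfl⟩ := Submodule.mem_span_singleton.1 (piece_eq_span_pow h0 hstd hu n a ha)
    rw [e, smul_zero])
  refine ⟨(injective_iff_map_eq_zero _).2 fun p hp => Polynomial.ext fun n => ?_, fun a => ?_⟩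
  · have h1 : pr 𝒜 (n : ℤ) (Polynomial.aeval u p) = p.coeff n • u ^ n := by
      clear hp
      induction p using Polynomial.induction_on' with
      | add p q hp hq => rw [map_add, map_add, hp, hq, Polynomial.coeff_add, add_smul]
      | monomial m c =>
        rw [Polynomial.aeval_monomial, ← Algebra.smul_def, Polynomial.coeff_monomial]
        by_cases hm : m = n
        · subst hm
          rw [if_pos rfl, pr_of_mem 𝒜 (Submodule.smul_mem _ _ (hpw m))]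
        · rw [if_neg hm, zero_smul, pr_of_mem_ne 𝒜 (Submodule.smul_mem _ _ (hpw m)) (by exact_mod_cast hm)]
    rw [hp, map_zero] at h1
    rw [Polynomial.coeff_zero]
    exact (smul_eq_zero.1 h1.symm).resolve_right (hn0 n)
  · rw [← sum_pr 𝒜 a]
    refine (Polynomial.aeval u).range.sum_mem fun g _ => ?_
    rcases lt_or_ge g 0 with hg | hg
    · rw [(Submodule.mem_bot k).1 ((hpos g hg).le (pr_mem 𝒜 g a))]
      exact zero_mem _
    · obtain ⟨n, rfl⟩ := Int.eq_ofNat_of_zero_le hg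
      obtain ⟨c, hc⟩ := Submodule.mem_span_singleton.1 (piece_eq_span_pow h0 hstd hu n _ (pr_mem 𝒜 (n : ℤ) a))
      exact ⟨c • Polynomial.X ^ n, by
        rw [AlgHom.toRingHom_eq_coe, RingHom.coe_coe, map_smul, map_pow, Polynomial.aeval_X, hc]⟩

/-- A principal irrelevant ideal leaves one generator in degree one. -/
lemma exists_gen_of_principal [Algebra.FiniteType k R] [Nontrivial R] [IsPrincipalIdealRing R]
    (hpos : ∀ n : ℤ, n < 0 → 𝒜 n = ⊥) (h0 : 𝒜 0 = Submodule.span k {(1 : R)}) :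
    ∃ u ∈ 𝒜 1, ∀ a ∈ 𝒜 1, a ∈ Submodule.span k {u} := by
  obtain ⟨g, hg⟩ := (IsPrincipalIdealRing.principal (posIdeal 𝒜)).principal
  have hg0 : pr 𝒜 (0 : ℤ) g = 0 := by
    by_contra hne
    obtain ⟨c, hc⟩ := Submodule.mem_span_singleton.1 (h0.le (pr_mem 𝒜 (0 : ℤ) g))
    have hmem : pr 𝒜 (0 : ℤ) g ∈ posIdeal 𝒜 := by
      have hgm : g ∈ posIdeal 𝒜 := hg ▸ Submodule.mem_span_singleton_self g
      exact (Ideal.homogeneous_span 𝒜 _ (fun x hx => by
        obtain ⟨n, -, hn⟩ := Set.mem_iUnion₂.1 hx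
        exact ⟨n, hn⟩) : (posIdeal 𝒜).IsHomogeneous 𝒜) (0 : ℤ) hgm
    have hc0 : c ≠ 0 := fun e => hne (by rw [← hc, e, zero_smul])
    refine (posIdeal_isMaximal hpos h0).ne_top ((Ideal.eq_top_iff_one _).2 ?_)
    rw [← inv_smul_smul₀ hc0 (1 : R), hc, Algebra.smul_def]
    exact Ideal.mul_mem_left _ _ hmem
  refine ⟨pr 𝒜 1 g, pr_mem _ _ _, fun a ha => ?_⟩
  obtain ⟨c, hc⟩ := Submodule.mem_span_singleton.1 (hg ▸ mem_posIdeal 𝒜 one_pos ha : a ∈ Submodule.span R {g})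
  rw [← pr_of_mem 𝒜 ha, ← hc]
  clear hc ha a
  induction c using DirectSum.Decomposition.inductionOn 𝒜 with
  | zero => rw [zero_smul, map_zero]; exact zero_mem _
  | add x y hx hy => rw [add_smul, map_add]; exact add_mem hx hy
  | @homogeneous j q =>
    rw [pr_smul 𝒜 𝒜 q.2]
    rcases lt_trichotomy j 0 with hj | rfl | hj
    · rw [show (q : R) = 0 from (Submodule.mem_bot k).1 ((hpos j hj).le q.2), zero_smul]
      exact zero_mem _
    · obtain ⟨α, hα⟩ := Submodule.mem_span_singleton.1 (h0.le q.2)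
      rw [← hα, sub_zero, smul_assoc, one_smul]
      exact Submodule.mem_span_singleton.2 ⟨α, rfl⟩
    · rw [show pr 𝒜 (1 - j) g = 0 from ?_, smul_zero]
      · exact zero_mem _
      rcases lt_or_eq_of_le (show 1 - j ≤ 0 by omega) with h | h
      · exact (Submodule.mem_bot k).1 ((hpos _ h).le (pr_mem 𝒜 _ g))
      · rw [h, hg0]

/-- `H¹` of a polynomial ring in one variable vanishes in nonnegative degrees. -/
theorem van_one_of_gen [IsDomain R] (h0 : 𝒜 0 = Submodule.span k {(1 : R)})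
    (hstd : Ideal.span (⋃ n ∈ Set.Ioi (0 : ℤ), (𝒜 n : Set R)) = Ideal.span ((𝒜 1 : Submodule k R) : Set R))
    (hne : 𝒜 1 ≠ ⊥) {u : R} (hu1 : u ∈ 𝒜 1) (hu : ∀ a ∈ 𝒜 1, a ∈ Submodule.span k {u})
    (mR : HomogeneousIdeal 𝒜) (hmR : mR.toIdeal = posIdeal 𝒜) (I : GrLC.StarInjRes 𝒜 𝒜) (e : ℤ) (he : 0 ≤ e) :
    Van I mR 1 e := by
  have hu0 : u ≠ 0 := fun h => hne ((Submodule.eq_bot_iff _).2 fun a ha => by
    simpa [h] using hu a ha)
  let ℳ := agPiece 𝒜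
  letI : DirectSum.Decomposition ℳ := (isInternal_agPiece 𝒜).chooseDecomposition
  have hK : Homog ℳ (Ideal.span {u} : Submodule R R) := by
    intro x hx g
    obtain ⟨c, rfl⟩ := Ideal.mem_span_singleton.1 hx
    exact Ideal.mem_span_singleton.2 ⟨pr ℳ (g - 1) c, pr_smul 𝒜 ℳ hu1 g c⟩
  letI : DirectSum.Decomposition (quotPiece ℳ (Ideal.span {u} : Submodule R R)) := quotDec ℳ _ hK
  obtain ⟨EQ⟩ := nonempty_starInjRes 𝒜 (quotPiece ℳ (Ideal.span {u} : Submodule R R))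
  letI := shiftDec 𝒜 (-1 : ℤ)
  have hs : IsSES (shiftPiece 𝒜 (-1 : ℤ)) 𝒜 (quotPiece ℳ (Ideal.span {u} : Submodule R R)) (u • LinearMap.id : R →ₗ[R] R) (Ideal.span {u}).mkQ :=
    ⟨fun _ _ h => mul_left_cancel₀ hu0 h, Submodule.mkQ_surjective _, by
      rw [Submodule.ker_mkQ]
      ext x
      exact ⟨fun ⟨c, hc⟩ => hc ▸ Ideal.mem_span_singleton.2 ⟨c, rfl⟩,
        fun hx => (Ideal.mem_span_singleton.1 hx).elim fun c hc => ⟨c, hc.symm⟩⟩,
      fun g y hy => by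
        have h := smul_mem 𝒜 𝒜 hu1 (mem_shiftPiece.1 hy)
        rwa [show (1 : ℤ) + (g + -1) = g by ring] at h,
      fun g x hx => ⟨x, hx, rfl⟩⟩
  have hQ : ∀ g : ℤ, 0 < g → Van EQ mR 0 g := by
    intro g hg
    refine (van_zero_iff EQ mR g).2 ?_
    rintro _ ⟨a, ha, rfl⟩ -
    refine (Submodule.Quotient.mk_eq_zero _).2 ?_
    obtain ⟨n, rfl⟩ : ∃ n : ℕ, g = ((n + 1 : ℕ) : ℤ) := ⟨(g - 1).toNat, by omega⟩
    obtain ⟨c, rfl⟩ := Submodule.mem_span_singleton.1 (piece_eq_span_pow h0 hstd hu (n + 1) a ha)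
    exact Ideal.mem_span_singleton.2 ⟨c • u ^ n, by rw [mul_smul_comm, pow_succ']⟩
  let φ : RMap (shiftRes I (-1 : ℤ)) I (u • LinearMap.id : R →ₗ[R] R) :=
    { φ := fun i => u • (LinearMap.id : (I.X i).carrier →ₗ[R] (I.X i).carrier)
      gr := fun i g y hy => by
        have h1 := smul_mem 𝒜 (I.X i).gr hu1 (show y ∈ (I.X i).gr (g + -1) from hy)
        rwa [show (1 : ℤ) + (g + -1) = g by ring] at h1
      ε := fun y => (map_smul I.ε u y).symm
      comm := fun i y => (map_smul (I.d i) u y).symm }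
  have step : ∀ (n : ℕ) (g : ℤ) (z : (I.X 1).carrier), 0 ≤ g → z ∈ (I.X 1).gr g →
      z ∈ I.cocyc mR 1 → u ^ n • z ∈ I.cobdy mR 1 → z ∈ I.cobdy mR 1 := by
    intro n
    induction n with
    | zero => intro g z _ _ _ hz; simpa using hz
    | succ n ihn =>
      intro g z hg hz hzc hn
      have h1 : u • z ∈ I.cobdy mR 1 := ihn (1 + g) _ (by omega) (smul_mem 𝒜 (I.X 1).gr hu1 hz)
        (Submodule.smul_mem _ _ hzc) (by rwa [← mul_smul, ← pow_succ])
      exact mem_cobdy_left (i := 0) hs (shiftRes I (-1 : ℤ)) I EQ mR (hQ (g + 1) (by omega)) φ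
        (show z ∈ (I.X 1).gr (g + 1 + -1) by rwa [add_neg_cancel_right]) hzc h1
  intro z hz hzc
  obtain ⟨n, hn⟩ := hzc.1
  exact step n e z he hz hzc (by
    rw [hn _ (Ideal.pow_mem_pow (hmR.symm ▸ mem_posIdeal 𝒜 one_pos hu1) n)]
    exact Submodule.zero_mem _)

end Groth.Agent.SegreLC
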