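import Groth.Agent.SegreLC.GorSegre
import Groth.Agent.SegreLC.StdPieces
import Groth.Agent.S18640

/-!
The number of generators of a Segre product of shifted rings.
-/

set_option autoImplicit false
set_option linter.unusedSectionVars false
set_option linter.style.haveILetI false
set_option backward.isDefEq.respectTransparency false
set_option backward.isDefEq.respectTransparency.types false
universe u

open scoped Classical TensorProduct
open DirectSum Groth.Agent.GrLCLib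

noncomputable section

namespace Groth.Agent.SegreLC

section Quot

variable {k : Type u} [Field k] {T : Type u} [CommRing T] [Algebra k T] {𝒯 : ℤ → Submodule k T} [GradedAlgebra 𝒯]
  {P : Type u} [AddCommGroup P] [Module T P] [Module k P] [IsScalarTower k T P] {υ : Type u} [SetLike υ P]
  [AddSubgroupClass υ P] {𝒬 : ℤ → υ} [DirectSum.Decomposition 𝒬] [SetLike.GradedSMul 𝒯 𝒬]

/-- A graded module generated in its lowest degree has that piece as its fibre at the positive ideal. -/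
theorem finrank_fibre (hposT : ∀ n : ℤ, n < 0 → 𝒯 n = ⊥) (h0T : 𝒯 0 = Submodule.span k {(1 : T)})
    (m : Ideal T) [m.IsMaximal] (hm : m = posIdeal 𝒯) (g₀ : ℤ) (hlow : ∀ g, g < g₀ → ∀ x ∈ 𝒬 g, x = 0)
    (hgen : ∀ g, g₀ < g → ∀ x ∈ 𝒬 g, x ∈ m • (⊤ : Submodule T P)) :
    Module.finrank (T ⧸ m) ((T ⧸ m) ⊗[T] P) = Module.finrank k (kpiece 𝒯 𝒬 g₀) := by
  have hker : (m • (⊤ : Submodule T P)).restrictScalars k = LinearMap.ker (prK 𝒯 𝒬 g₀) := by
    refine le_antisymm (fun x hx => ?_) (fun x hx => ?_)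
    · refine Submodule.smul_induction_on (show x ∈ m • (⊤ : Submodule T P) from hx) (fun r hr n _ => ?_)
        (fun u v hu hv => add_mem hu hv)
      show pr 𝒬 g₀ (r • n) = 0
      rw [hm] at hr
      induction hr using Submodule.span_induction generalizing n with
      | mem z hz =>
        obtain ⟨e, he, hze⟩ := Set.mem_iUnion₂.1 hz
        rw [GrLCLib.pr_smul 𝒯 𝒬 hze, hlow _ (by have : (0 : ℤ) < e := he; omega) _ (pr_mem 𝒬 _ n), smul_zero]
      | zero => rw [zero_smul, map_zero]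
      | add u v _ _ hu hv => rw [add_smul, map_add, hu n trivial, hv n trivial, add_zero]
      | smul c u _ hu => rw [smul_assoc, smul_comm]; exact hu _ trivial
    · have key : ∀ y : P, y - pr 𝒬 g₀ y ∈ m • (⊤ : Submodule T P) := by
        intro y
        induction y using DirectSum.Decomposition.inductionOn 𝒬 with
        | zero => rw [map_zero, sub_zero]; exact zero_mem _
        | @homogeneous g q =>
          rcases lt_trichotomy g g₀ with h | rfl | h
          · rw [hlow g h _ q.2, map_zero, sub_zero]; exact zero_mem _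
          · rw [pr_of_mem 𝒬 q.2, sub_self]; exact zero_mem _
          · rw [pr_of_mem_ne 𝒬 q.2 h.ne', sub_zero]; exact hgen g h _ q.2
        | add u v hu hv => rw [map_add, add_sub_add_comm]; exact add_mem hu hv
      have h := key x
      rwa [show pr 𝒬 g₀ x = 0 from hx, sub_zero] at h
  have hrange : LinearMap.range (prK 𝒯 𝒬 g₀) = kpiece 𝒯 𝒬 g₀ :=
    le_antisymm (LinearMap.range_le_iff_comap.2 (eq_top_iff.2 fun x _ => pr_mem 𝒬 g₀ x))
      fun x hx => ⟨x, prK_of_mem 𝒯 𝒬 hx⟩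
  have e₁ : ((T ⧸ m) ⊗[T] P) ≃ₗ[k] P ⧸ (m • (⊤ : Submodule T P)) :=
    (TensorProduct.quotTensorEquivQuotSMul P m).restrictScalars k
  have e₂ : (P ⧸ (m • (⊤ : Submodule T P))) ≃ₗ[k] P ⧸ LinearMap.ker (prK 𝒯 𝒬 g₀) :=
    (Submodule.Quotient.restrictScalarsEquiv k (m • (⊤ : Submodule T P))).symm.trans (Submodule.quotEquivOfEq _ _ hker)
  have e₃ := (e₁.trans e₂).trans ((LinearMap.quotKerEquivRange _).trans (LinearEquiv.ofEq _ _ hrange))
  haveI : Module.Free (T ⧸ m) ((T ⧸ m) ⊗[T] P) := by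
    letI := Ideal.Quotient.field m
    infer_instance
  have h1 : Module.finrank k (T ⧸ m) = 1 := by
    refine ((LinearEquiv.ofBijective (Algebra.linearMap k (T ⧸ m)) ⟨(algebraMap k (T ⧸ m)).injective, fun y => ?_⟩).finrank_eq).symm.trans
      (Module.finrank_self k)
    obtain ⟨t, rfl⟩ := Ideal.Quotient.mk_surjective y
    obtain ⟨c, hc⟩ := Submodule.mem_span_singleton.1 (h0T ▸ pr_mem 𝒯 0 t : pr 𝒯 0 t ∈ Submodule.span k {(1 : T)})
    refine ⟨c, ?_⟩
    rw [Algebra.linearMap_apply, IsScalarTower.algebraMap_apply k T (T ⧸ m), Ideal.Quotient.algebraMap_eq,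
      Ideal.Quotient.eq, Algebra.algebraMap_eq_smul_one, hc, ← neg_sub]
    exact neg_mem (hm ▸ sub_pr_zero_mem_pos hposT (posHom 𝒯) rfl t)
  rw [← e₃.finrank_eq, ← Module.finrank_mul_finrank k (T ⧸ m) ((T ⧸ m) ⊗[T] P), h1, one_mul]

end Quot

section Sg

variable {k : Type u} [Field k] {R : Type u} [CommRing R] [Algebra k R] {S : Type u} [CommRing S] [Algebra k S]
  {T : Type u} [CommRing T] [Algebra k T] {𝒜 : ℤ → Submodule k R} [GradedAlgebra 𝒜]
  {ℬ : ℤ → Submodule k S} [GradedAlgebra ℬ] {𝒯 : ℤ → Submodule k T} [GradedAlgebra 𝒯]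
  (D : Datum 𝒜 ℬ 𝒯)

/-- The constructed Segre product is a Segre product. -/
theorem isSegreMod_sval (X : GrLC.GMod.{u} 𝒜) (Y : GrLC.GMod.{u} ℬ) :
    GrSeg.IsSegreMod D.ψ X.gr Y.gr (sgPiece D X Y) (sval D X Y) where
  injective := sval_injective D X Y
  image_piece n := by
    refine Set.Subset.antisymm (Set.image_subset_iff.2 fun w hw => hw) fun w hw => ?_
    exact ⟨⟨w, Submodule.mem_iSup_of_mem n hw⟩, hw, rfl⟩
  map_smul := sval_smul D X Y

lemma sgPiece_low (X : GrLC.GMod.{u} 𝒜) (Y : GrLC.GMod.{u} ℬ) {g : ℤ} (h : ∀ y ∈ Y.gr g, y = 0)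
    (w : Sg D X Y) (hw : w ∈ sgPiece D X Y g) : w = 0 := by
  refine sval_injective D X Y ((map_zero (sval D X Y)).symm ▸ ?_)
  refine Submodule.span_le.2 ?_ hw |> (Submodule.mem_bot k).1
  rintro _ ⟨x, -, y, hy, rfl⟩
  rw [h y hy, TensorProduct.tmul_zero]
  exact zero_mem _

lemma tmul_smul_mem (X : GrLC.GMod.{u} 𝒜) (Y : GrLC.GMod.{u} ℬ) {t : T} {a₁ : R} {b₁ : S} (ht : t ∈ 𝒯 1)
    (hψ : D.ψ t = a₁ ⊗ₜ[k] b₁) {d : ℤ} {x' : X.carrier} (hx : x' ∈ X.gr d) {y' : Y.carrier} (hy : y' ∈ Y.gr d) :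
    (a₁ • x') ⊗ₜ[k] (b₁ • y') ∈
      ((posIdeal 𝒯 • (⊤ : Submodule T (Sg D X Y))).restrictScalars k).map (sval D X Y) := by
  let v : Sg D X Y := sgMk D X Y d ((⟨x', hx⟩ : kpiece 𝒜 X.gr d) ⊗ₜ[k] (⟨y', hy⟩ : kpiece ℬ Y.gr d))
  refine ⟨t • v, ?_, ?_⟩
  · have hv : t • v ∈ (posIdeal 𝒯) • (⊤ : Submodule T (Sg D X Y)) :=
      Submodule.smul_mem_smul (I := posIdeal 𝒯) (N := (⊤ : Submodule T (Sg D X Y))) (mem_posIdeal 𝒯 zero_lt_one ht) Submodule.mem_top
    exact (Submodule.restrictScalars_mem k _ _).2 hv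
  rw [sval_smul, hψ, sval_sgMk, emb_tmul]
  exact GrSeg.act_tmul a₁ b₁ x' y'

/-- Segre products of modules generated in one degree are too. -/
theorem mem_posIdeal_smul_top (X : GrLC.GMod.{u} 𝒜) (Y : GrLC.GMod.{u} ℬ) {g : ℤ}
    (hX : ∀ x ∈ X.gr g, x ∈ Submodule.span k {z | ∃ a ∈ 𝒜 1, ∃ x' ∈ X.gr (g - 1), z = a • x'})
    (hY : ∀ y ∈ Y.gr g, y ∈ Submodule.span k {z | ∃ a ∈ ℬ 1, ∃ y' ∈ Y.gr (g - 1), z = a • y'})
    (w : Sg D X Y) (hw : w ∈ sgPiece D X Y g) : w ∈ posIdeal 𝒯 • (⊤ : Submodule T (Sg D X Y)) := by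
  let N : Submodule k (X.carrier ⊗[k] Y.carrier) :=
    ((posIdeal 𝒯 • (⊤ : Submodule T (Sg D X Y))).restrictScalars k).map (sval D X Y)
  suffices h : sval D X Y w ∈ N by
    obtain ⟨v, hv, hvw⟩ := h
    exact sval_injective D X Y hvw ▸ hv
  refine Submodule.span_le.2 ?_ hw
  rintro _ ⟨x, hx, y, hy, rfl⟩
  have hx' := hX x hx
  have hy' := hY y hy
  clear hx hy
  induction hx' using Submodule.span_induction with
  | zero => rw [TensorProduct.zero_tmul]; exact zero_mem N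
  | add u v _ _ hu hv => rw [TensorProduct.add_tmul]; exact add_mem hu hv
  | smul c u _ hu => rw [← TensorProduct.smul_tmul']; exact N.smul_mem c hu
  | mem z hz =>
    obtain ⟨a₁, ha₁, x', hx'', rfl⟩ := hz
    induction hy' using Submodule.span_induction with
    | zero => rw [TensorProduct.tmul_zero]; exact zero_mem N
    | add u v _ _ hu hv => rw [TensorProduct.tmul_add]; exact add_mem hu hv
    | smul c u _ hu => rw [TensorProduct.tmul_smul]; exact N.smul_mem c hu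
    | mem z hz =>
      obtain ⟨b₁, hb₁, y', hy'', rfl⟩ := hz
      obtain ⟨t, ht, hψ⟩ := D.exists_preimage ha₁ hb₁
      exact tmul_smul_mem D X Y ht hψ hx'' hy''

/-- A shift of a standard graded algebra is generated from below in positive degrees. -/
theorem shift_mem_span (hstd : posIdeal 𝒜 = Ideal.span ((𝒜 1 : Submodule k R) : Set R)) (a : ℤ) {g : ℤ}
    (hg : 0 < g + a) (x : (shiftObj 𝒜 𝒜 a).carrier) (hx : x ∈ (shiftObj 𝒜 𝒜 a).gr g) :
    x ∈ Submodule.span k {z | ∃ c ∈ 𝒜 1, ∃ x' ∈ (shiftObj 𝒜 𝒜 a).gr (g - 1), z = c • x'} := by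
  have h := SegreDim.std_piece hstd hg (show (x : R) ∈ 𝒜 (g + a) from hx)
  refine Submodule.span_induction (p := fun (z : R) _ => (show (shiftObj 𝒜 𝒜 a).carrier from z) ∈
    Submodule.span k {z | ∃ c ∈ 𝒜 1, ∃ x' ∈ (shiftObj 𝒜 𝒜 a).gr (g - 1), z = c • x'}) ?_ (zero_mem _)
    (fun u v _ _ hu hv => add_mem hu hv) ?_ h
  · rintro z ⟨c, hc, d, hd, rfl⟩
    refine Submodule.subset_span ⟨c, hc, d, show d ∈ 𝒜 (g - 1 + a) from ?_, rfl⟩
    rwa [sub_add_eq_add_sub]
  · intro c u _ hu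
    rw [Algebra.smul_def]
    exact Submodule.smul_mem _ c hu

/-- A piece of a shifted ring is a piece of the ring. -/
theorem finrank_kpiece_shift (a g : ℤ) :
    Module.finrank k (kpiece 𝒜 (shiftObj 𝒜 𝒜 a).gr g) = Module.finrank k (𝒜 (g + a)) :=
  LinearEquiv.finrank_eq
    { toFun := fun x => (⟨x.1, x.2⟩ : 𝒜 (g + a))
      invFun := fun x => ⟨x.1, x.2⟩
      map_add' := fun _ _ => rfl
      map_smul' := fun c x => Subtype.ext (Algebra.smul_def c (show R from x.1)).symm }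

include D in
set_option maxHeartbeats 1600000 in
/-- The type of the Segre product of standard Gorenstein algebras. -/
theorem bassNum_segre [Nontrivial R] [Nontrivial S] [Algebra.FiniteType k R] [Algebra.FiniteType k S]
    [LocCoh.IsGorensteinRing R] [LocCoh.IsGorensteinRing S] [LocCoh.IsCohenMacaulayRing T]
    (hposR : ∀ n : ℤ, n < 0 → 𝒜 n = ⊥) (h0R : 𝒜 0 = Submodule.span k {(1 : R)})
    (hposS : ∀ n : ℤ, n < 0 → ℬ n = ⊥) (h0S : ℬ 0 = Submodule.span k {(1 : S)})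
    (hstdR : posIdeal 𝒜 = Ideal.span ((𝒜 1 : Submodule k R) : Set R))
    (hstdS : posIdeal ℬ = Ideal.span ((ℬ 1 : Submodule k S) : Set S))
    (mR : HomogeneousIdeal 𝒜) (hmR : mR.toIdeal = posIdeal 𝒜) (I : GrLC.StarInjRes 𝒜 𝒜)
    (mS : HomogeneousIdeal ℬ) (hmS : mS.toIdeal = posIdeal ℬ) (J : GrLC.StarInjRes ℬ ℬ) {i j : ℕ}
    (hr : ringKrullDim R = ((i + 1 + 1 : ℕ) : WithBot ℕ∞)) (hs : ringKrullDim S = ((j + 1 + 1 : ℕ) : WithBot ℕ∞))
    {a b : ℤ} (ha : GrLC.endDeg (I.Hgr mR (i + 1 + 1)) = ((a : WithTop ℤ) : WithBot (WithTop ℤ)))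
    (hb : GrLC.endDeg (J.Hgr mS (j + 1 + 1)) = ((b : WithTop ℤ) : WithBot (WithTop ℤ))) (hab : b ≤ a)
    (hdT : ringKrullDim T = ((i + j + 1 + 1 + 1 : ℕ) : WithBot ℕ∞)) (mT : HomogeneousIdeal 𝒯) [mT.toIdeal.IsMaximal]
    (hmT : mT.toIdeal = posIdeal 𝒯) :
    GrLC.bassNum mT.toIdeal T (i + j + 1 + 1 + 1) = (Module.finrank k (𝒜 (a - b)) : ℕ∞) := by
  haveI := nontrivial_T D
  haveI := finiteType_T D hposR h0R hposS h0S
  haveI : IsNoetherianRing T := Algebra.FiniteType.isNoetherianRing k T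
  obtain ⟨G⟩ := exists_gens' D hposR h0R hposS h0S
  obtain ⟨a', ER, eR, heR, hCR⟩ := exists_shift_canonical hposR h0R mR hmR hr I
  obtain ⟨b', ES, eS, heS, hCS⟩ := exists_shift_canonical hposS h0S mS hmS hs J
  rw [endDeg_eq_of_shift_canonical hposR h0R mR hmR I heR a' hCR] at ha
  rw [endDeg_eq_of_shift_canonical hposS h0S mS hmS J heS b' hCS] at hb
  obtain rfl : a' = a := by exact_mod_cast ha
  obtain rfl : b' = b := by exact_mod_cast hb
  obtain ⟨IT⟩ := GrLCLib.nonempty_starInjRes 𝒯 𝒯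
  obtain ⟨ET, eT, heT, heT'⟩ := exists_hull_both mT
  have hposT := neg_T D hposR
  have h0T := h0_T D h0R h0S
  let X := shiftObj 𝒜 𝒜 a'
  let Y := shiftObj ℬ ℬ b'
  have hP := isSegreMod_sval D X Y
  have hC : GrLC.IsStarCanonical 𝒯 (sgPiece D X Y) ET.gr mT (i + j + 1 + 1 + 1) IT :=
    isStarCanonical_segre D hposR h0R hposS h0S hposT h0T G mR hmR I mS hmS J mT hmT IT
      ((Module.supportDim_self_eq_ringKrullDim _).trans hr) ((Module.supportDim_self_eq_ringKrullDim _).trans hs)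
      heR (CR := X.carrier) (𝒞R := X.gr) hCR heS (CS := Y.carrier) (𝒞S := Y.gr) hCS heT hP
  haveI : (idealAdd 𝒯 mT).toIdeal.IsMaximal := ‹mT.toIdeal.IsMaximal›
  have h := (S18640.result T (addGr 𝒯) (hpos_addGr hposT) (isField_deg0_addGr h0T) (idealAdd 𝒯 mT)
    (isStarLocal_idealAdd_pos hposT h0T mT hmT) hmT (i + j + 1 + 1 + 1) hdT (resSelfAdd 𝒯 IT) ET.carrier ET.gr eT heT'
    (Sg D X Y) (sgPiece D X Y) (isStarCanonical_addGr hC)).2
  refine h.trans (congrArg Nat.cast ?_)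
  refine (finrank_fibre (k := k) hposT h0T mT.toIdeal hmT (-b') (P := Sg D X Y) (𝒬 := sgPiece D X Y) (fun g hg => ?_)
    (fun g hg => ?_)).trans ?_
  · exact sgPiece_low D X Y fun y hy => eq_zero_of_neg hposS (g + b') (by omega) y hy
  · intro w hw
    rw [hmT]
    exact mem_posIdeal_smul_top D X Y (shift_mem_span hstdR a' (by omega)) (shift_mem_span hstdS b' (by omega)) w hw
  obtain ⟨e, -⟩ := exists_pieceEquiv D hP (-b')
  rw [e.finrank_eq, Module.finrank_tensorProduct, finrank_kpiece_shift a' (-b'), finrank_kpiece_shift b' (-b'),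
    neg_add_cancel, h0S, finrank_span_singleton one_ne_zero, mul_one, neg_add_eq_sub]

end Sg

end Groth.Agent.SegreLC
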