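import Groth.Agent.SegreLC.Apps

/-!
Local cohomology of a Segre product with a module on which a positive element acts bijectively.
-/

set_option autoImplicit false
set_option linter.unusedSectionVars false
set_option linter.style.haveILetI false
set_option backward.isDefEq.respectTransparency false
set_option backward.isDefEq.respectTransparency.types false
universe u

open scoped Classical TensorProduct
open DirectSum Groth.Agent.GrLCLib

noncomputable section

namespace Groth.Agent.SegreLC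

variable {k : Type u} [Field k] {R : Type u} [CommRing R] [Algebra k R] {S : Type u} [CommRing S] [Algebra k S]
  {T : Type u} [CommRing T] [Algebra k T] {𝒜 : ℤ → Submodule k R} [GradedAlgebra 𝒜]
  {ℬ : ℤ → Submodule k S} [GradedAlgebra ℬ] {𝒯 : ℤ → Submodule k T} [GradedAlgebra 𝒯]
  (D : Datum 𝒜 ℬ 𝒯) (G : Gens D)

/-- The tower condition, on the paths of the module structures. -/
abbrev Tow (k R V : Type u) [Field k] [CommRing R] [Algebra k R] [AddCommGroup V] [Module R V] [Module k V] : Prop :=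
  IsScalarTower k R V

/-- A module on which a positive homogeneous element acts bijectively. -/
structure BijMod (Y : GrLC.GMod.{u} ℬ) where
  g : S
  e : ℕ
  e_pos : 0 < e
  mem : g ∈ ℬ (e : ℤ)
  bij : Function.Bijective fun y : Y.carrier => g • y

variable {D}

lemma bijective_pow_smul {A : Type u} [Monoid A] {V : Type u} [MulAction A V] {a : A}
    (h : Function.Bijective fun v : V => a • v) : ∀ n : ℕ, Function.Bijective fun v : V => a ^ n • v
  | 0 => ⟨fun a b h => by simpa using h, fun b => ⟨b, by simp⟩⟩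
  | n + 1 => by
    have h' := (bijective_pow_smul h n).comp h
    rwa [show ((fun v : V => a ^ n • v) ∘ fun v => a • v) = fun v => a ^ (n + 1) • v from
      funext fun v => by simp [pow_succ, mul_smul]] at h'

include G in
/-- Segre products of an injective module and such a module are acyclic. -/
theorem acy_bij {mT : Ideal T} (hmT : mT = posIdeal 𝒯) (X : GrLC.GMod.{u} 𝒜) (hX : GrLC.IsStarInj 𝒜 X.gr)
    {Y : GrLC.GMod.{u} ℬ} (hY : BijMod Y) : Acy mT (Sg D X Y) := by
  haveI := G.noethR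
  haveI := G.noethT
  refine filt_induction G.ER.x G.ER.mem (fun X => Acy mT (Sg D X Y)) (fun X K hK h1 h2 => ?_)
    (fun X h => acy_of_torsion (gam_left G hmT h)) (fun X i hi => ?_) X hX
  · exact acy_of_exact (segMap D (X := subObj 𝒜 X.gr K hK) K.subtype (subtype_grHom X.gr K)
        (LinearMap.id : Y.carrier →ₗ[S] Y.carrier) (id_grHom Y))
      (segMap D (X' := quotObj 𝒜 X.gr K hK) K.mkQ (mkQ_grHom X.gr K) (LinearMap.id : Y.carrier →ₗ[S] Y.carrier)
        (id_grHom Y))
      (segMap_injective D K.injective_subtype Function.injective_id)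
      (segMap_surjective D K.mkQ_surjective Function.surjective_id)
      (segMap_exact_left D (X'' := quotObj 𝒜 X.gr K hK) (X := subObj 𝒜 X.gr K hK) Y (subtype_grHom X.gr K)
        (mkQ_grHom X.gr K) K.mkQ_surjective (K.range_subtype.trans K.ker_mkQ.symm)) h1 h2
  · have ha : G.ER.x i ^ hY.e ∈ 𝒜 ((hY.e * G.ER.deg : ℕ) : ℤ) := by
      have := SetLike.pow_mem_graded hY.e (G.ER.mem i)
      rwa [nsmul_eq_mul, ← Nat.cast_mul] at this
    have hb : hY.g ^ G.ER.deg ∈ ℬ ((hY.e * G.ER.deg : ℕ) : ℤ) := by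
      have := SetLike.pow_mem_graded G.ER.deg hY.mem
      rwa [nsmul_eq_mul, ← Nat.cast_mul, mul_comm] at this
    obtain ⟨t, ht, htψ⟩ := D.exists_preimage ha hb
    have htm : t ∈ mT := hmT ▸ mem_posIdeal 𝒯 (Int.natCast_pos.2 (Nat.mul_pos hY.e_pos G.ER.deg_pos)) ht
    exact fun q => subsingleton_H_of_bijective htm
      (bijective_smul ha hb htψ (bijective_pow_smul hi _) (bijective_pow_smul hY.bij _)) (q + 1)

lemma kgam_eq_bot {mS : Ideal S} (hmS : mS = posIdeal ℬ) {Y : GrLC.GMod.{u} ℬ} (hY : BijMod Y) (d : ℤ) :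
    kgam mS Y d = ⊥ := by
  refine (Submodule.eq_bot_iff _).2 fun y hy => Subtype.ext ?_
  obtain ⟨n, hn⟩ := mem_kgam.1 hy
  have h := hn _ (Ideal.pow_mem_pow (hmS ▸ mem_posIdeal ℬ (Int.natCast_pos.2 hY.e_pos) hY.mem) n)
  exact (bijective_pow_smul hY.bij n).injective (h.trans (smul_zero _).symm)

/-- The projection to a degree commutes with maps of the first factor. -/
lemma prT_map {X X' : GrLC.GMod.{u} 𝒜} (Y : GrLC.GMod.{u} ℬ) (f : X.carrier →ₗ[R] X'.carrier)
    (hf : GrLC.IsGrHom X.gr X'.gr f) (d : ℤ) (w : X.carrier ⊗[k] Y.carrier) :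
    prT X' Y d (TensorProduct.map (kLin f) LinearMap.id w) = TensorProduct.map (kLin f) LinearMap.id (prT X Y d w) := by
  induction w using TensorProduct.induction_on with
  | zero => simp
  | add u v hu hv => simp only [map_add, hu, hv]
  | tmul x y =>
    rw [TensorProduct.map_tmul, prT, prT, TensorProduct.map_tmul, TensorProduct.map_tmul, TensorProduct.map_tmul]
    exact congrArg (· ⊗ₜ[k] _) (pr_map X.gr X'.gr hf d x)

lemma sval_pr {X : GrLC.GMod.{u} 𝒜} {Y : GrLC.GMod.{u} ℬ} (d : ℤ) (w : Sg D X Y) :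
    sval D X Y (pr (sgPiece D X Y) d w) = prT X Y d (sval D X Y w) := by
  induction w using DirectSum.Decomposition.inductionOn (sgPiece D X Y) with
  | zero => simp
  | add u v hu hv => simp only [map_add, hu, hv]
  | @homogeneous e v =>
    by_cases h : e = d
    · subst h
      rw [pr_of_mem (sgPiece D X Y) v.2]
      exact (prT_of_mem X Y (d := e) v.2).symm
    · rw [pr_of_mem_ne (sgPiece D X Y) v.2 h, map_zero]
      exact (prT_of_ne X Y (e := e) v.2 h).symm

lemma map_prod_eq_zero {V V₁ V₂ W : Type u} [AddCommGroup V] [Module k V] [AddCommGroup V₁] [Module k V₁]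
    [AddCommGroup V₂] [Module k V₂] [AddCommGroup W] [Module k W] (f : V →ₗ[k] V₁) (g : V →ₗ[k] V₂) (v : V ⊗[k] W)
    (h1 : TensorProduct.map f LinearMap.id v = 0) (h2 : TensorProduct.map g LinearMap.id v = 0) :
    TensorProduct.map (f.prod g) LinearMap.id v = 0 := by
  refine (TensorProduct.prodLeft k k V₁ V₂ W).injective ?_
  rw [map_zero]
  have e : TensorProduct.prodLeft k k V₁ V₂ W (TensorProduct.map (f.prod g) LinearMap.id v) =
      (TensorProduct.map f LinearMap.id v, TensorProduct.map g LinearMap.id v) := by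
    clear h1 h2
    induction v using TensorProduct.induction_on with
    | zero => simp only [map_zero]; rfl
    | add u v hu hv => simp only [map_add, hu, hv, Prod.mk_add_mk]
    | tmul x y => simp
  rw [e, h1, h2]
  rfl

/-- A piece killed by a map comes from any submodule containing the kernel. -/
lemma emb_mem_range {X : GrLC.GMod.{u} 𝒜} (Y : GrLC.GMod.{u} ℬ) (A : Submodule R X.carrier) {d : ℤ}
    {V : Type u} [AddCommGroup V] [Module k V] (f : kpiece 𝒜 X.gr d →ₗ[k] V)
    (hA : ∀ x, f x = 0 → (x : X.carrier) ∈ A) {v : kpiece 𝒜 X.gr d ⊗[k] kpiece ℬ Y.gr d}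
    (hv : TensorProduct.map f LinearMap.id v = 0) :
    emb X Y d v ∈ LinearMap.range (TensorProduct.map (kLin (k := k) A.subtype) (LinearMap.id : Y.carrier →ₗ[k] Y.carrier)) := by
  obtain ⟨w, rfl⟩ := ((Module.Flat.rTensor_exact (kpiece ℬ Y.gr d) (LinearMap.exact_subtype_ker_map f)) v).1 hv
  clear hv
  induction w using TensorProduct.induction_on with
  | zero => rw [map_zero, map_zero]; exact zero_mem _
  | add u v hu hv => rw [map_add, map_add]; exact add_mem hu hv
  | tmul x y => exact ⟨(⟨x.1.1, hA x.1 x.2⟩ : A) ⊗ₜ[k] (y : Y.carrier), rfl⟩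

variable {M : Type u} [AddCommGroup M] [Module R M] [Module k M] [IsScalarTower k R M]
  {τ : Type u} [SetLike τ M] [AddSubgroupClass τ M] {ℳ : ℤ → τ} [DirectSum.Decomposition ℳ] [SetLike.GradedSMul 𝒜 ℳ]
  (E : GrLC.StarInjRes 𝒜 ℳ) {Y : GrLC.GMod.{u} ℬ}
  {P : Type u} [AddCommGroup P] [Module T P] [Module k P] [IsScalarTower k T P]
  {υ : Type u} [SetLike υ P] [AddSubgroupClass υ P] {𝒬 : ℤ → υ} [DirectSum.Decomposition 𝒬]
  [SetLike.GradedSMul 𝒯 𝒬] {φ : P →ₗ[k] M ⊗[k] Y.carrier} (hP : GrSeg.IsSegreMod D.ψ ℳ Y.gr 𝒬 φ)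

variable (D Y) in
/-- The differential. -/
def dL (i : ℕ) : Sg D (E.X i) Y →ₗ[T] Sg D (E.X (i + 1)) Y :=
  segMap D (E.d i) (E.d_grHom i) (LinearMap.id : Y.carrier →ₗ[S] Y.carrier) (id_grHom Y)

lemma sval_dL (i : ℕ) (w : Sg D (E.X i) Y) :
    sval D (E.X (i + 1)) Y (dL D E Y i w) = TensorProduct.map (kLin (E.d i)) LinearMap.id (sval D (E.X i) Y w) :=
  rfl

lemma dL_sgMk (i : ℕ) (d : ℤ) (v : kpiece 𝒜 (E.X i).gr d ⊗[k] kpiece ℬ Y.gr d) :
    dL D E Y i (sgMk D (E.X i) Y d v) =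
      sgMk D (E.X (i + 1)) Y d (TensorProduct.map (kpieceMap (E.d i) (E.d_grHom i) d) LinearMap.id v) :=
  segMap_sgMk D (E.d i) (E.d_grHom i) (LinearMap.id : Y.carrier →ₗ[S] Y.carrier) (id_grHom Y) d v

include hP in
lemma epsL_mem (p : P) :
    TensorProduct.map (kLin (k := k) E.ε) (LinearMap.id : Y.carrier →ₗ[k] Y.carrier) (φ p) ∈ segSub (E.X 0) Y := by
  induction p using DirectSum.Decomposition.inductionOn 𝒬 with
  | zero => rw [map_zero, map_zero]; exact zero_mem _
  | add a b ha hb => rw [map_add, map_add]; exact add_mem ha hb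
  | @homogeneous d q =>
    obtain ⟨w, hw⟩ := exists_piece_tensor D hP q.2
    refine Submodule.mem_iSup_of_mem d ?_
    rw [← hw, ← range_emb]
    refine ⟨TensorProduct.map (epsPiece E d) LinearMap.id w, ?_⟩
    rw [emb, ← LinearMap.comp_apply, ← TensorProduct.map_comp, ← LinearMap.comp_apply, ← TensorProduct.map_comp]
    rfl

/-- The augmentation. -/
def epsL : P →ₗ[T] Sg D (E.X 0) Y where
  toFun p := ⟨_, epsL_mem E hP p⟩
  map_add' a b := sval_injective D (E.X 0) Y (by
    show TensorProduct.map (kLin (k := k) E.ε) LinearMap.id (φ (a + b)) =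
      TensorProduct.map (kLin (k := k) E.ε) LinearMap.id (φ a) + TensorProduct.map (kLin (k := k) E.ε) LinearMap.id (φ b)
    rw [map_add, map_add])
  map_smul' t p := sval_injective D (E.X 0) Y (by
    show TensorProduct.map (kLin (k := k) E.ε) (kLin (k := k) (LinearMap.id : Y.carrier →ₗ[S] Y.carrier)) (φ (t • p)) =
      GrSeg.act k R S _ _ (D.ψ t) (TensorProduct.map (kLin (k := k) E.ε) (kLin (k := k) (LinearMap.id : Y.carrier →ₗ[S] Y.carrier)) (φ p))
    rw [hP.map_smul, map_act])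

lemma epsL_of_piece {d : ℤ} {p : P} {w : kpiece 𝒜 ℳ d ⊗[k] kpiece ℬ Y.gr d}
    (hw : TensorProduct.map (kpiece 𝒜 ℳ d).subtype (kpiece ℬ Y.gr d).subtype w = φ p) :
    epsL E hP p = sgMk D (E.X 0) Y d (TensorProduct.map (epsPiece E d) LinearMap.id w) := by
  refine sval_injective D (E.X 0) Y ?_
  show TensorProduct.map (kLin (k := k) E.ε) LinearMap.id (φ p) = _
  rw [sval_sgMk, ← hw, emb, ← LinearMap.comp_apply, ← TensorProduct.map_comp, ← LinearMap.comp_apply,
    ← TensorProduct.map_comp]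
  rfl

lemma exact_epsL : LinearMap.ker (dL D E Y 0) = LinearMap.range (epsL E hP) := by
  refine le_antisymm (fun z hz => ?_) ?_
  · refine mem_of_pr_mem (sgPiece D (E.X 0) Y) (K := LinearMap.range (epsL E hP)) fun d => ?_
    have hzd := homog_ker (sgPiece D (E.X 0) Y) (sgPiece D (E.X 1) Y) (segMap_grHom D (E.d 0) (E.d_grHom 0) _ (id_grHom Y)) z hz d
    obtain ⟨v, hv⟩ := exists_sgMk D (E.X 0) Y (pr_mem (sgPiece D (E.X 0) Y) d z)
    rw [← hv] at hzd ⊢
    have h0 : TensorProduct.map (kpieceMap (E.d 0) (E.d_grHom 0) d) LinearMap.id v = 0 :=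
      sgMk_injective D (E.X 1) Y d ((dL_sgMk E 0 d v).symm.trans (Eq.trans hzd (map_zero _).symm))
    obtain ⟨w, rfl⟩ := (Module.Flat.rTensor_exact (kpiece ℬ Y.gr d)
      (LinearMap.exact_iff.2 (range_epsPiece E d).symm : Function.Exact (epsPiece E d) (kpieceMap (E.d 0) (E.d_grHom 0) d)) v).1 h0
    obtain ⟨p, -, hpw⟩ := exists_of_piece_tensor D hP w
    exact ⟨p, epsL_of_piece E hP hpw.symm⟩
  · rintro _ ⟨p, rfl⟩
    refine sval_injective D (E.X 1) Y ?_
    rw [map_zero, sval_dL]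
    show TensorProduct.map (kLin (k := k) (E.d 0)) LinearMap.id (TensorProduct.map (kLin (k := k) E.ε) LinearMap.id (φ p)) = 0
    rw [← LinearMap.comp_apply, ← TensorProduct.map_comp,
      show kLin (k := k) (E.d 0) ∘ₗ kLin (k := k) E.ε = 0 from LinearMap.ext fun m => GrLCLib.d_ε E m,
      TensorProduct.map_zero_left, LinearMap.zero_apply]

lemma exact_dL (i : ℕ) : LinearMap.ker (dL D E Y (i + 1)) = LinearMap.range (dL D E Y i) := by
  refine le_antisymm (fun z hz => ?_) ?_
  · refine mem_of_pr_mem (sgPiece D (E.X (i + 1)) Y) (K := LinearMap.range (dL D E Y i)) fun d => ?_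
    have hzd := homog_ker (sgPiece D (E.X (i + 1)) Y) (sgPiece D (E.X (i + 2)) Y)
      (segMap_grHom D (E.d (i + 1)) (E.d_grHom (i + 1)) _ (id_grHom Y)) z hz d
    obtain ⟨v, hv⟩ := exists_sgMk D (E.X (i + 1)) Y (pr_mem (sgPiece D (E.X (i + 1)) Y) d z)
    rw [← hv] at hzd ⊢
    have h0 : TensorProduct.map (kpieceMap (E.d (i + 1)) (E.d_grHom (i + 1)) d) LinearMap.id v = 0 :=
      sgMk_injective D (E.X (i + 2)) Y d ((dL_sgMk E (i + 1) d v).symm.trans (Eq.trans hzd (map_zero _).symm))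
    obtain ⟨w, rfl⟩ := (Module.Flat.rTensor_exact (kpiece ℬ Y.gr d)
      (exact_kpieceMap (E.d_grHom i) (E.d_grHom (i + 1)) (E.exact_succ i).symm d) v).1 h0
    exact ⟨sgMk D (E.X i) Y d w, dL_sgMk E i d w⟩
  · rintro _ ⟨w, rfl⟩
    refine sval_injective D (E.X (i + 2)) Y ?_
    rw [map_zero, sval_dL, sval_dL, ← LinearMap.comp_apply, ← TensorProduct.map_comp,
      show kLin (k := k) (E.d (i + 1)) ∘ₗ kLin (k := k) (E.d i) = 0 from LinearMap.ext fun m => GrLCLib.d_d E i m,
      TensorProduct.map_zero_left, LinearMap.zero_apply]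

/-- The Segre product of a resolution with the module, as an acyclic resolution. -/
def resL (hY : BijMod Y) (mT : HomogeneousIdeal 𝒯) (hmT : mT.toIdeal = posIdeal 𝒯) :
    GrLCVeronese.AcyRes 𝒬 mT where
  X i := sgObj D (E.X i) Y
  d i := dL D E Y i
  ε := epsL E hP
  d_grHom i := segMap_grHom D (E.d i) (E.d_grHom i) _ (id_grHom Y)
  ε_grHom d p hp := by
    obtain ⟨w, hw⟩ := exists_piece_tensor D hP hp
    show epsL E hP p ∈ sgPiece D (E.X 0) Y d
    rw [epsL_of_piece E hP hw]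
    exact sgMk_mem D (E.X 0) Y d _
  ε_injective p q h := hP.injective (TensorProduct.map_injective_of_flat_flat (kLin (k := k) E.ε) LinearMap.id
    E.ε_injective Function.injective_id (congrArg (sval D (E.X 0) Y) h))
  exact_zero := exact_epsL E hP
  exact_succ i := exact_dL E i
  acyclic i j := acy_bij G hmT (E.X i) (E.starInj i) hY j

section Class

variable (mR : HomogeneousIdeal 𝒜) (hmR : mR.toIdeal = posIdeal 𝒜) (hY : BijMod Y) {mT : Ideal T}
  (hmT : mT = posIdeal 𝒯) (i : ℕ)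

variable (D Y mT) in
/-- The torsion cocycles. -/
def cocL : Submodule T (Sg D (E.X i) Y) := GrLC.gam mT (Sg D (E.X i) Y) ⊓ LinearMap.ker (dL D E Y i)

variable (Y) in
/-- The cocycles, in the tensor product. -/
def jA : ↥(E.cocyc mR i) ⊗[k] Y.carrier →ₗ[k] (E.X i).carrier ⊗[k] Y.carrier :=
  TensorProduct.map (kLin (k := k) (E.cocyc mR i).subtype) LinearMap.id

lemma jA_injective : Function.Injective (jA (k := k) E Y mR i) :=
  TensorProduct.map_injective_of_flat_flat _ _ (Submodule.injective_subtype _) Function.injective_id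

include G hmR hY hmT in
lemma sgMk_gam_iff (d : ℤ) (v : kpiece 𝒜 (E.X i).gr d ⊗[k] kpiece ℬ Y.gr d) :
    sgMk D (E.X i) Y d v ∈ GrLC.gam mT (Sg D (E.X i) Y) ↔
      TensorProduct.map (kgam mR.toIdeal (E.X i) d).mkQ LinearMap.id v = 0 := by
  rw [sgMk_mem_gam_iff G hmR (mS := posIdeal ℬ) rfl hmT (E.X i) Y d v]
  have e : TensorProduct.map (kgam mR.toIdeal (E.X i) d).mkQ (kgam (posIdeal ℬ) Y d).mkQ v =
      TensorProduct.map LinearMap.id (kgam (posIdeal ℬ) Y d).mkQ
        (TensorProduct.map (kgam mR.toIdeal (E.X i) d).mkQ LinearMap.id v) := by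
    rw [← LinearMap.comp_apply, ← TensorProduct.map_comp, LinearMap.id_comp, LinearMap.comp_id]
  rw [e]
  have hinj : Function.Injective (TensorProduct.map (LinearMap.id : (kpiece 𝒜 (E.X i).gr d ⧸ kgam mR.toIdeal (E.X i) d) →ₗ[k] _)
      (kgam (posIdeal ℬ) Y d).mkQ) := by
    refine TensorProduct.map_injective_of_flat_flat _ _ Function.injective_id (LinearMap.ker_eq_bot.1 ?_)
    rw [Submodule.ker_mkQ]
    exact kgam_eq_bot rfl hY d
  exact ⟨fun h => hinj (h.trans (map_zero _).symm), fun h => by rw [h, map_zero]⟩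

include G hmR hY hmT in
lemma sval_cocL_mem {z : Sg D (E.X i) Y} (hz : z ∈ cocL D E Y mT i) :
    sval D (E.X i) Y z ∈ LinearMap.range (jA (k := k) E Y mR i) := by
  rw [← sum_pr (sgPiece D (E.X i) Y) z, map_sum]
  refine Submodule.sum_mem _ fun d _ => ?_
  obtain ⟨v, hv⟩ := exists_sgMk D (E.X i) Y (pr_mem (sgPiece D (E.X i) Y) d z)
  let mT' : HomogeneousIdeal 𝒯 := ⟨mT, hmT ▸ Ideal.homogeneous_span 𝒯 _ (fun x hx => by
    obtain ⟨n, -, hn⟩ := Set.mem_iUnion₂.1 hx
    exact ⟨n, hn⟩)⟩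
  have hg : pr (sgPiece D (E.X i) Y) d z ∈ GrLC.gam mT (Sg D (E.X i) Y) :=
    homog_gam 𝒯 (ℳ := sgPiece D (E.X i) Y) mT' z hz.1 d
  have hd := homog_ker (sgPiece D (E.X i) Y) (sgPiece D (E.X (i + 1)) Y)
      (segMap_grHom D (E.d i) (E.d_grHom i) _ (id_grHom Y)) z hz.2 d
  rw [← hv] at hg hd ⊢
  have h1 := (sgMk_gam_iff G E mR hmR hY hmT i d v).1 hg
  have h2 : TensorProduct.map (kpieceMap (E.d i) (E.d_grHom i) d) LinearMap.id v = 0 :=
    sgMk_injective D (E.X (i + 1)) Y d ((dL_sgMk E i d v).symm.trans (Eq.trans hd (map_zero _).symm))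
  rw [sval_sgMk]
  refine emb_mem_range Y (E.cocyc mR i)
    ((kgam mR.toIdeal (E.X i) d).mkQ.prod (kpieceMap (E.d i) (E.d_grHom i) d))
    (fun x hx => ?_) ?_
  · obtain ⟨hx1, hx2⟩ := Prod.mk_eq_zero.1 (hx : ((_, _) : _ × _) = 0)
    exact ⟨((Submodule.Quotient.mk_eq_zero (kgam mR.toIdeal (E.X i) d)).1 hx1 : x ∈ kgam mR.toIdeal (E.X i) d), congrArg Subtype.val hx2⟩
  · exact map_prod_eq_zero _ _ v h1 h2

/-- The lift of a cocycle to the tensor product of the cocycles. -/
def liftA : cocL D E Y mT i →ₗ[k] ↥(E.cocyc mR i) ⊗[k] Y.carrier :=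
  (LinearEquiv.ofInjective _ (jA_injective E mR i)).symm.toLinearMap ∘ₗ
    (sval D (E.X i) Y ∘ₗ (cocL D E Y mT i).subtype.restrictScalars k).codRestrict _
      fun z => sval_cocL_mem G E mR hmR hY hmT i z.2

lemma jA_liftA (z : cocL D E Y mT i) :
    jA E Y mR i (liftA G E mR hmR hY hmT i z) = sval D (E.X i) Y (z : Sg D (E.X i) Y) :=
  congrArg Subtype.val ((LinearEquiv.ofInjective _ (jA_injective (k := k) E mR i)).apply_symm_apply
    ⟨_, sval_cocL_mem G E mR hmR hY hmT i z.2⟩)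

lemma liftA_smul (t : T) (z : cocL D E Y mT i) :
    liftA G E mR hmR hY hmT i (t • z) =
      GrSeg.act k R S ↥(E.cocyc mR i) Y.carrier (D.ψ t) (liftA G E mR hmR hY hmT i z) := by
  refine jA_injective (k := k) E mR i ?_
  rw [jA_liftA]
  refine Eq.trans ?_ (map_act (E.cocyc mR i).subtype (LinearMap.id : Y.carrier →ₗ[S] Y.carrier) _ _).symm
  show sval D (E.X i) Y (t • (z : Sg D (E.X i) Y)) =
    GrSeg.act k R S (E.X i).carrier Y.carrier (D.ψ t) (jA E Y mR i (liftA G E mR hmR hY hmT i z))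
  rw [jA_liftA, sval_smul]

variable [Module k (E.H mR i)] [Tow k R (E.H mR i)]

/-- The class of a cocycle. -/
def theta' : cocL D E Y mT i →ₗ[k] E.H mR i ⊗[k] Y.carrier :=
  TensorProduct.map (kLin (k := k) (E.toH mR i)) LinearMap.id ∘ₗ liftA G E mR hmR hY hmT i

lemma theta'_smul (t : T) (z : cocL D E Y mT i) :
    theta' G E mR hmR hY hmT i (t • z) =
      GrSeg.act k R S (E.H mR i) Y.carrier (D.ψ t) (theta' G E mR hmR hY hmT i z) := by
  show TensorProduct.map (kLin (k := k) (E.toH mR i)) LinearMap.id (liftA G E mR hmR hY hmT i (t • z)) = _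
  rw [liftA_smul]
  exact map_act (E.toH mR i) (LinearMap.id : Y.carrier →ₗ[S] Y.carrier) _ _

end Class

section Kernel

variable (mR : HomogeneousIdeal 𝒜) (hmR : mR.toIdeal = posIdeal 𝒜) (hY : BijMod Y) {mT : Ideal T}
  (hmT : mT = posIdeal 𝒯)

theorem theta'_zero_iff [Module k (E.H mR 0)] [Tow k R (E.H mR 0)] (z : cocL D E Y mT 0) :
    theta' G E mR hmR hY hmT 0 z = 0 ↔ (z : Sg D (E.X 0) Y) = 0 := by
  have hinj : Function.Injective (TensorProduct.map (kLin (k := k) (E.toH mR 0)) (LinearMap.id : Y.carrier →ₗ[k] Y.carrier)) := by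
    refine TensorProduct.map_injective_of_flat_flat _ _ (fun a b h => ?_) Function.injective_id
    have h1 := (Submodule.Quotient.eq _).1 h
    exact sub_eq_zero.1 (Subtype.ext ((Submodule.mem_bot R).1 h1))
  constructor
  · intro h
    refine sval_injective D (E.X 0) Y ?_
    rw [← jA_liftA G E mR hmR hY hmT 0 z, hinj (h.trans (map_zero _).symm), map_zero, map_zero]
  · intro h
    rw [show z = 0 from Subtype.ext h, map_zero]

/-- The torsion part of the differential. -/
def delA (i : ℕ) : ↥(GrLC.gam mR.toIdeal (E.X i).carrier) →ₗ[R] ↥(E.cocyc mR (i + 1)) :=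
  (E.d i ∘ₗ (GrLC.gam mR.toIdeal (E.X i).carrier).subtype).codRestrict _
    fun x => ⟨map_mem_gam (E.d i) x.2, GrLCLib.d_d E i x.1⟩

theorem theta'_succ_iff (i : ℕ) [Module k (E.H mR (i + 1))] [Tow k R (E.H mR (i + 1))]
    (z : cocL D E Y mT (i + 1)) :
    theta' G E mR hmR hY hmT (i + 1) z = 0 ↔
      ∃ w ∈ GrLC.gam mT (Sg D (E.X i) Y), dL D E Y i w = (z : Sg D (E.X (i + 1)) Y) := by
  have hex : Function.Exact (kLin (k := k) (delA E mR i)) (kLin (k := k) (E.toH mR (i + 1))) := fun a => by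
    constructor
    · intro h
      obtain ⟨w, hw, hwa⟩ := (Submodule.Quotient.mk_eq_zero _).1 h
      exact ⟨⟨w, hw⟩, Subtype.ext hwa⟩
    · rintro ⟨w, rfl⟩
      exact (Submodule.Quotient.mk_eq_zero _).2 ⟨w.1, w.2, rfl⟩
  have hj : ∀ u, jA (k := k) E Y mR (i + 1) (TensorProduct.map (kLin (k := k) (delA E mR i)) LinearMap.id u) =
      TensorProduct.map (kLin (k := k) (E.d i)) LinearMap.id
        (TensorProduct.map (kLin (k := k) (GrLC.gam mR.toIdeal (E.X i).carrier).subtype) LinearMap.id u) := fun u => by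
    induction u using TensorProduct.induction_on with
    | zero => simp
    | add a b ha hb => simp only [map_add, ha, hb]
    | tmul a b => rfl
  constructor
  · intro h
    have hsurj : Function.Surjective (kLin (k := k) (E.toH mR (i + 1))) :=
      fun y => Submodule.Quotient.induction_on _ y fun x => ⟨x, rfl⟩
    have h' : LinearMap.rTensor Y.carrier (kLin (k := k) (E.toH mR (i + 1))) (liftA G E mR hmR hY hmT (i + 1) z) = 0 := by
      rw [LinearMap.rTensor_def]
      exact h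
    have hex' := rTensor_exact Y.carrier hex hsurj
    obtain ⟨u, hu⟩ := (hex' (liftA G E mR hmR hY hmT (i + 1) z)).1 h'
    have hz : sval D (E.X (i + 1)) Y (z : Sg D (E.X (i + 1)) Y) = TensorProduct.map (kLin (k := k) (E.d i)) LinearMap.id
        (TensorProduct.map (kLin (k := k) (GrLC.gam mR.toIdeal (E.X i).carrier).subtype) LinearMap.id u) := by
      rw [← hj, ← jA_liftA G E mR hmR hY hmT (i + 1) z, ← hu]
      rfl
    suffices hh : (z : Sg D (E.X (i + 1)) Y) ∈ (GrLC.gam mT (Sg D (E.X i) Y)).map (dL D E Y i) by exact hh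
    refine mem_of_pr_mem (sgPiece D (E.X (i + 1)) Y) fun d => ?_
    obtain ⟨v, hv1, hv2⟩ : ∃ v, TensorProduct.map (kgam mR.toIdeal (E.X i) d).mkQ LinearMap.id v = 0 ∧
        emb (E.X i) Y d v = prT (E.X i) Y d
          (TensorProduct.map (kLin (k := k) (GrLC.gam mR.toIdeal (E.X i).carrier).subtype) LinearMap.id u) := by
      clear hu hz
      induction u using TensorProduct.induction_on with
      | zero => exact ⟨0, map_zero _, by simp⟩
      | add a b ha hb =>
        obtain ⟨v, hv1, hv2⟩ := ha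
        obtain ⟨v', hv1', hv2'⟩ := hb
        exact ⟨v + v', by rw [map_add, hv1, hv1', add_zero], by rw [map_add, map_add, map_add, hv2, hv2']⟩
      | tmul a b =>
        refine ⟨(⟨pr (E.X i).gr d a.1, pr_mem (E.X i).gr d a.1⟩ : kpiece 𝒜 (E.X i).gr d) ⊗ₜ[k]
          (⟨pr Y.gr d b, pr_mem Y.gr d b⟩ : kpiece ℬ Y.gr d), ?_, rfl⟩
        have hmem : pr (E.X i).gr d a.1 ∈ GrLC.gam mR.toIdeal (E.X i).carrier := homog_gam 𝒜 (ℳ := (E.X i).gr) mR a.1 a.2 d
        rw [TensorProduct.map_tmul, show (kgam mR.toIdeal (E.X i) d).mkQ ⟨pr (E.X i).gr d a.1, pr_mem (E.X i).gr d a.1⟩ = 0 from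
          (Submodule.Quotient.mk_eq_zero _).2 hmem, TensorProduct.zero_tmul]
    refine ⟨sgMk D (E.X i) Y d v, (sgMk_gam_iff G E mR hmR hY hmT i d v).2 hv1, sval_injective D (E.X (i + 1)) Y ?_⟩
    rw [sval_dL, sval_sgMk, hv2, sval_pr, hz, prT_map Y (E.d i) (E.d_grHom i)]
  · rintro ⟨w, hw, hwz⟩
    have key : sval D (E.X i) Y w ∈
        LinearMap.range (TensorProduct.map (kLin (k := k) (GrLC.gam mR.toIdeal (E.X i).carrier).subtype)
          (LinearMap.id : Y.carrier →ₗ[k] Y.carrier)) := by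
      let mT' : HomogeneousIdeal 𝒯 := ⟨mT, hmT ▸ Ideal.homogeneous_span 𝒯 _ (fun x hx => by
        obtain ⟨n, -, hn⟩ := Set.mem_iUnion₂.1 hx
        exact ⟨n, hn⟩)⟩
      rw [← sum_pr (sgPiece D (E.X i) Y) w, map_sum]
      refine Submodule.sum_mem _ fun d _ => ?_
      obtain ⟨v, hv⟩ := exists_sgMk D (E.X i) Y (pr_mem (sgPiece D (E.X i) Y) d w)
      have hg : pr (sgPiece D (E.X i) Y) d w ∈ GrLC.gam mT (Sg D (E.X i) Y) :=
        homog_gam 𝒯 (ℳ := sgPiece D (E.X i) Y) mT' w hw d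
      rw [← hv] at hg ⊢
      rw [sval_sgMk]
      exact emb_mem_range Y _ (kgam mR.toIdeal (E.X i) d).mkQ
        (fun x hx => ((Submodule.Quotient.mk_eq_zero (kgam mR.toIdeal (E.X i) d)).1 hx : x ∈ kgam mR.toIdeal (E.X i) d)) ((sgMk_gam_iff G E mR hmR hY hmT i d v).1 hg)
    obtain ⟨u, hu⟩ := key
    have h1 : liftA G E mR hmR hY hmT (i + 1) z = TensorProduct.map (kLin (k := k) (delA E mR i)) LinearMap.id u := by
      refine jA_injective (k := k) E mR (i + 1) ?_
      rw [jA_liftA, hj, hu, ← hwz, sval_dL]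
    show TensorProduct.map (kLin (k := k) (E.toH mR (i + 1))) LinearMap.id (liftA G E mR hmR hY hmT (i + 1) z) = 0
    rw [h1, ← LinearMap.comp_apply, ← TensorProduct.map_comp,
      show kLin (k := k) (E.toH mR (i + 1)) ∘ₗ kLin (k := k) (delA E mR i) = 0 from
        LinearMap.ext fun x => (hex _).2 ⟨x, rfl⟩,
      TensorProduct.map_zero_left, LinearMap.zero_apply]

include hP G hmR hY in
/-- Local cohomology of such a Segre product is the Segre product with the local cohomology. -/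
theorem exists_isSegreMod_H (mT : HomogeneousIdeal 𝒯) (hmT : mT.toIdeal = posIdeal 𝒯) (EP : GrLC.StarInjRes 𝒯 𝒬)
    (q : ℕ) [Module k (E.H mR q)] [Tow k R (E.H mR q)] [Module k (EP.H mT q)]
    [Tow k T (EP.H mT q)] [DirectSum.Decomposition (EP.Hgr mT q)] :
    ∃ φ' : EP.H mT q →ₗ[k] E.H mR q ⊗[k] Y.carrier, GrSeg.IsSegreMod D.ψ (E.Hgr mR q) Y.gr (EP.Hgr mT q) φ' := by
  haveI := G.noethT
  let K := resL G E hP hY mT hmT
  obtain ⟨c⟩ := GrLCVeronese.exists_cmap K EP
  let cψ : Sg D (E.X q) Y →ₗ[T] (EP.X q).carrier := c.ψ q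
  let Ψ : cocL D E Y mT.toIdeal q →ₗ[T] EP.H mT q :=
    EP.toH mT q ∘ₗ (cψ ∘ₗ (cocL D E Y mT.toIdeal q).subtype).codRestrict _ fun z => c.map_cocyc (i := q) z.2
  have hΨs : Function.Surjective (kLin (k := k) Ψ) := fun x => by
    obtain ⟨u, rfl⟩ := Submodule.mkQ_surjective _ x
    obtain ⟨z, hz, hd⟩ := c.exists_cocyc_sub u.2
    refine ⟨⟨z, hz⟩, (Submodule.Quotient.eq _).2 ?_⟩
    show cψ z - u.1 ∈ EP.cobdy mT q
    rw [← neg_sub]
    exact Submodule.neg_mem _ hd
  let θ := theta' G E mR hmR hY hmT q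
  have hker : ∀ z, θ z = 0 ↔ Ψ z = 0 := fun z => by
    refine Iff.trans ?_ ((c.map_cobdy_iff (i := q) z.2).symm.trans (Submodule.Quotient.mk_eq_zero ((EP.cobdy mT q).comap (EP.cocyc mT q).subtype) (x := ⟨cψ z.1, c.map_cocyc (i := q) z.2⟩)).symm)
    cases q with
    | zero => exact (theta'_zero_iff G E mR hmR hY hmT z).trans (Submodule.mem_bot T).symm
    | succ i => exact theta'_succ_iff G E mR hmR hY hmT i z
  let eΨ := (kLin (k := k) Ψ).quotKerEquivOfSurjective hΨs
  have hle : LinearMap.ker (kLin (k := k) Ψ) ≤ LinearMap.ker θ := fun z hz => (hker z).2 hz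
  let φ' : EP.H mT q →ₗ[k] E.H mR q ⊗[k] Y.carrier :=
    (LinearMap.ker (kLin (k := k) Ψ)).liftQ θ hle ∘ₗ eΨ.symm.toLinearMap
  have hφ : ∀ z, φ' (Ψ z) = θ z := fun z => by
    show (LinearMap.ker (kLin (k := k) Ψ)).liftQ θ hle (eΨ.symm (Ψ z)) = θ z
    rw [show eΨ.symm (Ψ z) = Submodule.Quotient.mk z from (LinearEquiv.symm_apply_eq eΨ).2 rfl]
    rfl
  refine ⟨φ', (injective_iff_map_eq_zero _).2 fun x hx => ?_, fun d => ?_, fun t x => ?_⟩
  · obtain ⟨z, rfl⟩ := hΨs x
    exact (hker z).1 ((hφ z).symm.trans hx)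
  · refine Set.Subset.antisymm ?_ ?_
    · rintro _ ⟨_, ⟨u, hu, rfl⟩, rfl⟩
      obtain ⟨z, hz, hzc, hd⟩ := c.exists_homog_cocyc_sub hu u.2
      have hx : EP.toH mT q u = Ψ ⟨z, hzc⟩ := (Submodule.Quotient.eq _).2 hd
      rw [hx, hφ]
      have hzd : sval D (E.X q) Y z ∈ sp (E.X q) Y d := hz
      let prA : ↥(E.cocyc mR q) →ₗ[k] ↥(E.cocyc mR q) :=
        { toFun := fun a => ⟨pr (E.X q).gr d a.1, homog_cocyc E mR q a.1 a.2 d⟩
          map_add' := fun a b => Subtype.ext (map_add (pr (E.X q).gr d) a.1 b.1)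
          map_smul' := fun c' a => Subtype.ext (pr_k_smul 𝒜 (E.X q).gr d c' a.1) }
      let L : ↥(E.cocyc mR q) ⊗[k] Y.carrier := liftA G E mR hmR hY hmT q ⟨z, hzc⟩
      have hfix : TensorProduct.map prA (prK ℬ Y.gr d) L = L := by
        refine jA_injective (k := k) E mR q ?_
        have e1 : jA E Y mR q (TensorProduct.map prA (prK ℬ Y.gr d) L) = prT (E.X q) Y d (jA E Y mR q L) := by
          induction L using TensorProduct.induction_on with
          | zero => simp
          | add a b ha hb => simp only [map_add, ha, hb]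
          | tmul a b => rfl
        rw [e1, jA_liftA]
        exact prT_of_mem (E.X q) Y hzd
      show TensorProduct.map (kLin (k := k) (E.toH mR q)) LinearMap.id L ∈ GrSeg.segrePiece k (E.Hgr mR q) Y.gr d
      rw [← hfix, ← LinearMap.comp_apply, ← TensorProduct.map_comp]
      generalize L = L'
      induction L' using TensorProduct.induction_on with
      | zero => rw [map_zero]; exact zero_mem _
      | add a b ha hb => rw [map_add]; exact add_mem ha hb
      | tmul a b =>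
        exact Submodule.subset_span ⟨E.toH mR q (prA a), ⟨prA a, pr_mem (E.X q).gr d a.1, rfl⟩,
          pr Y.gr d b, pr_mem Y.gr d b, rfl⟩
    · intro y hy
      induction hy using Submodule.span_induction with
      | mem y hy =>
        obtain ⟨_, ⟨a, ha, rfl⟩, b, hb, rfl⟩ := hy
        let w : Sg D (E.X q) Y := sgMk D (E.X q) Y d ((⟨a.1, ha⟩ : kpiece 𝒜 (E.X q).gr d) ⊗ₜ[k] (⟨b, hb⟩ : kpiece ℬ Y.gr d))
        have hw : w ∈ cocL D E Y mT.toIdeal q := by
          refine ⟨(sgMk_gam_iff G E mR hmR hY hmT q d _).2 ?_, ?_⟩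
          · rw [TensorProduct.map_tmul, show (kgam mR.toIdeal (E.X q) d).mkQ ⟨a.1, ha⟩ = 0 from
              (Submodule.Quotient.mk_eq_zero _).2 a.2.1, TensorProduct.zero_tmul]
          · show dL D E Y q w = 0
            rw [dL_sgMk, TensorProduct.map_tmul, show kpieceMap (E.d q) (E.d_grHom q) d ⟨a.1, ha⟩ = 0 from
              Subtype.ext a.2.2, TensorProduct.zero_tmul, map_zero]
        refine ⟨Ψ ⟨w, hw⟩, ⟨_, c.gr q d _ (sgMk_mem D (E.X q) Y d _), rfl⟩, ?_⟩
        rw [hφ]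
        have h1 : liftA G E mR hmR hY hmT q ⟨w, hw⟩ = a ⊗ₜ[k] b := by
          refine jA_injective (k := k) E mR q ?_
          rw [jA_liftA]
          rfl
        show TensorProduct.map (kLin (k := k) (E.toH mR q)) LinearMap.id (liftA G E mR hmR hY hmT q ⟨w, hw⟩) = _
        rw [h1]
        rfl
      | zero => exact ⟨0, zero_mem _, map_zero _⟩
      | add a b _ _ ha hb =>
        obtain ⟨x, hx, rfl⟩ := ha
        obtain ⟨x', hx', rfl⟩ := hb
        exact ⟨x + x', add_mem hx hx', map_add _ _ _⟩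
      | smul c' a _ ha =>
        obtain ⟨x, hx, rfl⟩ := ha
        obtain ⟨u, hu, rfl⟩ := hx
        refine ⟨EP.toH mT q (algebraMap k T c' • u), ⟨_, ?_, rfl⟩, ?_⟩
        · have := GrLCLib.smul_mem 𝒯 (EP.X q).gr (SetLike.algebraMap_mem_graded 𝒯 c') hu
          rwa [zero_add] at this
        · rw [LinearMap.map_smul (EP.toH mT q), ← LinearMap.map_smul φ' c']
          exact congrArg φ' (algebraMap_smul T c' _)
  · obtain ⟨z, rfl⟩ := hΨs x
    have h1 : t • kLin (k := k) Ψ z = Ψ (t • z) := (map_smul Ψ t z).symm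
    rw [h1, hφ, show φ' (kLin (k := k) Ψ z) = θ z from hφ z]
    exact theta'_smul G E mR hmR hY hmT q t z

end Kernel

end Groth.Agent.SegreLC
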