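import Groth.Agent.SegreLC.Apps

/-!
Vanishing of the cohomology of a Segre product, one degree at a time.
-/

set_option autoImplicit false
set_option linter.unusedSectionVars false
set_option linter.style.haveILetI false
set_option backward.isDefEq.respectTransparency false
set_option backward.isDefEq.respectTransparency.types false
universe u

open scoped Classical TensorProduct
open DirectSum

noncomputable section

namespace Groth.Agent.SegreLC

variable {k : Type u} [Field k] {R : Type u} [CommRing R] [Algebra k R] {S : Type u} [CommRing S] [Algebra k S]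
  {T : Type u} [CommRing T] [Algebra k T] {𝒜 : ℤ → Submodule k R} [GradedAlgebra 𝒜]
  {ℬ : ℤ → Submodule k S} [GradedAlgebra ℬ] {𝒯 : ℤ → Submodule k T} [GradedAlgebra 𝒯]
  (D : Datum 𝒜 ℬ 𝒯)
variable {M : Type u} [AddCommGroup M] [Module R M] [Module k M] [IsScalarTower k R M]
  {τ : Type u} [SetLike τ M] [AddSubgroupClass τ M] {ℳ : ℤ → τ} [DirectSum.Decomposition ℳ] [SetLike.GradedSMul 𝒜 ℳ]
  {N : Type u} [AddCommGroup N] [Module S N] [Module k N] [IsScalarTower k S N]
  {τ' : Type u} [SetLike τ' N] [AddSubgroupClass τ' N] {𝒩 : ℤ → τ'} [DirectSum.Decomposition 𝒩] [SetLike.GradedSMul ℬ 𝒩]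
  {P : Type u} [AddCommGroup P] [Module T P] [Module k P] [IsScalarTower k T P]
  {υ : Type u} [SetLike υ P] [AddSubgroupClass υ P] {𝒬 : ℤ → υ} [DirectSum.Decomposition 𝒬]
  [SetLike.GradedSMul 𝒯 𝒬] {φ : P →ₗ[k] M ⊗[k] N} (hP : GrSeg.IsSegreMod D.ψ ℳ 𝒩 𝒬 φ)
  (G : Gens D) (mR : HomogeneousIdeal 𝒜) (hmR : mR.toIdeal = posIdeal 𝒜)
  (mS : HomogeneousIdeal ℬ) (hmS : mS.toIdeal = posIdeal ℬ)
  (mT : HomogeneousIdeal 𝒯) (hmT : mT.toIdeal = posIdeal 𝒯)
  (E : GrLC.StarInjRes 𝒜 ℳ) (F : GrLC.StarInjRes ℬ 𝒩) (EP : GrLC.StarInjRes 𝒯 𝒬)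

include hP G hmR hmS hmT in
/-- A single degree below the top, both factors of depth at least two. -/
theorem hcomp_eq_bot_iff_at {r s : ℕ} (h2r : 2 ≤ r) (h2s : 2 ≤ s)
    (hM : ∀ i ≠ r, ∀ d : ℤ, E.Hcomp mR i d = ⊥) (hN : ∀ i ≠ s, ∀ d : ℤ, F.Hcomp mS i d = ⊥)
    {q : ℕ} (hq : q < r + s - 1) (d : ℤ) :
    EP.Hcomp mT q d = ⊥ ↔ (q = s → (∀ x ∈ ℳ d, x = 0) ∨ F.Hcomp mS s d = ⊥) ∧
      (q = r → E.Hcomp mR r d = ⊥ ∨ ∀ y ∈ 𝒩 d, y = 0) := by
  have hE := augQuot_bijective mR E d fun q hq => hM q (by omega) d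
  have hF := augQuot_bijective mS F d fun q hq => hN q (by omega) d
  have hE0 : Subsingleton ((cxQuot E d mR.toIdeal).Coh 0) ↔ ∀ x ∈ ℳ d, x = 0 :=
    (LinearEquiv.ofBijective _ hE).toEquiv.subsingleton_congr.symm.trans (subsingleton_kpiece_iff d)
  have hF0 : Subsingleton ((cxQuot F d mS.toIdeal).Coh 0) ↔ ∀ x ∈ 𝒩 d, x = 0 :=
    (LinearEquiv.ofBijective _ hF).toEquiv.subsingleton_congr.symm.trans (subsingleton_kpiece_iff d)
  match q with
  | 0 =>
    exact iff_of_true ((hcomp_seg_eq_bot_iff D hP G mR hmR mS hmS mT hmT E F EP d 0).2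
      ((subsingleton_segGam_zero_iff E F d _ _).2
        (TensorProduct.map_injective_of_flat_flat _ _ hE.injective hF.injective)))
      ⟨fun h => absurd h (by omega), fun h => absurd h (by omega)⟩
  | 1 =>
    exact iff_of_true ((hcomp_seg_eq_bot_iff D hP G mR hmR mS hmS mT hmT E F EP d 1).2
      ((subsingleton_segGam_one_iff E F d _ _).2 (TensorProduct.map_surjective hE.surjective hF.surjective)))
      ⟨fun h => absurd h (by omega), fun h => absurd h (by omega)⟩
  | j + 2 =>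
    refine (hcomp_seg_eq_bot_iff D hP G mR hmR mS hmS mT hmT E F EP d (j + 2)).trans
      (((segGamSuccEquiv E F d mR.toIdeal mS.toIdeal j).toEquiv.subsingleton_congr.trans subsingleton_KT_iff).trans ?_)
    constructor
    · intro h
      refine ⟨fun hqs => ?_, fun hqr => ?_⟩
      · rcases h 0 (j + 1) (zero_add _) with h1 | h1
        · exact Or.inl (hE0.1 h1)
        · exact Or.inr (hqs ▸ (subsingleton_quot_succ mS F d j).1 h1)
      · rcases h (j + 1) 0 (add_zero _) with h1 | h1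
        · exact Or.inl (hqr ▸ (subsingleton_quot_succ mR E d j).1 h1)
        · exact Or.inr (hF0.1 h1)
    · rintro ⟨h1, h2⟩ a b hab
      match a, b with
      | 0, 0 => omega
      | 0, b + 1 =>
        by_cases hb : b + 2 = s
        · exact (h1 (by omega)).imp hE0.2 fun h => (subsingleton_quot_succ mS F d b).2 (hb ▸ h)
        · exact Or.inr ((subsingleton_quot_succ mS F d b).2 (hN (b + 2) hb d))
      | a + 1, 0 =>
        by_cases ha : a + 2 = r
        · exact (h2 (by omega)).imp (fun h => (subsingleton_quot_succ mR E d a).2 (ha ▸ h)) hF0.2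
        · exact Or.inl ((subsingleton_quot_succ mR E d a).2 (hM (a + 2) ha d))
      | a + 1, b + 1 =>
        by_cases ha : a + 2 = r
        · exact Or.inr ((subsingleton_quot_succ mS F d b).2 (hN (b + 2) (by omega) d))
        · exact Or.inl ((subsingleton_quot_succ mR E d a).2 (hM (a + 2) ha d))

include hP G hmR hmS hmT in
/-- Degree one, a factor of dimension one. -/
theorem hcomp_one_eq_bot_iff {s : ℕ} (h2s : 2 ≤ s) (hN : ∀ i ≠ s, ∀ d : ℤ, F.Hcomp mS i d = ⊥) (d : ℤ) :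
    EP.Hcomp mT 1 d = ⊥ ↔ (E.Hcomp mR 1 d = ⊥ ∨ ∀ y ∈ 𝒩 d, y = 0) :=
  (hcomp_seg_eq_bot_iff D hP G mR hmR mS hmS mT hmT E F EP d 1).trans
    ((subsingleton_segGam_one_iff E F d _ _).trans
      ((surjective_map_iff (augQuot_bijective mS F d fun q hq => hN q (by omega) d)).trans
        (or_congr ((augQuot_surjective_iff E d _).trans (hcomp_eq_bot_iff_gam mR E d 1).symm) (subsingleton_kpiece_iff d))))

end Groth.Agent.SegreLC
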