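import Groth.Agent.SegreLC.PolyLC
import Groth.Agent.SegreLC.AtDeg
import Groth.Agent.LocH.Depth
import Groth.Agent.S19754

/-!
Segre products of shifted polynomial rings.
-/

set_option autoImplicit false
set_option linter.unusedSectionVars false
set_option linter.style.haveILetI false
set_option backward.isDefEq.respectTransparency false
set_option backward.isDefEq.respectTransparency.types false
universe u

open scoped Classical TensorProduct
open DirectSum Groth.Agent.GrLCLib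

noncomputable section

namespace Groth.Agent.SegreLC.PolyShift

variable {k : Type u} [Field k] {r s : ℕ} {T : Type u} [CommRing T] [Algebra k T] {𝒯 : ℤ → Submodule k T}
  [GradedAlgebra 𝒯] {ψ : T →ₐ[k] MvPolynomial (Fin r) k ⊗[k] MvPolynomial (Fin s) k}
  (hT : GrSeg.IsSegreRing (GrSyz.stdGr k (Fin r)) (GrSyz.stdGr k (Fin s)) 𝒯 ψ)
  (mT : HomogeneousIdeal 𝒯) (hmT : mT.toIdeal = posIdeal 𝒯) {a b : ℤ}
  {P : Type u} [AddCommGroup P] [Module T P] [Module k P] [IsScalarTower k T P]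
  {𝒬 : ℤ → AddSubgroup P} [DirectSum.Decomposition 𝒬]
  {φ : P →ₗ[k] MvPolynomial (Fin r) k ⊗[k] MvPolynomial (Fin s) k}
  (hP : GrSeg.IsSegreMod ψ (shiftPiece (GrSyz.stdGr k (Fin r)) a) (shiftPiece (GrSyz.stdGr k (Fin s)) b) 𝒬 φ)

include hP in
theorem nontrivial (hr : 0 < r) (hs : 0 < s) : Nontrivial P := by
  by_contra hcon
  rw [not_nontrivial_iff_subsingleton] at hcon
  let d : ℤ := (a.natAbs : ℤ) + b.natAbs
  obtain ⟨i, hi⟩ := Int.eq_ofNat_of_zero_le (show 0 ≤ d + a by omega)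
  obtain ⟨j, hj⟩ := Int.eq_ofNat_of_zero_le (show 0 ≤ d + b by omega)
  let x : MvPolynomial (Fin r) k := MvPolynomial.X ⟨0, hr⟩ ^ i
  let y : MvPolynomial (Fin s) k := MvPolynomial.X ⟨0, hs⟩ ^ j
  have hx : x ∈ shiftPiece (GrSyz.stdGr k (Fin r)) a d := by
    rw [mem_shiftPiece, hi]
    have := SetLike.pow_mem_graded i (GrSyzMin.X_mem (k := k) (⟨0, hr⟩ : Fin r))
    rwa [nsmul_eq_mul, mul_one] at this
  have hy : y ∈ shiftPiece (GrSyz.stdGr k (Fin s)) b d := by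
    rw [mem_shiftPiece, hj]
    have := SetLike.pow_mem_graded j (GrSyzMin.X_mem (k := k) (⟨0, hs⟩ : Fin s))
    rwa [nsmul_eq_mul, mul_one] at this
  obtain ⟨p, -, hp⟩ := (hP.image_piece d).ge (Submodule.subset_span ⟨x, hx, y, hy, rfl⟩)
  rw [Subsingleton.elim p 0, map_zero] at hp
  have h1 := congrArg (TensorProduct.lid k k ∘ TensorProduct.map
    (MvPolynomial.lcoeff k (Finsupp.single (⟨0, hr⟩ : Fin r) i))
    (MvPolynomial.lcoeff k (Finsupp.single (⟨0, hs⟩ : Fin s) j))) hp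
  simp [x, y, MvPolynomial.coeff_X_pow] at h1

include hT hP in
theorem moduleFinite : Module.Finite T P := by
  letI := shiftDec (GrSyz.stdGr k (Fin r)) a
  letI := shiftDec (GrSyz.stdGr k (Fin s)) b
  exact finite_segreMod (⟨ψ, hT⟩ : Datum _ _ 𝒯) hP stdGr_neg stdGr_zero stdGr_neg stdGr_zero

include hT hP in
theorem gradedSMul : SetLike.GradedSMul 𝒯 𝒬 := by
  letI := shiftDec (GrSyz.stdGr k (Fin r)) a
  letI := shiftDec (GrSyz.stdGr k (Fin s)) b
  exact gradedSMul_of_isSegreMod (⟨ψ, hT⟩ : Datum _ _ 𝒯) hP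

include hT hP in
theorem supportDim_eq (hr : 1 ≤ r) (hs : 1 ≤ s) :
    Module.supportDim T P = ((r + s - 1 : ℕ) : WithBot ℕ∞) := by
  letI := shiftDec (GrSyz.stdGr k (Fin r)) a
  letI := shiftDec (GrSyz.stdGr k (Fin s)) b
  haveI := nontrivial hP hr hs
  exact (S19754.result k _ (GrSyz.stdGr k (Fin r)) stdGr_neg stdGr_zero _ (GrSyz.stdGr k (Fin s)) stdGr_neg stdGr_zero
    T 𝒯 ψ hT _ (shiftPiece (GrSyz.stdGr k (Fin r)) a) _ (shiftPiece (GrSyz.stdGr k (Fin s)) b) P 𝒬 φ hP r s hr hs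
    supportDim_poly supportDim_poly (cmRing_iff.1 inferInstance) (cmRing_iff.1 inferInstance)).resolve_right
      (not_subsingleton P)

lemma hcomp_shift_ne {i : ℕ} (c : ℤ) (E : GrLC.StarInjRes (GrSyz.stdGr k (Fin r)) (GrSyz.stdGr k (Fin r)))
    (hi : i ≠ r) (d : ℤ) : letI := shiftDec (GrSyz.stdGr k (Fin r)) c
      (shiftRes E c).Hcomp (GrSyz.irrel (GrSyz.stdGr k (Fin r))) i d = ⊥ := by
  letI := shiftDec (GrSyz.stdGr k (Fin r)) c
  exact (hcomp_eq_bot_iff (shiftRes E c) _ i d).2 ((van_shiftRes_iff E c _ i d).2 (van_poly_ne E hi _))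

lemma hcomp_shift_top (c : ℤ) (E : GrLC.StarInjRes (GrSyz.stdGr k (Fin r)) (GrSyz.stdGr k (Fin r)))
    (hr : 0 < r) (d : ℤ) : letI := shiftDec (GrSyz.stdGr k (Fin r)) c
      ((shiftRes E c).Hcomp (GrSyz.irrel (GrSyz.stdGr k (Fin r))) r d = ⊥ ↔ -(r : ℤ) < d + c) := by
  letI := shiftDec (GrSyz.stdGr k (Fin r)) c
  exact (hcomp_eq_bot_iff (shiftRes E c) _ r d).trans ((van_shiftRes_iff E c _ r d).trans (van_poly_top_iff E hr _))

lemma piece_shift (c : ℤ) (hr : 0 < r) (d : ℤ) :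
    (∀ x ∈ shiftPiece (GrSyz.stdGr k (Fin r)) c d, x = 0) ↔ d + c < 0 :=
  (forall₂_congr fun _ _ => Iff.rfl).trans (stdGr_eq_bot_iff hr (d + c))

variable [SetLike.GradedSMul 𝒯 𝒬] (EP : GrLC.StarInjRes 𝒯 𝒬)

include hT hP hmT in
/-- Below the top only the degrees `r` and `s` can carry cohomology. -/
theorem hcomp_eq_bot (h2r : 2 ≤ r) (h2s : 2 ≤ s) {q : ℕ} (hq : q < r + s - 1) :
    (∀ d : ℤ, EP.Hcomp mT q d = ⊥) ↔ (q = s → a - b < (s : ℤ)) ∧ (q = r → -(r : ℤ) < a - b) := by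
  letI := shiftDec (GrSyz.stdGr k (Fin r)) a
  letI := shiftDec (GrSyz.stdGr k (Fin s)) b
  obtain ⟨I⟩ := nonempty_starInjRes (GrSyz.stdGr k (Fin r)) (GrSyz.stdGr k (Fin r))
  obtain ⟨J⟩ := nonempty_starInjRes (GrSyz.stdGr k (Fin s)) (GrSyz.stdGr k (Fin s))
  let D : Datum (GrSyz.stdGr k (Fin r)) (GrSyz.stdGr k (Fin s)) 𝒯 := ⟨ψ, hT⟩
  obtain ⟨G⟩ := exists_gens' D stdGr_neg stdGr_zero stdGr_neg stdGr_zero
  have key := fun d => hcomp_eq_bot_iff_at D hP G _ stdIrrel_eq_posIdeal _ stdIrrel_eq_posIdeal mT hmT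
    (shiftRes I a) (shiftRes J b) EP h2r h2s (fun i hi d => hcomp_shift_ne a I hi d)
    (fun i hi d => hcomp_shift_ne b J hi d) hq d
  simp only [key, piece_shift a (by omega : 0 < r), piece_shift b (by omega : 0 < s),
    hcomp_shift_top a I (by omega), hcomp_shift_top b J (by omega)]
  refine ⟨fun h => ⟨fun hs => ?_, fun hr => ?_⟩, fun ⟨h1, h2⟩ d => ⟨fun hs => ?_, fun hr => ?_⟩⟩
  · rcases (h (-a)).1 hs with h' | h' <;> omega
  · rcases (h (-b)).2 hr with h' | h' <;> omega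
  · have := h1 hs; omega
  · have := h2 hr; omega

include hT hP hmT in
/-- The case of one variable. -/
theorem hcomp_one_eq_bot (h1r : r = 1) (h2s : 2 ≤ s) :
    (∀ d : ℤ, EP.Hcomp mT 1 d = ⊥) ↔ b ≤ a := by
  letI := shiftDec (GrSyz.stdGr k (Fin r)) a
  letI := shiftDec (GrSyz.stdGr k (Fin s)) b
  obtain ⟨I⟩ := nonempty_starInjRes (GrSyz.stdGr k (Fin r)) (GrSyz.stdGr k (Fin r))
  obtain ⟨J⟩ := nonempty_starInjRes (GrSyz.stdGr k (Fin s)) (GrSyz.stdGr k (Fin s))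
  let D : Datum (GrSyz.stdGr k (Fin r)) (GrSyz.stdGr k (Fin s)) 𝒯 := ⟨ψ, hT⟩
  obtain ⟨G⟩ := exists_gens' D stdGr_neg stdGr_zero stdGr_neg stdGr_zero
  have key := fun d => hcomp_one_eq_bot_iff D hP G _ stdIrrel_eq_posIdeal _ stdIrrel_eq_posIdeal mT hmT
    (shiftRes I a) (shiftRes J b) EP h2s (fun i hi d => hcomp_shift_ne b J hi d) d
  subst h1r
  simp only [key, piece_shift b (by omega : 0 < s), hcomp_shift_top a I one_pos]
  exact ⟨fun h => by rcases h (-b) with h' | h' <;> omega, fun h d => by omega⟩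

include hT hP hmT in
/-- The case of one variable: no torsion. -/
theorem hcomp_zero_eq_bot (h1r : 1 ≤ r) (h1s : 1 ≤ s) (d : ℤ) : EP.Hcomp mT 0 d = ⊥ := by
  letI := shiftDec (GrSyz.stdGr k (Fin r)) a
  letI := shiftDec (GrSyz.stdGr k (Fin s)) b
  obtain ⟨I⟩ := nonempty_starInjRes (GrSyz.stdGr k (Fin r)) (GrSyz.stdGr k (Fin r))
  obtain ⟨J⟩ := nonempty_starInjRes (GrSyz.stdGr k (Fin s)) (GrSyz.stdGr k (Fin s))
  let D : Datum (GrSyz.stdGr k (Fin r)) (GrSyz.stdGr k (Fin s)) 𝒯 := ⟨ψ, hT⟩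
  obtain ⟨G⟩ := exists_gens' D stdGr_neg stdGr_zero stdGr_neg stdGr_zero
  exact vanish_zero D hP G _ stdIrrel_eq_posIdeal _ stdIrrel_eq_posIdeal mT hmT
    (shiftRes I a) (shiftRes J b) EP (fun d => hcomp_shift_ne a I (by omega) d)
    (fun d => hcomp_shift_ne b J (by omega) d) d

include hT hP hmT in
/-- One variable: everything strictly between degree one and the top vanishes. -/
theorem hcomp_of_le (h1r : r = 1) (h2s : 2 ≤ s) (hba : b ≤ a) :
    ∀ q < s, ∀ d : ℤ, EP.Hcomp mT q d = ⊥ := by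
  letI := shiftDec (GrSyz.stdGr k (Fin r)) a
  letI := shiftDec (GrSyz.stdGr k (Fin s)) b
  obtain ⟨I⟩ := nonempty_starInjRes (GrSyz.stdGr k (Fin r)) (GrSyz.stdGr k (Fin r))
  obtain ⟨J⟩ := nonempty_starInjRes (GrSyz.stdGr k (Fin s)) (GrSyz.stdGr k (Fin s))
  let D : Datum (GrSyz.stdGr k (Fin r)) (GrSyz.stdGr k (Fin s)) 𝒯 := ⟨ψ, hT⟩
  obtain ⟨G⟩ := exists_gens' D stdGr_neg stdGr_zero stdGr_neg stdGr_zero
  subst h1r
  refine (vanish_iff_of_one D hP G _ stdIrrel_eq_posIdeal _ stdIrrel_eq_posIdeal mT hmT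
    (shiftRes I a) (shiftRes J b) EP h2s (fun i hi d => hcomp_shift_ne a I hi d)
    (fun i hi d => hcomp_shift_ne b J hi d)).2 fun d => ?_
  rw [piece_shift b (by omega : 0 < s), hcomp_shift_top a I one_pos]
  omega

include hT hP in
theorem finiteType : Algebra.FiniteType k T ∧ Nontrivial T ∧ (∀ n : ℤ, n < 0 → 𝒯 n = ⊥) ∧
    𝒯 0 = Submodule.span k {(1 : T)} := by
  let D : Datum (GrSyz.stdGr k (Fin r)) (GrSyz.stdGr k (Fin s)) 𝒯 := ⟨ψ, hT⟩
  exact ⟨finiteType_T D stdGr_neg stdGr_zero stdGr_neg stdGr_zero, nontrivial_T D, neg_T D stdGr_neg,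
    h0_T D stdGr_zero stdGr_zero⟩

omit [SetLike.GradedSMul 𝒯 𝒬] in
lemma idealDepth_eq [IsNoetherianRing T] [Module.Finite T P] [SetLike.GradedSMul 𝒯 𝒬]
    (EP : GrLC.StarInjRes 𝒯 𝒬) {n : ℕ} (hlow : ∀ q < n, ∀ d : ℤ, EP.Hcomp mT q d = ⊥)
    (htop : ¬ ∀ d : ℤ, EP.Hcomp mT n d = ⊥) : LocCoh.idealDepth mT.toIdeal P = (n : ℕ∞) := by
  refine (LocH.idealDepth_eq_iff n).2 ⟨fun i hi => subsingleton_of_van EP mT fun g =>
    (hcomp_eq_bot_iff EP mT i g).1 (hlow i hi g), ?_⟩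
  rcases subsingleton_or_nontrivial (LocCoh.H mT.toIdeal n P) with h | h
  · exact absurd (fun d => (hcomp_eq_bot_iff EP mT n d).2 (van_of_subsingleton EP mT h d)) htop
  · exact h

end Groth.Agent.SegreLC.PolyShift
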