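import Groth.Agent.SegreLC.Exact
import Groth.Agent.GrLCLib.Acyclic
import Groth.Agent.LocH.Grothendieck

/-!
Segre products of graded injective modules have no higher local cohomology.
-/

set_option autoImplicit false
set_option linter.unusedSectionVars false
set_option linter.style.haveILetI false
set_option backward.isDefEq.respectTransparency false
set_option backward.isDefEq.respectTransparency.types false
universe u

open scoped Classical TensorProduct
open DirectSum CategoryTheory Groth.Agent.GrLCLib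

noncomputable section

namespace Groth.Agent.SegreLC

section General

variable {A : Type u} [CommRing A] [IsNoetherianRing A]

/-- An element of the ideal acting bijectively kills all local cohomology. -/
theorem subsingleton_H_of_bijective {I : Ideal A} {f : A} (hf : f ∈ I) {M : Type u} [AddCommGroup M] [Module A M]
    (hbij : Function.Bijective fun x : M => f • x) (q : ℕ) : Subsingleton (LocCoh.H I q M) := by
  let g := LinearEquiv.ofBijective (f • LinearMap.id : M →ₗ[A] M) hbij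
  let G := ((localCohomology I q).mapIso g.toModuleIso).toLinearEquiv
  have hG : ∀ x : LocCoh.H I q M, G x = f • x := fun x => by
    refine (congrArg (fun φ => (localCohomology I q).map φ x) ?_).trans
      (LocH.map_smul_id_apply (M := ModuleCat.of A M) f q x)
    ext y
    rfl
  have hz : ∀ (n : ℕ) (x : LocCoh.H I q M), f ^ n • x = 0 → x = 0 := by
    intro n
    induction n with
    | zero => intro x hx; rwa [pow_zero, one_smul] at hx
    | succ n ih =>
      intro x hx
      refine G.injective ((hG x).trans ?_)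
      rw [map_zero]
      exact ih _ (by rwa [← mul_smul, ← pow_succ])
  refine subsingleton_of_forall_eq 0 fun x => ?_
  obtain ⟨n, hn⟩ := LocH.isPowerTorsion I q (ModuleCat.of A M) x
  exact hz n x (hn _ (Ideal.pow_mem_pow hf n))

/-- No higher local cohomology. -/
def Acy (I : Ideal A) (M : Type u) [AddCommGroup M] [Module A M] : Prop :=
  ∀ q : ℕ, Subsingleton (LocCoh.H I (q + 1) M)

lemma acy_of_torsion {I : Ideal A} {M : Type u} [AddCommGroup M] [Module A M] (h : ∀ x : M, x ∈ GrLC.gam I M) :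
    Acy I M := fun q => LocH.subsingleton_of_isPowerTorsion q (ModuleCat.of A M) fun x => h x

lemma acy_of_exact {I : Ideal A} {M₁ M₂ M₃ : Type u} [AddCommGroup M₁] [Module A M₁] [AddCommGroup M₂] [Module A M₂]
    [AddCommGroup M₃] [Module A M₃] (f : M₁ →ₗ[A] M₂) (g : M₂ →ₗ[A] M₃) (hf : Function.Injective f)
    (hg : Function.Surjective g) (he : LinearMap.ker g = LinearMap.range f) (h₁ : Acy I M₁) (h₃ : Acy I M₃) :
    Acy I M₂ := fun q => by
  let S : ShortComplex (ModuleCat.{u} A) :=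
    ShortComplex.mk (X₁ := ModuleCat.of A M₁) (X₂ := ModuleCat.of A M₂) (X₃ := ModuleCat.of A M₃)
      (ModuleCat.ofHom f) (ModuleCat.ofHom g)
      (ModuleCat.hom_ext (LinearMap.ext fun x => (he ▸ LinearMap.mem_range_self f x : f x ∈ LinearMap.ker g)))
  have hS : S.ShortExact :=
    { exact := by
        rw [ShortComplex.moduleCat_exact_iff]
        intro y hy
        exact (he ▸ (hy : g y = 0) : y ∈ LinearMap.range f)
      mono_f := (ModuleCat.mono_iff_injective _).2 hf
      epi_g := (ModuleCat.epi_iff_surjective _).2 hg }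
  exact LocH.subsingleton_X₂ hS (q + 1) (h₁ q) (h₃ q)

end General

section Graded

variable {k : Type u} [Field k] {R : Type u} [CommRing R] [Algebra k R] {𝒜 : ℤ → Submodule k R} [GradedAlgebra 𝒜]
  [IsNoetherianRing R]

/-- Properties of graded injective modules, from torsion modules and modules with bijective generators. -/
theorem filt_induction {n : ℕ} (x : Fin n → R) {δ : ℤ} (hx : ∀ i, x i ∈ 𝒜 δ) (Q : GrLC.GMod.{u} 𝒜 → Prop)
    (hext : ∀ (X : GrLC.GMod.{u} 𝒜) (K : Submodule R X.carrier) (hK : Homog X.gr K),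
      Q (subObj 𝒜 X.gr K hK) → Q (quotObj 𝒜 X.gr K hK) → Q X)
    (htors : ∀ X : GrLC.GMod.{u} 𝒜, (∀ (i : Fin n) (z : X.carrier), ∃ N : ℕ, x i ^ N • z = 0) → Q X)
    (hbij : ∀ (X : GrLC.GMod.{u} 𝒜) (i : Fin n), Function.Bijective (fun z : X.carrier => x i • z) → Q X)
    (X : GrLC.GMod.{u} 𝒜) (hX : GrLC.IsStarInj 𝒜 X.gr) : Q X := by
  suffices h : ∀ m, m ≤ n → ∀ X : GrLC.GMod.{u} 𝒜, GrLC.IsStarInj 𝒜 X.gr →
      (∀ i : Fin n, m ≤ i.1 → ∀ z : X.carrier, ∃ N : ℕ, x i ^ N • z = 0) → Q X from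
    h n le_rfl X hX fun i hi => absurd i.2 (not_lt.2 hi)
  intro m
  induction m with
  | zero => exact fun _ X _ h => htors X fun i => h i (Nat.zero_le _)
  | succ m ih =>
    intro hm X hX htor
    let i₀ : Fin n := ⟨m, hm⟩
    let a : HomogeneousIdeal 𝒜 := ⟨Ideal.span {x i₀},
      Ideal.homogeneous_span 𝒜 _ fun y hy => ⟨δ, by rw [Set.mem_singleton_iff.1 hy]; exact hx i₀⟩⟩
    let K := GrLC.gam a.toIdeal X.carrier
    have hK : Homog X.gr K := homog_gam 𝒜 a
    have hmem : ∀ z : X.carrier, z ∈ K ↔ ∃ N : ℕ, x i₀ ^ N • z = 0 := fun z => by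
      constructor
      · rintro ⟨N, hN⟩
        exact ⟨N, hN _ (Ideal.pow_mem_pow (Ideal.mem_span_singleton_self _) N)⟩
      · rintro ⟨N, hN⟩
        refine ⟨N, fun r hr => ?_⟩
        change r ∈ Ideal.span {x i₀} ^ N at hr
        rw [Ideal.span_singleton_pow, Ideal.mem_span_singleton'] at hr
        obtain ⟨c, rfl⟩ := hr
        rw [mul_smul, hN, smul_zero]
    refine hext X K hK (ih (by omega) _ (isStarInj_gamObj 𝒜 a hX) fun i hi z => ?_) (hbij _ i₀ ⟨?_, ?_⟩)
    · rcases eq_or_lt_of_le hi with h | h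
      · obtain rfl : i₀ = i := Fin.ext h
        obtain ⟨N, hN⟩ := (hmem _).1 (z : K).2
        exact ⟨N, Subtype.ext hN⟩
      · obtain ⟨N, hN⟩ := htor i h (z : K).1
        exact ⟨N, Subtype.ext hN⟩
    · intro y y' h
      obtain ⟨y, rfl⟩ := Submodule.mkQ_surjective K y
      obtain ⟨y', rfl⟩ := Submodule.mkQ_surjective K y'
      have h' : x i₀ • (y - y') ∈ K := by
        refine (Submodule.Quotient.mk_eq_zero K).1 ?_
        show K.mkQ (x i₀ • (y - y')) = 0
        rw [map_smul, map_sub, smul_sub, sub_eq_zero]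
        exact h
      obtain ⟨N, hN⟩ := (hmem _).1 h'
      refine sub_eq_zero.1 ((map_sub K.mkQ y y').symm.trans ?_)
      exact (Submodule.Quotient.mk_eq_zero K).2 ((hmem _).2 ⟨N + 1, by rw [pow_succ, mul_smul, hN]⟩)
    · intro y
      obtain ⟨y, rfl⟩ := Submodule.mkQ_surjective K y
      obtain ⟨c, hc⟩ := exists_div 𝒜 hX (hx i₀) 1
      choose w _ hw using fun e : ℤ => hc e (pr X.gr e y) (pr_mem X.gr e y)
      let W : X.carrier := ∑ e ∈ (DirectSum.decompose X.gr y).support, w e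
      refine ⟨K.mkQ W, ?_⟩
      show x i₀ • K.mkQ W = K.mkQ y
      rw [← map_smul, ← sub_eq_zero, ← map_sub]
      refine (Submodule.Quotient.mk_eq_zero K).2 ((hmem _).2 ⟨c, ?_⟩)
      rw [smul_sub, sub_eq_zero, ← mul_smul, ← pow_succ, Finset.smul_sum,
        Finset.sum_congr rfl fun e _ => hw e, ← Finset.smul_sum, sum_pr]

end Graded

section Segre

variable {k : Type u} [Field k] {R : Type u} [CommRing R] [Algebra k R] {S : Type u} [CommRing S] [Algebra k S]
  {T : Type u} [CommRing T] [Algebra k T] {𝒜 : ℤ → Submodule k R} [GradedAlgebra 𝒜]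
  {ℬ : ℤ → Submodule k S} [GradedAlgebra ℬ] {𝒯 : ℤ → Submodule k T} [GradedAlgebra 𝒯]
  {D : Datum 𝒜 ℬ 𝒯} (G : Gens D) {mT : Ideal T}

lemma ten_pow_eq {X : GrLC.GMod.{u} 𝒜} {Y : GrLC.GMod.{u} ℬ} {d : ℤ} {x : kpiece 𝒜 X.gr d}
    {y : kpiece ℬ Y.gr d} (i : Fin G.ER.num) (j : Fin G.ES.num) (N : ℕ) :
    sval D X Y (G.z i j ^ N • sgMk D X Y d (x ⊗ₜ y)) =
      (G.ER.x i ^ N • (x : X.carrier)) ⊗ₜ[k] (G.ES.x j ^ N • (y : Y.carrier)) := by
  rw [sval_smul, G.ψ_z_pow, sval_sgMk, emb_tmul, GrSeg.act_tmul]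

lemma tors_of_tmul {X : GrLC.GMod.{u} 𝒜} {Y : GrLC.GMod.{u} ℬ} (hmT : mT = posIdeal 𝒯)
    (h : ∀ d (x : kpiece 𝒜 X.gr d) (y : kpiece ℬ Y.gr d), sgMk D X Y d (x ⊗ₜ y) ∈ GrLC.gam mT (Sg D X Y))
    (w : Sg D X Y) : w ∈ GrLC.gam mT (Sg D X Y) := by
  refine sgMk_surj_sum D w fun d v => ?_
  induction v using TensorProduct.induction_on with
  | zero => rw [map_zero]; exact zero_mem _
  | add a b ha hb => rw [map_add]; exact add_mem ha hb
  | tmul x y => exact h d x y

include G in
lemma gam_left {X : GrLC.GMod.{u} 𝒜} {Y : GrLC.GMod.{u} ℬ} (hmT : mT = posIdeal 𝒯)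
    (hX : ∀ (i : Fin G.ER.num) (z : X.carrier), ∃ N : ℕ, G.ER.x i ^ N • z = 0) (w : Sg D X Y) :
    w ∈ GrLC.gam mT (Sg D X Y) :=
  tors_of_tmul hmT (fun d x y => (G.mem_gam_T hmT).2 fun i j => by
    obtain ⟨N, hN⟩ := hX i x.1
    refine ⟨N, sval_injective D X Y ?_⟩
    rw [ten_pow_eq, hN, TensorProduct.zero_tmul, map_zero]) w

include G in
lemma gam_right {X : GrLC.GMod.{u} 𝒜} {Y : GrLC.GMod.{u} ℬ} (hmT : mT = posIdeal 𝒯)
    (hY : ∀ (j : Fin G.ES.num) (z : Y.carrier), ∃ N : ℕ, G.ES.x j ^ N • z = 0) (w : Sg D X Y) :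
    w ∈ GrLC.gam mT (Sg D X Y) :=
  tors_of_tmul hmT (fun d x y => (G.mem_gam_T hmT).2 fun i j => by
    obtain ⟨N, hN⟩ := hY j y.1
    refine ⟨N, sval_injective D X Y ?_⟩
    rw [ten_pow_eq, hN, TensorProduct.tmul_zero, map_zero]) w

lemma exists_kpiece_preimage {X : GrLC.GMod.{u} 𝒜} {a : R} {e : ℤ} (ha : a ∈ 𝒜 e)
    (h : Function.Bijective fun z : X.carrier => a • z) {d : ℤ} (x : kpiece 𝒜 X.gr d) :
    ∃ x' : kpiece 𝒜 X.gr (d - e), a • (x' : X.carrier) = x := by
  obtain ⟨z, hz⟩ := h.2 x.1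
  refine ⟨⟨pr X.gr (d - e) z, pr_mem X.gr (d - e) z⟩, ?_⟩
  show a • pr X.gr (d - e) z = x.1
  rw [← pr_smul 𝒜 X.gr ha, show a • z = x.1 from hz, pr_of_mem X.gr x.2]

/-- An element acting bijectively on both factors acts bijectively on the Segre product. -/
lemma bijective_smul {X : GrLC.GMod.{u} 𝒜} {Y : GrLC.GMod.{u} ℬ} {e : ℤ} {t : T} {a : R} {b : S}
    (ha : a ∈ 𝒜 e) (hb : b ∈ ℬ e) (ht : D.ψ t = a ⊗ₜ[k] b)
    (hX : Function.Bijective fun z : X.carrier => a • z) (hY : Function.Bijective fun z : Y.carrier => b • z) :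
    Function.Bijective fun w : Sg D X Y => t • w := by
  let g : Sg D X Y →ₗ[T] Sg D X Y := t • LinearMap.id
  refine ⟨fun u v h => sval_injective D X Y ?_, fun w => ?_⟩
  · have h' := congrArg (sval D X Y) h
    simp only [sval_smul, ht] at h'
    let fa : X.carrier →ₗ[k] X.carrier := Algebra.lsmul k k X.carrier a
    let fb : Y.carrier →ₗ[k] Y.carrier := Algebra.lsmul k k Y.carrier b
    have key : ∀ p, GrSeg.act k R S X.carrier Y.carrier (a ⊗ₜ[k] b) p = TensorProduct.map fa fb p := fun p => by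
      induction p using TensorProduct.induction_on with
      | zero => simp
      | add p q hp hq => simp only [map_add, hp, hq]
      | tmul p q => rw [GrSeg.act_tmul]; rfl
    rw [key, key] at h'
    exact TensorProduct.map_injective_of_flat_flat fa fb hX.1 hY.1 h'
  · refine (sgMk_surj_sum D w (P := LinearMap.range g) fun d v => ?_ : w ∈ LinearMap.range g)
    induction v using TensorProduct.induction_on with
    | zero => rw [map_zero]; exact zero_mem _
    | add p q hp hq => rw [map_add]; exact add_mem hp hq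
    | tmul x y =>
      obtain ⟨x', hx'⟩ := exists_kpiece_preimage ha hX x
      obtain ⟨y', hy'⟩ := exists_kpiece_preimage (𝒜 := ℬ) hb hY y
      refine ⟨sgMk D X Y (d - e) (x' ⊗ₜ y'), sval_injective D X Y ?_⟩
      show sval D X Y (t • sgMk D X Y (d - e) (x' ⊗ₜ y')) = _
      rw [sval_smul, ht, sval_sgMk, emb_tmul, GrSeg.act_tmul, hx', hy']
      rfl

include G in
/-- Segre products of injective modules are acyclic. -/
theorem acy_sg (hmT : mT = posIdeal 𝒯) (X : GrLC.GMod.{u} 𝒜) (hX : GrLC.IsStarInj 𝒜 X.gr)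
    (Y : GrLC.GMod.{u} ℬ) (hY : GrLC.IsStarInj ℬ Y.gr) : Acy mT (Sg D X Y) := by
  haveI := G.noethR
  haveI := G.noethS
  haveI := G.noethT
  refine filt_induction G.ER.x G.ER.mem (fun X => Acy mT (Sg D X Y)) (fun X K hK h1 h2 => ?_)
    (fun X h => acy_of_torsion (gam_left G hmT h)) (fun X i hi => ?_) X hX
  · exact acy_of_exact (segMap D (X := subObj 𝒜 X.gr K hK) K.subtype (subtype_grHom X.gr K)
        (LinearMap.id : Y.carrier →ₗ[S] Y.carrier) (id_grHom Y))
      (segMap D (X' := quotObj 𝒜 X.gr K hK) K.mkQ (mkQ_grHom X.gr K) (LinearMap.id : Y.carrier →ₗ[S] Y.carrier)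
        (id_grHom Y))
      (segMap_injective D K.injective_subtype Function.injective_id)
      (segMap_surjective D K.mkQ_surjective Function.surjective_id)
      (segMap_exact_left D (X'' := quotObj 𝒜 X.gr K hK) (X := subObj 𝒜 X.gr K hK) Y (subtype_grHom X.gr K)
        (mkQ_grHom X.gr K) K.mkQ_surjective (K.range_subtype.trans K.ker_mkQ.symm)) h1 h2
  · refine filt_induction G.ES.x G.ES.mem (fun Y => Acy mT (Sg D X Y)) (fun Y K hK h1 h2 => ?_)
      (fun Y h => acy_of_torsion (gam_right G hmT h)) (fun Y j hj => ?_) Y hY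
    · exact acy_of_exact (segMap D (Y := subObj ℬ Y.gr K hK) (LinearMap.id : X.carrier →ₗ[R] X.carrier) (id_grHom X)
          K.subtype (subtype_grHom Y.gr K))
        (segMap D (Y' := quotObj ℬ Y.gr K hK) (LinearMap.id : X.carrier →ₗ[R] X.carrier) (id_grHom X) K.mkQ
          (mkQ_grHom Y.gr K))
        (segMap_injective D Function.injective_id K.injective_subtype)
        (segMap_surjective D Function.surjective_id K.mkQ_surjective)
        (segMap_exact_right D (Y'' := quotObj ℬ Y.gr K hK) (Y := subObj ℬ Y.gr K hK) X (subtype_grHom Y.gr K)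
          (mkQ_grHom Y.gr K) K.mkQ_surjective (K.range_subtype.trans K.ker_mkQ.symm)) h1 h2
    · have hzT : G.z i j ∈ mT := hmT ▸ mem_posIdeal 𝒯 (Int.natCast_pos.2 G.ER.deg_pos) (G.z_mem i j)
      exact fun q => subsingleton_H_of_bijective hzT
        (bijective_smul (G.ER.mem i) (G.deg_eq ▸ G.ES.mem j) (G.ψ_z i j) hi hj) (q + 1)

end Segre

end Groth.Agent.SegreLC
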