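import Mathlib

/-!
Cochain complexes indexed by the natural numbers, double complexes and their totals.
-/

set_option autoImplicit false
set_option linter.unusedSectionVars false
universe u

open scoped Classical

noncomputable section

namespace Groth.Agent.SegreLC

/-- A cochain complex in degrees `≥ 0`. -/
structure Cx (A : Type u) [CommRing A] : Type (u + 1) where
  V : ℕ → Type u
  [acg : ∀ n, AddCommGroup (V n)]
  [mod : ∀ n, Module A (V n)]
  d : ∀ n, V n →ₗ[A] V (n + 1)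
  d_d : ∀ n x, d (n + 1) (d n x) = 0

namespace Cx

variable {A : Type u} [CommRing A] (C : Cx A)

instance (n : ℕ) : AddCommGroup (C.V n) := C.acg n
instance (n : ℕ) : Module A (C.V n) := C.mod n

/-- The boundaries. -/
def B : ∀ n, Submodule A (C.V n)
  | 0 => ⊥
  | n + 1 => LinearMap.range (C.d n)

/-- The cycles. -/
def Z (n : ℕ) : Submodule A (C.V n) := LinearMap.ker (C.d n)

lemma B_le_Z : ∀ n, C.B n ≤ C.Z n
  | 0 => bot_le
  | n + 1 => by rintro _ ⟨x, rfl⟩; exact C.d_d n x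

/-- The cohomology. -/
abbrev Coh (n : ℕ) : Type u := C.Z n ⧸ (C.B n).comap (C.Z n).subtype

/-- The class of a cycle. -/
def cls (n : ℕ) : C.Z n →ₗ[A] C.Coh n := Submodule.mkQ _

lemma cls_surjective (n : ℕ) : Function.Surjective (C.cls n) := Submodule.mkQ_surjective _

lemma cls_eq_zero_iff {n : ℕ} (z : C.Z n) : C.cls n z = 0 ↔ (z : C.V n) ∈ C.B n :=
  Submodule.Quotient.mk_eq_zero _

lemma subsingleton_coh_iff (n : ℕ) : Subsingleton (C.Coh n) ↔ C.Z n ≤ C.B n := by
  rw [Submodule.Quotient.subsingleton_iff, Submodule.comap_subtype_eq_top]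

end Cx

/-- A double complex in the first quadrant, with commuting differentials. -/
structure BiCx (A : Type u) [CommRing A] : Type (u + 1) where
  W : ℕ → ℕ → Type u
  [acg : ∀ i j, AddCommGroup (W i j)]
  [mod : ∀ i j, Module A (W i j)]
  dh : ∀ i j, W i j →ₗ[A] W (i + 1) j
  dv : ∀ i j, W i j →ₗ[A] W i (j + 1)
  hh : ∀ i j w, dh (i + 1) j (dh i j w) = 0
  vv : ∀ i j w, dv i (j + 1) (dv i j w) = 0
  hv : ∀ i j w, dh i (j + 1) (dv i j w) = dv (i + 1) j (dh i j w)

namespace BiCx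

variable {A : Type u} [CommRing A] (W : BiCx A)

instance (i j : ℕ) : AddCommGroup (W.W i j) := W.acg i j
instance (i j : ℕ) : Module A (W.W i j) := W.mod i j

/-- The index set of a total degree. -/
abbrev Idx (n : ℕ) : Type := {p : ℕ × ℕ // p.1 + p.2 = n}

instance (n : ℕ) : Fintype (Idx n) :=
  Fintype.ofFinset (Finset.HasAntidiagonal.antidiagonal n) fun _ => Finset.HasAntidiagonal.mem_antidiagonal

/-- The terms of the total complex. -/
abbrev Tot (n : ℕ) : Type u := ∀ p : Idx n, W.W p.1.1 p.1.2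

/-- The inclusion of a component. -/
def inc {n : ℕ} (i j : ℕ) (h : i + j = n) : W.W i j →ₗ[A] W.Tot n :=
  LinearMap.single A (fun p : Idx n => W.W p.1.1 p.1.2) ⟨(i, j), h⟩

/-- The sign of a column. -/
def sgn {A : Type u} [CommRing A] (i : ℕ) : A := (-1) ^ i

lemma sgn_succ (i : ℕ) : (sgn (i + 1) : A) = -sgn i := by rw [sgn, sgn, pow_succ, mul_neg_one]

lemma sgn_sq (i : ℕ) : (sgn i : A) * sgn i = 1 := by rw [sgn, ← mul_pow, neg_one_mul, neg_neg, one_pow]

lemma inc_apply_same {n i j : ℕ} (h : i + j = n) (w : W.W i j) : W.inc i j h w ⟨(i, j), h⟩ = w :=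
  Pi.single_eq_same (M := fun p : Idx n => W.W p.1.1 p.1.2) (⟨(i, j), h⟩ : Idx n) w

lemma inc_apply_ne {n i j : ℕ} (h : i + j = n) (w : W.W i j) {p : Idx n} (hp : p.1 ≠ (i, j)) :
    W.inc i j h w p = 0 :=
  Pi.single_eq_of_ne (M := fun p : Idx n => W.W p.1.1 p.1.2) (i := (⟨(i, j), h⟩ : Idx n))
    (fun e => hp (congrArg Subtype.val e)) w

lemma sum_inc {n : ℕ} (x : W.Tot n) : ∑ p : Idx n, W.inc p.1.1 p.1.2 p.2 (x p) = x :=
  Finset.univ_sum_single x

lemma tot_ext {n : ℕ} {M : Type u} [AddCommGroup M] [Module A M] {f g : W.Tot n →ₗ[A] M}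
    (h : ∀ i j (e : i + j = n) w, f (W.inc i j e w) = g (W.inc i j e w)) : f = g :=
  LinearMap.pi_ext fun p x => h p.1.1 p.1.2 p.2 x

/-- The differential on a component. -/
def dOut {n : ℕ} (i j : ℕ) (h : i + j = n) : W.W i j →ₗ[A] W.Tot (n + 1) :=
  W.inc (n := n + 1) (i + 1) j (by omega) ∘ₗ W.dh i j + (sgn i : A) • (W.inc (n := n + 1) i (j + 1) (by omega) ∘ₗ W.dv i j)

/-- The total differential. -/
def totD (n : ℕ) : W.Tot n →ₗ[A] W.Tot (n + 1) :=
  ∑ p : Idx n, W.dOut p.1.1 p.1.2 p.2 ∘ₗ LinearMap.proj (φ := fun p : Idx n => W.W p.1.1 p.1.2) p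

/-- A map given on components. -/
lemma sum_proj_inc {n : ℕ} {M : Type u} [AddCommGroup M] [Module A M]
    (f : ∀ p : Idx n, W.W p.1.1 p.1.2 →ₗ[A] M) {i j : ℕ} (h : i + j = n) (w : W.W i j) :
    (∑ p : Idx n, f p ∘ₗ LinearMap.proj (φ := fun p : Idx n => W.W p.1.1 p.1.2) p) (W.inc i j h w) =
      f ⟨(i, j), h⟩ w := by
  rw [LinearMap.sum_apply]
  refine (Finset.sum_eq_single (⟨(i, j), h⟩ : Idx n) (fun p _ hp => ?_) fun hp => absurd (Finset.mem_univ _) hp).trans ?_
  · show f p (W.inc i j h w p) = 0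
    rw [W.inc_apply_ne h w (fun e => hp (Subtype.ext e)), map_zero]
  · show f ⟨(i, j), h⟩ (W.inc i j h w ⟨(i, j), h⟩) = _
    rw [W.inc_apply_same]

lemma totD_inc {n i j : ℕ} (h : i + j = n) (w : W.W i j) :
    W.totD n (W.inc i j h w) =
      W.inc (n := n + 1) (i + 1) j (by omega) (W.dh i j w) + (sgn i : A) • W.inc (n := n + 1) i (j + 1) (by omega) (W.dv i j w) := by
  rw [totD, W.sum_proj_inc (fun p : Idx n => W.dOut p.1.1 p.1.2 p.2) h w]
  rfl

lemma totD_totD (n : ℕ) (x : W.Tot n) : W.totD (n + 1) (W.totD n x) = 0 := by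
  have : W.totD (n + 1) ∘ₗ W.totD n = 0 := W.tot_ext fun i j e w => by
    rw [LinearMap.comp_apply, W.totD_inc, map_add, map_smul, W.totD_inc, W.totD_inc, W.hh, W.vv, map_zero,
      map_zero, W.hv, smul_zero, add_zero, zero_add, sgn_succ, neg_smul, LinearMap.zero_apply]
    exact neg_add_cancel _
  exact LinearMap.congr_fun this x

/-- The total complex. -/
def tot : Cx A where
  V := W.Tot
  d := W.totD
  d_d := W.totD_totD

end BiCx

end Groth.Agent.SegreLC
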