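import Groth.Agent.SegreLC.Gens

/-!
Exactness of the Segre product of graded modules.
-/

set_option autoImplicit false
set_option linter.unusedSectionVars false
set_option linter.style.haveILetI false
set_option backward.isDefEq.respectTransparency false
set_option backward.isDefEq.respectTransparency.types false
universe u

open scoped Classical TensorProduct
open DirectSum Groth.Agent.GrLCLib

noncomputable section

namespace Groth.Agent.SegreLC

variable {k : Type u} [Field k] {R : Type u} [CommRing R] [Algebra k R] {S : Type u} [CommRing S] [Algebra k S]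
  {T : Type u} [CommRing T] [Algebra k T] {𝒜 : ℤ → Submodule k R} [GradedAlgebra 𝒜]
  {ℬ : ℤ → Submodule k S} [GradedAlgebra ℬ] {𝒯 : ℤ → Submodule k T} [GradedAlgebra 𝒯]
  (D : Datum 𝒜 ℬ 𝒯) {X X' X'' : GrLC.GMod.{u} 𝒜} {Y Y' Y'' : GrLC.GMod.{u} ℬ}

lemma sgMk_surj_sum (w : Sg D X Y) {P : Submodule T (Sg D X Y)}
    (h : ∀ d v, sgMk D X Y d v ∈ P) : w ∈ P := by
  refine GrLCLib.mem_of_pr_mem (sgPiece D X Y) (K := P) fun d => ?_
  obtain ⟨v, hv⟩ := exists_sgMk D X Y (pr_mem (sgPiece D X Y) d w)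
  exact hv ▸ h d v

lemma segMap_injective {f : X.carrier →ₗ[R] X'.carrier} {hf : GrLC.IsGrHom X.gr X'.gr f}
    {g : Y.carrier →ₗ[S] Y'.carrier} {hg : GrLC.IsGrHom Y.gr Y'.gr g} (hfi : Function.Injective f)
    (hgi : Function.Injective g) : Function.Injective (segMap D f hf g hg) := fun _ _ h =>
  sval_injective D X Y (TensorProduct.map_injective_of_flat_flat (kLin (k := k) f) (kLin (k := k) g) hfi hgi
    (congrArg (sval D X' Y') h))

lemma kpieceMap_surjective {Z Z' : GrLC.GMod.{u} 𝒜} (f : Z.carrier →ₗ[R] Z'.carrier) (hf : GrLC.IsGrHom Z.gr Z'.gr f)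
    (hs : Function.Surjective f) (d : ℤ) : Function.Surjective (kpieceMap (𝒜 := 𝒜) f hf d) := fun ⟨y, hy⟩ => by
  obtain ⟨x, hx, hxy⟩ := GrLCLib.exists_preimage Z.gr Z'.gr hf hy (hs y)
  exact ⟨⟨x, hx⟩, Subtype.ext hxy⟩

lemma segMap_surjective {f : X.carrier →ₗ[R] X'.carrier} {hf : GrLC.IsGrHom X.gr X'.gr f}
    {g : Y.carrier →ₗ[S] Y'.carrier} {hg : GrLC.IsGrHom Y.gr Y'.gr g} (hfs : Function.Surjective f)
    (hgs : Function.Surjective g) : Function.Surjective (segMap D f hf g hg) := by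
  intro w
  refine (sgMk_surj_sum D w (P := LinearMap.range (segMap D f hf g hg)) fun d v => ?_)
  obtain ⟨v', rfl⟩ := TensorProduct.map_surjective (kpieceMap_surjective f hf hfs d)
    (kpieceMap_surjective (k := k) g hg hgs d) v
  exact ⟨sgMk D X Y d v', segMap_sgMk D f hf g hg d v'⟩

lemma exact_kpieceMap {Z Z' Z'' : GrLC.GMod.{u} 𝒜} {f : Z.carrier →ₗ[R] Z'.carrier} (hf : GrLC.IsGrHom Z.gr Z'.gr f)
    {f' : Z'.carrier →ₗ[R] Z''.carrier} (hf' : GrLC.IsGrHom Z'.gr Z''.gr f')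
    (he : LinearMap.range f = LinearMap.ker f') (d : ℤ) :
    Function.Exact (kpieceMap (𝒜 := 𝒜) f hf d) (kpieceMap (𝒜 := 𝒜) f' hf' d) := by
  rintro ⟨y, hy⟩
  constructor
  · intro h
    obtain ⟨x, hx, hxy⟩ := GrLCLib.exists_preimage Z.gr Z'.gr hf hy (he ▸ (congrArg Subtype.val h : f' y = 0))
    exact ⟨⟨x, hx⟩, Subtype.ext hxy⟩
  · rintro ⟨⟨x, hx⟩, hxy⟩
    refine Subtype.ext ?_
    have h1 : f x ∈ LinearMap.ker f' := he ▸ LinearMap.mem_range_self f x
    rw [show f x = y from congrArg Subtype.val hxy] at h1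
    exact h1

lemma segMap_exact_left (Y : GrLC.GMod.{u} ℬ) {f : X.carrier →ₗ[R] X'.carrier} (hf : GrLC.IsGrHom X.gr X'.gr f)
    {f' : X'.carrier →ₗ[R] X''.carrier} (hf' : GrLC.IsGrHom X'.gr X''.gr f') (hfs : Function.Surjective f')
    (he : LinearMap.range f = LinearMap.ker f') :
    LinearMap.ker (segMap D f' hf' (LinearMap.id : Y.carrier →ₗ[S] Y.carrier) (id_grHom Y)) =
      LinearMap.range (segMap D f hf (LinearMap.id : Y.carrier →ₗ[S] Y.carrier) (id_grHom Y)) := by
  refine le_antisymm (fun w hw => ?_) ?_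
  · refine GrLCLib.mem_of_pr_mem (sgPiece D X' Y) fun d => ?_
    obtain ⟨v, hv⟩ := exists_sgMk D X' Y (pr_mem (sgPiece D X' Y) d w)
    have h1 := GrLCLib.homog_ker (sgPiece D X' Y) (sgPiece D X'' Y) (segMap_grHom D f' hf' LinearMap.id (id_grHom Y)) w hw d
    rw [← hv] at h1 ⊢
    have h2 : TensorProduct.map (kpieceMap f' hf' d) (kpieceMap (k := k) (LinearMap.id : Y.carrier →ₗ[S] Y.carrier) (id_grHom Y) d) v = 0 := by
      refine sgMk_injective D X'' Y d ?_
      rw [← segMap_sgMk, map_zero]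
      exact h1
    have hid : kpieceMap (k := k) (𝒜 := ℬ) (LinearMap.id : Y.carrier →ₗ[S] Y.carrier) (id_grHom Y) d = LinearMap.id := rfl
    rw [hid] at h2
    obtain ⟨v', rfl⟩ := (rTensor_exact (kpiece ℬ Y.gr d) (exact_kpieceMap hf hf' he d)
      (kpieceMap_surjective f' hf' hfs d) v).1 h2
    exact ⟨sgMk D X Y d v', segMap_sgMk D f hf LinearMap.id (id_grHom Y) d v'⟩
  · rintro _ ⟨w, rfl⟩
    refine sval_injective D X'' Y ?_
    rw [sval_segMap, sval_segMap, map_zero, ← LinearMap.comp_apply, ← TensorProduct.map_comp,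
      show kLin (k := k) f' ∘ₗ kLin (k := k) f = 0 from LinearMap.ext fun x =>
        (show f x ∈ LinearMap.ker f' from he ▸ LinearMap.mem_range_self f x),
      TensorProduct.map_zero_left, LinearMap.zero_apply]

lemma segMap_exact_right (X : GrLC.GMod.{u} 𝒜) {g : Y.carrier →ₗ[S] Y'.carrier} (hg : GrLC.IsGrHom Y.gr Y'.gr g)
    {g' : Y'.carrier →ₗ[S] Y''.carrier} (hg' : GrLC.IsGrHom Y'.gr Y''.gr g') (hgs : Function.Surjective g')
    (he : LinearMap.range g = LinearMap.ker g') :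
    LinearMap.ker (segMap D (LinearMap.id : X.carrier →ₗ[R] X.carrier) (id_grHom X) g' hg') =
      LinearMap.range (segMap D (LinearMap.id : X.carrier →ₗ[R] X.carrier) (id_grHom X) g hg) := by
  refine le_antisymm (fun w hw => ?_) ?_
  · refine GrLCLib.mem_of_pr_mem (sgPiece D X Y') fun d => ?_
    obtain ⟨v, hv⟩ := exists_sgMk D X Y' (pr_mem (sgPiece D X Y') d w)
    have h1 := GrLCLib.homog_ker (sgPiece D X Y') (sgPiece D X Y'') (segMap_grHom D LinearMap.id (id_grHom X) g' hg') w hw d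
    rw [← hv] at h1 ⊢
    have h2 : TensorProduct.map (kpieceMap (k := k) (LinearMap.id : X.carrier →ₗ[R] X.carrier) (id_grHom X) d) (kpieceMap g' hg' d) v = 0 := by
      refine sgMk_injective D X Y'' d ?_
      rw [← segMap_sgMk, map_zero]
      exact h1
    have hid : kpieceMap (k := k) (𝒜 := 𝒜) (LinearMap.id : X.carrier →ₗ[R] X.carrier) (id_grHom X) d = LinearMap.id := rfl
    rw [hid] at h2
    obtain ⟨v', rfl⟩ := (lTensor_exact (kpiece 𝒜 X.gr d) (exact_kpieceMap hg hg' he d)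
      (kpieceMap_surjective g' hg' hgs d) v).1 h2
    exact ⟨sgMk D X Y d v', segMap_sgMk D LinearMap.id (id_grHom X) g hg d v'⟩
  · rintro _ ⟨w, rfl⟩
    refine sval_injective D X Y'' ?_
    rw [sval_segMap, sval_segMap, map_zero, ← LinearMap.comp_apply, ← TensorProduct.map_comp,
      show kLin (k := k) g' ∘ₗ kLin (k := k) g = 0 from LinearMap.ext fun x =>
        (show g x ∈ LinearMap.ker g' from he ▸ LinearMap.mem_range_self g x),
      TensorProduct.map_zero_right, LinearMap.zero_apply]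

end Groth.Agent.SegreLC
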