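import Groth.Agent.GrLCLib.HighVan
import Groth.Agent.GrLCLib.ArtPieces
import Groth.Agent.GrLCLib.AInv

/-!
The pieces of local cohomology in the irrelevant ideal are finite over the degree zero part.
-/

set_option autoImplicit false
set_option linter.unusedSectionVars false
set_option linter.style.haveILetI false
set_option backward.isDefEq.respectTransparency false
set_option backward.isDefEq.respectTransparency.types false
universe u

open scoped Classical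
open DirectSum

noncomputable section

namespace Groth.Agent.SegreLC.FP

open Groth.Agent.GrLCLib

variable {R : Type u} [CommRing R] {σ : Type u} [SetLike σ R] [AddSubgroupClass σ R] {𝒜 : ℤ → σ} [GradedRing 𝒜]
variable {M : Type u} [AddCommGroup M] [Module R M] {τ : Type u} [SetLike τ M] [AddSubgroupClass τ M] {ℳ : ℤ → τ} [DirectSum.Decomposition ℳ]
  [SetLike.GradedSMul 𝒜 ℳ]
variable {N : Type u} [AddCommGroup N] [Module R N] {τ' : Type u} [SetLike τ' N] [AddSubgroupClass τ' N] {𝒩 : ℤ → τ'} [DirectSum.Decomposition 𝒩]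
  [SetLike.GradedSMul 𝒜 𝒩]
variable (a : HomogeneousIdeal 𝒜)

section HMap

variable (E : GrLC.StarInjRes 𝒜 ℳ) (E' : GrLC.StarInjRes 𝒜 𝒩) {i j : ℕ}
  (ψ : (E.X i).carrier →ₗ[R] (E'.X j).carrier) (hc : ∀ z ∈ E.cocyc a i, ψ z ∈ E'.cocyc a j)
  (hb : ∀ z ∈ E.cobdy a i, ψ z ∈ E'.cobdy a j)

/-- The map on cohomology. -/
def hmapH : E.H a i →ₗ[R] E'.H a j :=
  Submodule.mapQ ((E.cobdy a i).comap (E.cocyc a i).subtype) ((E'.cobdy a j).comap (E'.cocyc a j).subtype)
    (ψ.restrict hc) fun z hz => hb z.1 hz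

lemma hmapH_toH (z : E.cocyc a i) : hmapH a E E' ψ hc hb (E.toH a i z) = E'.toH a j ⟨ψ z, hc z z.2⟩ := rfl

lemma hmapH_mem {e e' : ℤ} (hg : ∀ z ∈ (E.X i).gr e, ψ z ∈ (E'.X j).gr e') {y : E.H a i} (hy : y ∈ E.Hcomp a i e) :
    hmapH a E E' ψ hc hb y ∈ E'.Hcomp a j e' := by
  obtain ⟨z, hz, rfl⟩ := hy
  exact ⟨⟨ψ z, hc z z.2⟩, hg z hz, (hmapH_toH a E E' ψ hc hb z).symm⟩

/-- The map on pieces. -/
def hmap {e e' : ℤ} (hg : ∀ z ∈ (E.X i).gr e, ψ z ∈ (E'.X j).gr e') :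
    E.Hcomp a i e →ₗ[GrLC.deg0 𝒜] E'.Hcomp a j e' :=
  LinearMap.restrict ((hmapH a E E' ψ hc hb).restrictScalars (GrLC.deg0 𝒜)) fun _ hy => hmapH_mem a E E' ψ hc hb hg hy

lemma hmap_coe {e e' : ℤ} (hg : ∀ z ∈ (E.X i).gr e, ψ z ∈ (E'.X j).gr e') (y : E.Hcomp a i e) :
    (hmap a E E' ψ hc hb hg y : E'.H a j) = hmapH a E E' ψ hc hb y := rfl

end HMap

lemma toH_eq_iff (E : GrLC.StarInjRes 𝒜 ℳ) {i : ℕ} (z w : E.cocyc a i) :
    E.toH a i z = E.toH a i w ↔ (z : (E.X i).carrier) - w ∈ E.cobdy a i :=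
  Submodule.Quotient.eq ((E.cobdy a i).comap (E.cocyc a i).subtype)

theorem finite_hcomp_congr (E E₂ : GrLC.StarInjRes 𝒜 ℳ) (i : ℕ) (e : ℤ)
    [Module.Finite (GrLC.deg0 𝒜) (E.Hcomp a i e)] : Module.Finite (GrLC.deg0 𝒜) (E₂.Hcomp a i e) := by
  obtain ⟨φ⟩ := exists_rmap E₂ E LinearMap.id (fun _ _ hx => hx)
  obtain ⟨ψ⟩ := exists_rmap E E₂ LinearMap.id (fun _ _ hx => hx)
  refine Module.Finite.of_surjective (hmap a E E₂ (ψ.φ i) (fun z hz => ψ.map_cocyc a hz) (fun z hz => ψ.map_cobdy a hz)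
    (ψ.gr i e)) fun y => ?_
  obtain ⟨z, hz, hzy⟩ := y.2
  refine ⟨⟨_, ⟨⟨φ.φ i z, φ.map_cocyc a z.2⟩, φ.gr i e z hz, rfl⟩⟩, Subtype.ext ?_⟩
  refine (hmapH_toH a E E₂ (ψ.φ i) (fun z hz => ψ.map_cocyc a hz) (fun z hz => ψ.map_cobdy a hz) _).trans (Eq.trans ?_ hzy)
  exact (toH_eq_iff a E₂ _ _).2 (roundtrip φ ψ a z.2)

/-- the middle piece is finite when the kernel and the target are -/
theorem finite_of_ker_range [IsNoetherianRing (GrLC.deg0 𝒜)] {A B : Type u} [AddCommGroup A] [Module (GrLC.deg0 𝒜) A]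
    [AddCommGroup B] [Module (GrLC.deg0 𝒜) B] [Module.Finite (GrLC.deg0 𝒜) B] (f : A →ₗ[GrLC.deg0 𝒜] B)
    (hker : (LinearMap.ker f).FG) : Module.Finite (GrLC.deg0 𝒜) A :=
  ⟨Submodule.fg_of_fg_map_of_fg_inf_ker f (IsNoetherian.noetherian _) (by rwa [top_inf_eq])⟩

lemma isNoetherianRing_deg0 [IsNoetherianRing R] (hpos : ∀ n : ℤ, n < 0 → ∀ r ∈ 𝒜 n, r = 0) :
    IsNoetherianRing (GrLC.deg0 𝒜) := by
  have hmul : ∀ r q : R, pr 𝒜 0 (r * q) = pr 𝒜 0 r * pr 𝒜 0 q := by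
    intro r q
    induction r using DirectSum.Decomposition.inductionOn 𝒜 with
    | zero => simp
    | @homogeneous i p =>
      rw [show pr 𝒜 0 ((p : R) * q) = (p : R) * pr 𝒜 (0 - i) q from pr_smul 𝒜 𝒜 p.2 _ _]
      rcases lt_trichotomy i 0 with h | rfl | h
      · rw [show (p : R) = 0 from hpos i h _ p.2]; simp
      · rw [sub_zero, pr_of_mem 𝒜 p.2]
      · rw [show pr 𝒜 (0 - i) q = 0 from hpos (0 - i) (by omega) _ (pr_mem 𝒜 _ q), pr_of_mem_ne 𝒜 p.2 h.ne']; simp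
    | add u v hu hv => rw [add_mul, map_add, hu, hv, map_add, add_mul]
  exact isNoetherianRing_of_surjective R (GrLC.deg0 𝒜)
    { toFun := fun r => ⟨pr 𝒜 0 r, pr_mem 𝒜 0 r⟩
      map_one' := Subtype.ext (pr_of_mem 𝒜 (SetLike.one_mem_graded 𝒜))
      map_mul' := fun r q => Subtype.ext (hmul r q)
      map_zero' := Subtype.ext (map_zero _)
      map_add' := fun r q => Subtype.ext (map_add _ r q) }
    fun c => ⟨c, Subtype.ext (pr_of_mem 𝒜 c.2)⟩

variable {s : ℕ} {f : Fin s → R} {dg : Fin s → ℤ} (hf : ∀ j, f j ∈ 𝒜 (dg j)) (hdg : ∀ j, 0 < dg j)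
  (hpos : ∀ n : ℤ, n < 0 → ∀ r ∈ 𝒜 n, r = 0) (ha : a.toIdeal = Ideal.span (Set.range f))
  (hin : ∀ e : ℤ, 0 < e → ∀ r ∈ 𝒜 e, r ∈ a.toIdeal)

section ToW

variable {MA : Type u} [AddCommGroup MA] [Module R MA] {τA : Type u} [SetLike τA MA] [AddSubgroupClass τA MA]
  {ℳA : ℤ → τA} [DirectSum.Decomposition ℳA] [SetLike.GradedSMul 𝒜 ℳA]
variable {MB : Type u} [AddCommGroup MB] [Module R MB] {τB : Type u} [SetLike τB MB] [AddSubgroupClass τB MB]
  {ℳB : ℤ → τB} [DirectSum.Decomposition ℳB] [SetLike.GradedSMul 𝒜 ℳB]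
variable {EA : GrLC.StarInjRes 𝒜 ℳA} {EB : GrLC.StarInjRes 𝒜 ℳB} {g : MA →ₗ[R] MB} (φ : RMap EA EB g)
  (r : (W EA EB 0).carrier →ₗ[R] (EA.X 0).carrier) (hr : GrLC.IsGrHom (W EA EB 0).gr (EA.X 0).gr r)

/-- From the cone resolution to pairs. -/
def toW : ∀ i, (coneX r hr i).carrier →ₗ[R] (W EA EB i).carrier
  | 0 => incY0 r hr
  | _ + 1 => LinearMap.id

lemma dW_toW : ∀ (i : ℕ) (z : (coneX r hr i).carrier), dW φ i (toW r hr i z) = coneDiff φ r hr i z
  | 0, _ => rfl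
  | _ + 1, _ => rfl

lemma toW_grHom : ∀ i, GrLC.IsGrHom (coneX r hr i).gr (W EA EB i).gr (toW r hr i)
  | 0 => incY0_grHom r hr
  | _ + 1 => fun _ _ hx => hx

/-- The first entry. -/
def fstW (i : ℕ) : (coneX r hr i).carrier →ₗ[R] (EA.X (i + 1)).carrier :=
  LinearMap.fst R (EA.X (i + 1)).carrier (EB.X i).carrier ∘ₗ toW r hr i

include φ in
lemma d_fstW_eq_zero (i : ℕ) (z : (coneX r hr i).carrier) (hz : coneDiff φ r hr i z = 0) :
    EA.d (i + 1) (fstW r hr i z) = 0 := by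
  have h : dW φ i ((toW r hr i z).1, (toW r hr i z).2) = 0 := (dW_toW φ r hr i z).trans hz
  rw [dW_apply] at h
  exact neg_eq_zero.1 (congrArg Prod.fst h)

include φ in
lemma fstW_diff (i : ℕ) (w : (coneX r hr i).carrier) :
    fstW r hr (i + 1) (coneDiff φ r hr i w) = EA.d (i + 1) (-(fstW r hr i w)) := by
  rw [← dW_toW φ r hr i w, map_neg]
  rfl

end ToW

/-- The product map between pieces. -/
def smulPiece {τ : Type u} [SetLike τ M] [AddSubgroupClass τ M] (ℳ : ℤ → τ) [SetLike.GradedSMul 𝒜 ℳ] {k g h : ℤ} (y : M) (hy : y ∈ ℳ g) (hk : k + g = h) :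
    GrLC.comp 𝒜 𝒜 k →ₗ[GrLC.deg0 𝒜] GrLC.comp 𝒜 ℳ h where
  toFun r := ⟨(r : R) • y, hk ▸ SetLike.GradedSMul.smul_mem (A := 𝒜) (B := ℳ) r.2 hy⟩
  map_add' r q := Subtype.ext (add_smul _ _ _)
  map_smul' c r := Subtype.ext (mul_smul (c : R) (r : R) y)

include hf hdg hpos ha hin in
theorem finite_comp_ring (e : ℤ) : Module.Finite (GrLC.deg0 𝒜) (GrLC.comp 𝒜 𝒜 e) := by
  suffices key : ∀ (k : ℕ) (e : ℤ), e < k → Module.Finite (GrLC.deg0 𝒜) (GrLC.comp 𝒜 𝒜 e) from
    key (e + 1).toNat e (by omega)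
  intro k
  induction k with
  | zero =>
    intro e he
    haveI : Subsingleton (GrLC.comp 𝒜 𝒜 e) := subsingleton_of_forall_eq 0 fun v => Subtype.ext (hpos e he _ v.2)
    infer_instance
  | succ k ih =>
    intro e he
    rcases eq_or_ne e 0 with rfl | hne
    · exact Module.Finite.of_surjective
        ({ toFun := fun c => ⟨(c : R), c.2⟩, map_add' := fun _ _ => rfl, map_smul' := fun _ _ => rfl } :
          GrLC.deg0 𝒜 →ₗ[GrLC.deg0 𝒜] GrLC.comp 𝒜 𝒜 0) fun v => ⟨⟨v.1, v.2⟩, rfl⟩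
    rcases lt_or_ge e 0 with h | h
    · exact ih e (by omega)
    haveI : ∀ b, Module.Finite (GrLC.deg0 𝒜) (GrLC.comp 𝒜 𝒜 (e - dg b)) := fun b => ih _ (by have := hdg b; omega)
    refine Module.Finite.of_surjective
      (LinearMap.lsum (GrLC.deg0 𝒜) (fun b => GrLC.comp 𝒜 𝒜 (e - dg b)) (GrLC.deg0 𝒜)
        fun b => smulPiece (M := R) 𝒜 (f b) (hf b) (sub_add_cancel e (dg b))) fun v => ?_
    have h1 : (v : R) ∈ Ideal.span (Set.range f) := ha ▸ hin e (by omega) v v.2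
    obtain ⟨c, hc⟩ := (Submodule.mem_span_range_iff_exists_fun _).1 h1
    refine ⟨fun b => ⟨pr 𝒜 (e - dg b) (c b), pr_mem 𝒜 _ _⟩, Subtype.ext ?_⟩
    rw [LinearMap.lsum_apply, LinearMap.sum_apply, AddSubmonoidClass.coe_finsetSum]
    show ∑ b, pr 𝒜 (e - dg b) (c b) * f b = (v : R)
    rw [← pr_of_mem 𝒜 v.2, ← hc, map_sum]
    refine Finset.sum_congr rfl fun b _ => ?_
    rw [smul_eq_mul, mul_comm (c b), mul_comm (pr 𝒜 _ _)]
    exact (pr_smul 𝒜 𝒜 (hf b) _ _).symm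

include hf hdg hpos ha hin in
theorem finite_comp_mod {M : Type u} [AddCommGroup M] [Module R M] [Module.Finite R M] {τ : Type u} [SetLike τ M] [AddSubgroupClass τ M] (ℳ : ℤ → τ)
    [DirectSum.Decomposition ℳ] [SetLike.GradedSMul 𝒜 ℳ] (e : ℤ) :
    Module.Finite (GrLC.deg0 𝒜) (GrLC.comp 𝒜 ℳ e) := by
  obtain ⟨S, hS⟩ := (Module.Finite.fg_top : (⊤ : Submodule R M).FG)
  let T : Finset (ℤ × M) := S.biUnion fun z => (DirectSum.decompose ℳ z).support.image fun g => (g, pr ℳ g z)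
  have hT : ∀ p : T, (p : ℤ × M).2 ∈ ℳ (p : ℤ × M).1 := fun p => by
    obtain ⟨z, -, hz⟩ := Finset.mem_biUnion.1 p.2
    obtain ⟨g, -, hg⟩ := Finset.mem_image.1 hz
    rw [← hg]
    exact pr_mem ℳ g z
  have htop : (⊤ : Submodule R M) = Submodule.span R (Set.range fun p : T => (p : ℤ × M).2) := by
    refine le_antisymm ?_ le_top
    rw [← hS, Submodule.span_le]
    intro z hz
    rw [SetLike.mem_coe, ← sum_pr ℳ z]
    exact Submodule.sum_mem _ fun g hg => Submodule.subset_span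
      ⟨⟨(g, pr ℳ g z), Finset.mem_biUnion.2 ⟨z, hz, Finset.mem_image.2 ⟨g, hg, rfl⟩⟩⟩, rfl⟩
  haveI : ∀ p : T, Module.Finite (GrLC.deg0 𝒜) (GrLC.comp 𝒜 𝒜 (e - (p : ℤ × M).1)) := fun p =>
    finite_comp_ring a hf hdg hpos ha hin _
  refine Module.Finite.of_surjective
    (LinearMap.lsum (GrLC.deg0 𝒜) (fun p : T => GrLC.comp 𝒜 𝒜 (e - (p : ℤ × M).1)) (GrLC.deg0 𝒜)
      fun p => smulPiece ℳ (p : ℤ × M).2 (hT p) (sub_add_cancel e _)) fun v => ?_
  have h1 : (v : M) ∈ Submodule.span R (Set.range fun p : T => (p : ℤ × M).2) := htop ▸ Submodule.mem_top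
  obtain ⟨c, hc⟩ := (Submodule.mem_span_range_iff_exists_fun _).1 h1
  refine ⟨fun p => ⟨pr 𝒜 (e - (p : ℤ × M).1) (c p), pr_mem 𝒜 _ _⟩, Subtype.ext ?_⟩
  rw [LinearMap.lsum_apply, LinearMap.sum_apply, AddSubmonoidClass.coe_finsetSum]
  show ∑ p : T, pr 𝒜 (e - (p : ℤ × M).1) (c p) • (p : ℤ × M).2 = (v : M)
  rw [← pr_of_mem ℳ v.2, ← hc, map_sum]
  exact Finset.sum_congr rfl fun p _ => (pr_smul_left 𝒜 ℳ (hT p) e (c p)).symm

include hf hdg hpos ha hin in
theorem finite_hcomp_zero {M : Type u} [AddCommGroup M] [Module R M] [Module.Finite R M] {τ : Type u} [SetLike τ M] [AddSubgroupClass τ M] {ℳ : ℤ → τ}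
    [DirectSum.Decomposition ℳ] [SetLike.GradedSMul 𝒜 ℳ] [IsNoetherianRing (GrLC.deg0 𝒜)]
    (E : GrLC.StarInjRes 𝒜 ℳ) (e : ℤ) : Module.Finite (GrLC.deg0 𝒜) (E.Hcomp a 0 e) := by
  haveI := finite_comp_mod a hf hdg hpos ha hin ℳ e
  let P : Submodule (GrLC.deg0 𝒜) (GrLC.comp 𝒜 ℳ e) :=
    { carrier := {v | (v : M) ∈ GrLC.gam a.toIdeal M}
      zero_mem' := (GrLC.gam a.toIdeal M).zero_mem
      add_mem' := fun hx hy => (GrLC.gam a.toIdeal M).add_mem hx hy
      smul_mem' := fun c x hx => (GrLC.gam a.toIdeal M).smul_mem (c : R) hx }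
  let T : P →ₗ[GrLC.deg0 𝒜] E.Hcomp a 0 e :=
    { toFun := fun v => ⟨E.toH a 0 ⟨E.ε v.1.1, map_mem_gam _ v.2, d_ε E _⟩, _, E.ε_grHom e _ v.1.2, rfl⟩
      map_add' := fun v w => Subtype.ext (((congrArg (E.toH a 0) (Subtype.ext (map_add E.ε _ _)))).trans (map_add _ _ _))
      map_smul' := fun c v => Subtype.ext (((congrArg (E.toH a 0) (Subtype.ext (map_smul E.ε (c : R) _)))).trans (map_smul _ (c : R) _)) }
  haveI : Module.Finite (GrLC.deg0 𝒜) P := ⟨(Submodule.fg_top _).2 (IsNoetherian.noetherian P)⟩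
  refine Module.Finite.of_surjective T fun y => ?_
  obtain ⟨z, hz, hzy⟩ := y.2
  obtain ⟨w, hw, hwz⟩ := exists_preimage ℳ (E.X 0).gr E.ε_grHom hz (by rw [← E.exact_zero]; exact z.2.2)
  refine ⟨⟨⟨w, hw⟩, mem_gam_of_injective E.ε_injective (hwz ▸ z.2.1)⟩, Subtype.ext ?_⟩
  exact (congrArg (E.toH a 0) (Subtype.ext hwz)).trans hzy

include hf hdg hpos ha hin in
theorem finite_hcomp [IsNoetherianRing R] [IsNoetherianRing (GrLC.deg0 𝒜)] : ∀ (I : Ideal R) (M : GrLC.GMod.{u} 𝒜)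
    [Module.Finite R M.carrier], Module.annihilator R M.carrier = I → ∀ (E : GrLC.StarInjRes 𝒜 M.gr) (i : ℕ) (e : ℤ),
    Module.Finite (GrLC.deg0 𝒜) (E.Hcomp a i e) := by
  have hneg : ∀ e : ℤ, e < 0 → ∀ r ∈ 𝒜 e, r = 0 := hpos
  intro I
  induction I using IsNoetherian.induction with
  | hgt I ih =>
    intro M _ hI E i e
    cases i with
    | zero => exact finite_hcomp_zero a hf hdg hpos ha hin E e
    | succ i =>
    let K := GrLC.gam a.toIdeal M.carrier
    have hK : Homog M.gr K := homog_gam 𝒜 a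
    let T := subObj 𝒜 M.gr K hK
    let Q := quotObj 𝒜 M.gr K hK
    let ιT : T.carrier →ₗ[R] M.carrier := K.subtype
    let πQ : M.carrier →ₗ[R] Q.carrier := K.mkQ
    have hs : IsSES T.gr M.gr Q.gr ιT πQ :=
      ⟨Submodule.injective_subtype _, Submodule.mkQ_surjective _, (Submodule.range_subtype _).trans (Submodule.ker_mkQ _).symm,
        subtype_grHom M.gr K, mkQ_grHom M.gr K⟩
    obtain ⟨ET⟩ := nonempty_starInjRes 𝒜 T.gr
    obtain ⟨EQ⟩ := nonempty_starInjRes 𝒜 Q.gr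
    have hTt : GrLC.gam a.toIdeal T.carrier = ⊤ := eq_top_iff.2 fun x _ =>
      mem_gam_of_injective (f := ιT) (Submodule.injective_subtype _) x.2
    haveI : Module.Finite R Q.carrier := inferInstanceAs (Module.Finite R (M.carrier ⧸ K))
    suffices hQ : ∀ e, Module.Finite (GrLC.deg0 𝒜) (EQ.Hcomp a (i + 1) e) by
      obtain ⟨φ⟩ := exists_rmap ET E ιT hs.grf
      obtain ⟨r, hr, hrj⟩ := exists_retraction φ hs.inj
      let EC := coneRes φ r hr hrj πQ hs.surj hs.exact hs.grg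
      haveI := hQ e
      haveI : Module.Finite (GrLC.deg0 𝒜) (EC.Hcomp a (i + 1) e) := finite_hcomp_congr a EQ EC (i + 1) e
      let ψ : (E.X (i + 1)).carrier →ₗ[R] (EC.X (i + 1)).carrier :=
        LinearMap.inr R (ET.X (i + 1 + 1)).carrier (E.X (i + 1)).carrier
      have hc : ∀ z ∈ E.cocyc a (i + 1), ψ z ∈ EC.cocyc a (i + 1) := fun z hz => by
        refine ⟨map_mem_gam ψ hz.1, ?_⟩
        show dW φ (i + 1) (0, z) = 0
        rw [dW_apply, map_zero, map_zero, neg_zero, add_zero, show E.d (i + 1) z = 0 from hz.2]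
        rfl
      have hb : ∀ z ∈ E.cobdy a (i + 1), ψ z ∈ EC.cobdy a (i + 1) := by
        rintro _ ⟨w, hw, rfl⟩
        have hd : dW φ i (0, w) = (0, E.d i w) := by rw [dW_apply, map_zero, map_zero, neg_zero, add_zero]
        cases i with
        | zero =>
          refine ⟨prY0 φ r hr hrj (0, w), map_mem_gam _ (mem_gam_prod a (Submodule.zero_mem _) hw), ?_⟩
          show dW φ 0 (incY0 r hr (prY0 φ r hr hrj (0, w))) = (0, E.d 0 w)
          rw [incY0_prY0, map_sub, dW_jW, sub_zero, hd]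
        | succ i => exact ⟨(0, w), mem_gam_prod a (Submodule.zero_mem _) hw, hd⟩
      refine finite_of_ker_range (hmap a E EC ψ hc hb fun z hz => ⟨zero_mem _, hz⟩) ?_
      rw [show LinearMap.ker (hmap a E EC ψ hc hb (e := e) (e' := e) fun z hz => ⟨zero_mem _, hz⟩) = ⊥ from ?_]
      · exact Submodule.fg_bot
      refine LinearMap.ker_eq_bot'.2 fun y hy => ?_
      obtain ⟨z, hz, hzy⟩ := y.2
      have h0 : E.toH a (i + 1) z = 0 := by
        have h1 : EC.toH a (i + 1) ⟨ψ z, hc z z.2⟩ = 0 := by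
          rw [← hmapH_toH a E EC ψ hc hb, hzy]
          exact congrArg Subtype.val hy
        refine (Submodule.Quotient.mk_eq_zero _).2 (show (z : (E.X (i + 1)).carrier) ∈ E.cobdy a (i + 1) from ?_)
        have h2 := (Submodule.Quotient.mk_eq_zero _).1 h1
        obtain ⟨w, hw, hwg, hwd⟩ := exists_of_mem_cobdy EC a (show ψ z ∈ EC.cobdy a (i + 1) from h2)
          (show ψ (z : (E.X (i + 1)).carrier) ∈ (EC.X (i + 1)).gr e from ⟨zero_mem _, hz⟩)
        obtain ⟨p, q, hp, hpg, hqg, hpq⟩ : ∃ p q, p ∈ (ET.X (i + 1)).gr e ∧ p ∈ GrLC.gam a.toIdeal (ET.X (i + 1)).carrier ∧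
            q ∈ GrLC.gam a.toIdeal (E.X i).carrier ∧ dW φ i (p, q) = (0, (z : (E.X (i + 1)).carrier)) :=
          ⟨(toW r hr i w).1, (toW r hr i w).2, (toW_grHom r hr i e w hw).1,
            map_mem_gam (LinearMap.fst R _ _) (map_mem_gam (toW r hr i) hwg),
            map_mem_gam (LinearMap.snd R _ _) (map_mem_gam (toW r hr i) hwg), (dW_toW φ r hr i w).trans hwd⟩
        rw [dW_apply] at hpq
        have hpd : ET.d (i + 1) p = 0 := neg_eq_zero.1 (congrArg Prod.fst hpq)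
        obtain ⟨p', hp', rfl⟩ := van_succ_of_gam_eq_top ET a hTt i e p hp ⟨hpg, hpd⟩
        refine ⟨q + φ.φ i p', Submodule.add_mem _ hqg (map_mem_gam _ hp'), ?_⟩
        rw [map_add, ← φ.comm]
        exact congrArg Prod.snd hpq
      exact Subtype.ext (hzy.symm.trans h0)
    rcases subsingleton_or_nontrivial (M.carrier ⧸ K) with hQ | hQ
    · intro e
      have hv : ∀ g, Van EQ a (i + 1) g := fun g => van_succ_of_gam_eq_top EQ a (eq_top_iff.2 fun q _ => by
        rw [show q = 0 from @Subsingleton.elim _ hQ q 0]; exact Submodule.zero_mem _) i g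
      rw [(hcomp_eq_bot_iff EQ a (i + 1) e).2 (hv e)]
      exact inferInstance
    have hne : 0 < s := by
      rcases Nat.eq_zero_or_pos s with rfl | h
      · exfalso
        obtain ⟨q, hq⟩ := exists_ne (0 : M.carrier ⧸ K)
        refine hq (gam_quot_gam a.toIdeal ⟨1, fun r hr => ?_⟩)
        rw [pow_one, ha, Set.range_eq_empty, Ideal.span_empty, Ideal.mem_bot] at hr
        rw [hr, zero_smul]
      · exact h
    have hfin := associatedPrimes.finite R (M.carrier ⧸ K)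
    obtain ⟨m, x, hm, hx, hxa, hnot⟩ := exists_homog_notMem_gen a.toIdeal hf ha hdg hne _ hfin.toFinset rfl (fun p hp => by
      have hp' : IsAssociatedPrime p (M.carrier ⧸ K) := hfin.mem_toFinset.1 hp
      refine ⟨hp'.isPrime, fun hle => ?_⟩
      obtain ⟨hpr, y, hy⟩ := isAssociatedPrime_iff.1 hp'
      have : y = 0 := gam_quot_gam a.toIdeal ⟨1, fun r hr => by
        rw [pow_one] at hr
        have := hle hr
        rw [hy] at this
        simpa using this⟩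
      refine hpr.ne_top ((Ideal.eq_top_iff_one p).2 ?_)
      rw [hy, this]
      simp)
    have hreg : IsSMulRegular (M.carrier ⧸ K) x := IsSMulRegular.of_right_eq_zero_of_smul fun y hy => by
      by_contra hy0
      have : x ∈ ⋃ p ∈ associatedPrimes R (M.carrier ⧸ K), (p : Set R) := by
        rw [biUnion_associatedPrimes_eq_zero_divisors]
        exact ⟨y, hy0, hy⟩
      obtain ⟨p, hp, hxp⟩ := Set.mem_iUnion₂.1 this
      exact hnot p (hfin.mem_toFinset.2 hp) hxp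
    let μ : Q.carrier →ₗ[R] Q.carrier := x • LinearMap.id
    letI := shiftDec Q.gr (-(m : ℤ))
    have hμ : GrLC.IsGrHom (shiftPiece Q.gr (-(m : ℤ))) Q.gr μ := fun g y hy => by
      have h1 := smul_mem 𝒜 Q.gr hx (mem_shiftPiece.1 hy)
      rwa [show (m : ℤ) + (g + -(m : ℤ)) = g by ring] at h1
    have hL : Homog Q.gr (LinearMap.range μ) := homog_range (shiftPiece Q.gr (-(m : ℤ))) Q.gr hμ
    let L := quotObj 𝒜 Q.gr (LinearMap.range μ) hL
    let πL : Q.carrier →ₗ[R] L.carrier := (LinearMap.range μ).mkQ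
    have hs' : IsSES (shiftPiece Q.gr (-(m : ℤ))) Q.gr L.gr μ πL :=
      ⟨fun _ _ h => hreg h, Submodule.mkQ_surjective _, (Submodule.ker_mkQ _).symm, hμ, mkQ_grHom Q.gr _⟩
    haveI : Module.Finite R L.carrier := inferInstanceAs (Module.Finite R (Q.carrier ⧸ LinearMap.range μ))
    have hlt : I < Module.annihilator R L.carrier := by
      rw [← hI]
      refine lt_of_le_of_lt (LinearMap.annihilator_le_of_surjective πQ (Submodule.mkQ_surjective _))
        (lt_of_le_of_ne (LinearMap.annihilator_le_of_surjective πL (Submodule.mkQ_surjective _)) fun he => ?_)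
      have hx' : x ∈ Module.annihilator R L.carrier := Module.mem_annihilator.2 fun q => by
        obtain ⟨y, rfl⟩ := Submodule.mkQ_surjective (LinearMap.range μ) q
        exact (map_smul πL x y).symm.trans ((Submodule.Quotient.mk_eq_zero (LinearMap.range μ)).2 ⟨y, rfl⟩)
      rw [← he] at hx'
      obtain ⟨q, hq⟩ := exists_ne (0 : M.carrier ⧸ K)
      exact hq (hreg ((Module.mem_annihilator.1 hx' q).trans (smul_zero x).symm))
    let φ : RMap (shiftRes EQ (-(m : ℤ))) EQ μ :=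
      { φ := fun i => x • (LinearMap.id : (EQ.X i).carrier →ₗ[R] (EQ.X i).carrier)
        gr := fun i g y hy => by
          have h1 := smul_mem 𝒜 (EQ.X i).gr hx (show y ∈ (EQ.X i).gr (g + -(m : ℤ)) from hy)
          rwa [show (m : ℤ) + (g + -(m : ℤ)) = g by ring] at h1
        ε := fun y => (map_smul EQ.ε x y).symm
        comm := fun i y => (map_smul (EQ.d i) x y).symm }
    obtain ⟨r, hr, hrj⟩ := exists_retraction φ hs'.inj
    let EC := coneRes φ r hr hrj πL hs'.surj hs'.exact hs'.grg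
    have hEC : ∀ e, Module.Finite (GrLC.deg0 𝒜) (EC.Hcomp a i e) := ih _ hlt L rfl EC i
    obtain ⟨r₀, hr₀⟩ := exists_van_high hf hdg a ha hin hneg _ Q rfl EQ
    suffices key : ∀ (k : ℕ) (e : ℤ), r₀ - e ≤ k → Module.Finite (GrLC.deg0 𝒜) (EQ.Hcomp a (i + 1) e) from
      fun e => key (r₀ - e).toNat e (by omega)
    intro k
    induction k with
    | zero =>
      intro e he
      rw [(hcomp_eq_bot_iff EQ a (i + 1) e).2 (hr₀ _ e (by omega))]
      exact inferInstance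
    | succ k ihk =>
      intro e he
      haveI := ihk (e + m) (by omega)
      let ψ : (EQ.X (i + 1)).carrier →ₗ[R] (EQ.X (i + 1)).carrier := x • LinearMap.id
      have hg : ∀ z ∈ (EQ.X (i + 1)).gr e, ψ z ∈ (EQ.X (i + 1)).gr (e + m) := fun z hz => by
        rw [add_comm e]
        exact smul_mem 𝒜 (EQ.X (i + 1)).gr hx hz
      let F := hmap a EQ EQ ψ (fun z hz => Submodule.smul_mem _ x hz) (fun z hz => Submodule.smul_mem _ x hz) hg
      refine finite_of_ker_range F ?_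
      haveI := hEC (e + m)
      let δ : (EC.X i).carrier →ₗ[R] (EQ.X (i + 1)).carrier := fstW r hr i
      have hδc : ∀ z ∈ EC.cocyc a i, δ z ∈ EQ.cocyc a (i + 1) := fun z hz =>
        ⟨map_mem_gam δ hz.1, d_fstW_eq_zero φ r hr i z hz.2⟩
      have hδb : ∀ z ∈ EC.cobdy a i, δ z ∈ EQ.cobdy a (i + 1) := by
        intro z hz
        cases i with
        | zero => rw [(Submodule.mem_bot R).1 hz, map_zero]; exact Submodule.zero_mem _
        | succ i =>
          obtain ⟨w, hw, rfl⟩ := hz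
          exact ⟨-(fstW r hr i w), Submodule.neg_mem _ (map_mem_gam (fstW r hr i) hw), (fstW_diff φ r hr i w).symm⟩
      have hδg : ∀ z ∈ (EC.X i).gr (e + m), δ z ∈ (EQ.X (i + 1)).gr e := by
        intro z hz
        have h1 : δ z ∈ (EQ.X (i + 1)).gr (e + m + -(m : ℤ)) := (toW_grHom r hr i _ z hz).1
        rwa [add_neg_cancel_right] at h1
      let D := hmap a EC EQ δ hδc hδb hδg
      refine Submodule.FG.of_le (Module.Finite.fg_top.map D) ?_
      rintro y hy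
      obtain ⟨z, hz, hzy⟩ := y.2
      have h1 : EQ.toH a (i + 1) ⟨ψ z, Submodule.smul_mem _ x z.2⟩ = 0 := by
        rw [← hmapH_toH a EQ EQ ψ (fun z hz => Submodule.smul_mem _ x hz) (fun z hz => Submodule.smul_mem _ x hz) z, hzy]
        exact congrArg Subtype.val (LinearMap.mem_ker.1 hy)
      obtain ⟨w, hw, hwg, hwd⟩ := exists_of_mem_cobdy EQ a ((Submodule.Quotient.mk_eq_zero ((EQ.cobdy a (i + 1)).comap (EQ.cocyc a (i + 1)).subtype)).1 h1) (hg z hz)
      let X : (W (shiftRes EQ (-(m : ℤ))) EQ i).carrier := ((z : (EQ.X (i + 1)).carrier), -w)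
      have hX : dW φ i X = 0 := by
        rw [dW_apply]
        refine Prod.ext (neg_eq_zero.2 z.2.2) ?_
        show EQ.d i (-w) + x • (z : (EQ.X (i + 1)).carrier) = 0
        rw [map_neg, hwd]
        exact neg_add_cancel _
      have hXg : X ∈ (W (shiftRes EQ (-(m : ℤ))) EQ i).gr (e + m) :=
        ⟨show (z : (EQ.X (i + 1)).carrier) ∈ (EQ.X (i + 1)).gr (e + m + -(m : ℤ)) by rwa [add_neg_cancel_right], ((EQ.X i).gr (e + m)).neg_mem hw⟩
      have hXt : X ∈ GrLC.gam a.toIdeal (W (shiftRes EQ (-(m : ℤ))) EQ i).carrier :=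
        mem_gam_prod a z.2.1 (Submodule.neg_mem _ hwg)
      obtain ⟨v, hv, hvz⟩ : ∃ v : EC.cocyc a i, (v : (EC.X i).carrier) ∈ (EC.X i).gr (e + m) ∧
          δ v - (z : (EQ.X (i + 1)).carrier) ∈ EQ.cobdy a (i + 1) := by
        cases i with
        | zero =>
          refine ⟨⟨prY0 φ r hr hrj X, map_mem_gam _ hXt, ?_⟩, prY0_grHom φ r hr hrj _ X hXg, ?_⟩
          · show dW φ 0 (incY0 r hr (prY0 φ r hr hrj X)) = 0
            rw [incY0_prY0, map_sub, dW_jW, hX, sub_zero]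
          · refine ⟨r X, map_mem_gam r hXt, ?_⟩
            have h5 := congrArg Prod.fst (incY0_prY0 φ r hr hrj X)
            refine (Eq.trans ?_ (congrArg (fun t : (EQ.X (0 + 1)).carrier => t - (z : (EQ.X (0 + 1)).carrier)) h5).symm)
            exact (show EQ.d 0 (r X) = (z : (EQ.X (0 + 1)).carrier) - (-(EQ.d 0 (r X))) - (z : (EQ.X (0 + 1)).carrier) by abel)
        | succ i =>
          exact ⟨⟨X, hXt, hX⟩, hXg, by
            rw [show δ X = (z : (EQ.X (i + 1 + 1)).carrier) from rfl, sub_self]; exact Submodule.zero_mem _⟩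
      refine ⟨⟨EC.toH a i v, v, hv, rfl⟩, trivial, Subtype.ext ?_⟩
      refine (hmapH_toH a EC EQ δ hδc hδb v).trans (Eq.trans ?_ hzy)
      exact (toH_eq_iff a EQ _ _).2 hvz

end Groth.Agent.SegreLC.FP
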