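import Mathlib

/-!
Independence over a polynomial ring along a weakly regular sequence.
-/

set_option autoImplicit false
set_option linter.unusedSectionVars false
universe u

open scoped Classical Pointwise
open RingTheory.Sequence

noncomputable section

namespace Groth.Agent.SegreLC

variable {k : Type u} [Field k] {R : Type u} [CommRing R] [Algebra k R]

/-- Evaluation after separating the first variable. -/
lemma aeval_finSuccEquiv {n : ℕ} (f : Fin (n + 1) → R) (G : MvPolynomial (Fin (n + 1)) k) :
    MvPolynomial.aeval f G =
      Polynomial.eval₂ (MvPolynomial.aeval (fun i : Fin n => f i.succ)).toRingHom (f 0)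
        (MvPolynomial.finSuccEquiv k n G) := by
  induction G using MvPolynomial.induction_on with
  | C a => simp [MvPolynomial.finSuccEquiv_apply]
  | add p q hp hq => rw [map_add, map_add, Polynomial.eval₂_add, hp, hq]
  | mul_X p i hp =>
    rw [map_mul, map_mul, Polynomial.eval₂_mul, ← hp, MvPolynomial.aeval_X]
    congr 1
    cases i using Fin.cases with
    | zero => rw [MvPolynomial.finSuccEquiv_X_zero, Polynomial.eval₂_X]
    | succ j => simp [MvPolynomial.finSuccEquiv_X_succ]

/-- Elements independent modulo a weakly regular sequence are independent over the polynomials in it. -/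
theorem eq_zero_of_aeval_sum : ∀ (n : ℕ) (f : Fin n → R) (M : Type u) [AddCommGroup M] [Module R M] [Module k M]
    [IsScalarTower k R M], IsWeaklyRegular M (List.ofFn f) → ∀ {ι : Type u} [Fintype ι] (e : ι → M),
    (∀ c : ι → k, ∑ j, c j • e j ∈ Ideal.ofList (List.ofFn f) • (⊤ : Submodule R M) → c = 0) →
    ∀ F : ι → MvPolynomial (Fin n) k, ∑ j, MvPolynomial.aeval f (F j) • e j = 0 → F = 0
  | 0, f, M, _, _, _, _, _, ι, _, e, hli, F, hF => by
    choose c hc using fun j => MvPolynomial.C_surjective (Fin 0) (R := k) (F j)
    have hc0 : c = 0 := hli c (by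
      rw [Finset.sum_congr rfl fun j _ => show c j • e j = MvPolynomial.aeval f (F j) • e j from by
        rw [← hc j, MvPolynomial.aeval_C, algebraMap_smul], hF]
      exact zero_mem _)
    funext j
    rw [← hc j, hc0, Pi.zero_apply, map_zero, Pi.zero_apply]
  | n + 1, f, M, _, _, _, _, hreg, ι, _, e, hli, F, hF => by
    rw [List.ofFn_succ, isWeaklyRegular_cons_iff] at hreg
    obtain ⟨h0, hreg'⟩ := hreg
    let M' := QuotSMulTop (f 0) M
    let π : M →ₗ[R] M' := Submodule.mkQ _
    have hπ : ∀ (c : k) (x : M), π (c • x) = c • π x := fun c x => rfl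
    have hli' : ∀ c : ι → k, ∑ j, c j • π (e j) ∈
        Ideal.ofList (List.ofFn fun i : Fin n => f i.succ) • (⊤ : Submodule R M') → c = 0 := by
      intro c hc
      refine hli c ?_
      rw [show (⊤ : Submodule R M') = Submodule.map π ⊤ by rw [Submodule.map_top]; exact (Submodule.range_mkQ _).symm,
        ← Submodule.map_smul'', ← Finset.sum_congr rfl fun j _ => hπ (c j) (e j), ← map_sum] at hc
      obtain ⟨y, hy, hye⟩ := hc
      have hd : ∑ j, c j • e j - y ∈ f 0 • (⊤ : Submodule R M) :=
        (Submodule.Quotient.eq _).1 hye.symm
      rw [List.ofFn_succ, Ideal.ofList_cons, Submodule.sup_smul, Submodule.ideal_span_singleton_smul]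
      exact sub_add_cancel (∑ j, c j • e j) y ▸
        add_mem (Submodule.mem_sup_left hd) (Submodule.mem_sup_right hy)
    have IH := eq_zero_of_aeval_sum n (fun i => f i.succ) M' hreg' (fun j => π (e j)) hli'
    let φ := (MvPolynomial.aeval (R := k) fun i : Fin n => f i.succ).toRingHom
    have key : ∀ (N : ℕ) (p : ι → Polynomial (MvPolynomial (Fin n) k)), (∀ j, (p j).natDegree ≤ N) →
        ∑ j, (p j).eval₂ φ (f 0) • e j = 0 → p = 0 := by
      intro N
      induction N using Nat.strong_induction_on with
      | _ N ih =>
        intro p hp hsum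
        have hsplit : ∀ j, (p j).eval₂ φ (f 0) = f 0 * ((p j).divX.eval₂ φ (f 0)) + φ ((p j).coeff 0) := fun j => by
          conv_lhs => rw [← Polynomial.X_mul_divX_add (p j)]
          rw [Polynomial.eval₂_add, Polynomial.eval₂_mul, Polynomial.eval₂_X, Polynomial.eval₂_C]
        simp only [hsplit, add_smul, mul_smul, Finset.sum_add_distrib, ← Finset.smul_sum] at hsum
        have hc0 : (fun j => (p j).coeff 0) = 0 := IH _ (by
          have h2 := congrArg π hsum
          rw [map_add, map_zero, map_smul,
            show f 0 • π (∑ j, (p j).divX.eval₂ φ (f 0) • e j) = 0 from by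
              rw [← map_smul]
              exact (Submodule.Quotient.mk_eq_zero _).2 (Submodule.smul_mem_pointwise_smul _ _ _ Submodule.mem_top),
            zero_add, map_sum] at h2
          exact (Finset.sum_congr rfl fun j _ => (map_smul π (φ ((p j).coeff 0)) (e j)).symm).trans h2)
        have hc : ∀ j, (p j).coeff 0 = 0 := fun j => congrFun hc0 j
        simp only [hc, map_zero, zero_smul, Finset.sum_const_zero, add_zero] at hsum
        have hq := h0.right_eq_zero_of_smul hsum
        rcases Nat.eq_zero_or_pos N with rfl | hN
        · funext j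
          rw [Polynomial.eq_C_of_natDegree_le_zero (hp j), hc j, map_zero]
          rfl
        · have hd := ih (N - 1) (by omega) (fun j => (p j).divX) (fun j => by
            rw [Polynomial.natDegree_divX_eq_natDegree_tsub_one]
            have := hp j
            omega) hq
          funext j
          rw [← Polynomial.X_mul_divX_add (p j), hc j, map_zero, add_zero,
            show (p j).divX = 0 from congrFun hd j, mul_zero]
          rfl
    have hp := key (Finset.univ.sup fun j => (MvPolynomial.finSuccEquiv k n (F j)).natDegree)
      (fun j => MvPolynomial.finSuccEquiv k n (F j))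
      (fun j => Finset.le_sup (f := fun j => (MvPolynomial.finSuccEquiv k n (F j)).natDegree) (Finset.mem_univ j)) (by
        rw [← hF]
        exact Finset.sum_congr rfl fun j _ => by rw [aeval_finSuccEquiv])
    funext j
    exact (MvPolynomial.finSuccEquiv k n).injective ((congrFun hp j).trans (map_zero _).symm)

end Groth.Agent.SegreLC
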