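import Groth.Agent.SegreLC.CanonOfPairing
import Groth.Agent.GrLCLib.ToAdd
import Groth.Agent.GrLCHull.Hull
import Groth.Agent.GrGor.Irr
import Groth.Agent.GrLCLib.Hilbert
import Groth.Agent.S13244
import Groth.Agent.S18638

/-!
The Gorenstein property of a graded algebra, through its *canonical module.
-/

set_option autoImplicit false
set_option linter.unusedSectionVars false
set_option linter.style.haveILetI false
set_option backward.isDefEq.respectTransparency false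
set_option backward.isDefEq.respectTransparency.types false
universe u

open scoped Classical
open DirectSum Groth.Agent.GrLCLib

noncomputable section

namespace Groth.Agent.SegreLC

section Generic

variable {R : Type u} [CommRing R] {σ : Type u} [SetLike σ R] [AddSubgroupClass σ R] {𝒜 : ℤ → σ} [GradedRing 𝒜]

lemma isStarInj_of_addGr {M : Type u} [AddCommGroup M] [Module R M] {τ : Type u} [SetLike τ M] [AddSubgroupClass τ M]
    {ℳ : ℤ → τ} [DirectSum.Decomposition ℳ] [SetLike.GradedSMul 𝒜 ℳ] (h : GrLC.IsStarInj (addGr 𝒜) ℳ) :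
    GrLC.IsStarInj 𝒜 ℳ := fun A B f hf hinj g hg => h (objAdd 𝒜 A) (objAdd 𝒜 B) f hf hinj g hg

/-- A *injective hull of the residue field, for both presentations of the grading. -/
theorem exists_hull_both (m : HomogeneousIdeal 𝒜) :
    ∃ (E : GrLC.GMod.{u} 𝒜) (e : (R ⧸ m.toIdeal) →ₗ[R] E.carrier),
      GrLC.IsStarInjHull 𝒜 (GrLC.quotGr 𝒜 m) E.gr e ∧
        GrLC.IsStarInjHull (addGr 𝒜) (GrLC.quotGr (addGr 𝒜) (idealAdd 𝒜 m)) E.gr e := by
  let m' := idealAdd 𝒜 m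
  letI decQ : DirectSum.Decomposition (GrLC.quotGr (addGr 𝒜) m') :=
    Groth.Agent.GrLCLib.quotDec (addGr 𝒜) m'.toIdeal (fun x hx g => m'.isHomogeneous g hx)
  haveI : SetLike.GradedSMul (addGr 𝒜) (GrLC.quotGr (addGr 𝒜) m') := ⟨fun {a b r x} hr hx => by
    obtain ⟨z, hz, rfl⟩ := hx
    exact ⟨r * z, SetLike.mul_mem_graded hr hz, map_mul (Ideal.Quotient.mk m'.toIdeal) r z⟩⟩
  obtain ⟨Y, e, he⟩ := Groth.Agent.GrLCHull.exists_hull (addGr 𝒜) (GrLC.quotGr (addGr 𝒜) m')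
  refine ⟨objOfAdd 𝒜 Y, e, ?_, he⟩
  exact { injective := he.injective, grHom := fun g x hx => he.grHom g x hx, essential := he.essential,
          starInj := isStarInj_of_addGr (𝒜 := 𝒜) he.starInj }

variable {C : Type u} [AddCommGroup C] [Module R C] {𝒞 : ℤ → AddSubgroup C} [DirectSum.Decomposition 𝒞]
  [SetLike.GradedSMul 𝒜 𝒞] {E' : Type u} [AddCommGroup E'] [Module R E'] {𝓔 : ℤ → AddSubgroup E'}
  [DirectSum.Decomposition 𝓔] [SetLike.GradedSMul 𝒜 𝓔] {m : HomogeneousIdeal 𝒜} {n : ℕ}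
  {I : GrLC.StarInjRes 𝒜 𝒜}

theorem isStarCanonical_addGr (h : GrLC.IsStarCanonical 𝒜 𝒞 𝓔 m n I) :
    GrLC.IsStarCanonical (addGr 𝒜) 𝒞 𝓔 (idealAdd 𝒜 m) n (resSelfAdd 𝒜 I) := by
  obtain ⟨hfin, φ, hφ⟩ := h
  exact ⟨hfin, φ, fun d f hf => hφ d f hf⟩

end Generic

variable {k : Type u} [Field k] {R : Type u} [CommRing R] [Algebra k R] {𝒜 : ℤ → Submodule k R} [GradedAlgebra 𝒜]
  (hpos : ∀ n : ℤ, n < 0 → 𝒜 n = ⊥) (h0 : 𝒜 0 = Submodule.span k {(1 : R)})
  (mR : HomogeneousIdeal 𝒜) (hmR : mR.toIdeal = posIdeal 𝒜)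

include hpos in
lemma hpos_addGr : ∀ n : ℤ, n < 0 → addGr 𝒜 n = ⊥ := fun n hn =>
  (AddSubgroup.eq_bot_iff_forall _).2 fun x hx => eq_zero_of_neg hpos n hn x hx

include h0 in
lemma isField_deg0_addGr [Nontrivial R] : IsField (GrLC.deg0 (addGr 𝒜)) := by
  have hF : IsField (GrLC.deg0 𝒜) := (deg0Equiv h0).symm.toMulEquiv.isField (Field.toIsField k)
  let e : GrLC.deg0 (addGr 𝒜) ≃+* GrLC.deg0 𝒜 :=
    { toFun := fun x => ⟨x.1, x.2⟩
      invFun := fun x => ⟨x.1, x.2⟩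
      map_mul' := fun _ _ => rfl
      map_add' := fun _ _ => rfl }
  exact e.toMulEquiv.isField hF

include hpos h0 hmR in
lemma isStarLocal_idealAdd_pos [Nontrivial R] : GrLC.IsStarLocal (addGr 𝒜) (idealAdd 𝒜 mR) := by
  have h := GrLCLib.isStarLocal_irr (isField_deg0_addGr h0) (hpos_addGr hpos)
  rwa [show idealAdd 𝒜 mR = irr (addGr 𝒜) from HomogeneousIdeal.ext hmR]

include hpos h0 hmR in
lemma height_posIdeal [Algebra.FiniteType k R] [Nontrivial R] {r : ℕ} (hr : ringKrullDim R = r) :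
    (idealAdd 𝒜 mR).toIdeal.height = r := by
  haveI : IsNoetherianRing R := Algebra.FiniteType.isNoetherianRing k R
  exact WithBot.coe_inj.1 ((GrLCLib.ringKrullDim_eq_height (hpos_addGr hpos)
    (isStarLocal_idealAdd_pos hpos h0 mR hmR)).symm.trans hr)

include hpos h0 hmR in
/-- A Gorenstein graded algebra is, up to a shift, its own *canonical module. -/
theorem exists_shift_canonical [Algebra.FiniteType k R] [Nontrivial R] [LocCoh.IsGorensteinRing R] {r : ℕ}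
    (hr : ringKrullDim R = r) (I : GrLC.StarInjRes 𝒜 𝒜) :
    ∃ (a : ℤ) (E : GrLC.GMod.{u} 𝒜) (e : (R ⧸ mR.toIdeal) →ₗ[R] E.carrier),
      GrLC.IsStarInjHull 𝒜 (GrLC.quotGr 𝒜 mR) E.gr e ∧
      letI := shiftDec 𝒜 a
      GrLC.IsStarCanonical 𝒜 (shiftPiece 𝒜 a) E.gr mR r I := by
  obtain ⟨E, e, he, he'⟩ := exists_hull_both mR
  obtain ⟨δ, φ, hφ⟩ := S13244.result R (addGr 𝒜) (idealAdd 𝒜 mR) (isStarLocal_idealAdd_pos hpos h0 mR hmR) r
    (height_posIdeal hpos h0 mR hmR hr) (resSelfAdd 𝒜 I) E.carrier E.gr e he'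
  refine ⟨-δ, E, e, he, inferInstanceAs (Module.Finite R R),
    (LinearMap.ringLmapEquivSelf R R E.carrier).trans φ.symm, fun d f hf => ?_⟩
  show φ.symm (f 1) ∈ I.Hgr mR r d
  have h1 : f 1 ∈ E.gr (d + δ) := by
    have h := hf δ (1 : R) (show (1 : R) ∈ 𝒜 (δ + -δ) by rw [add_neg_cancel]; exact SetLike.one_mem_graded 𝒜)
    rwa [add_comm] at h
  letI := (isInternal_Hgr (resSelfAdd 𝒜 I) (idealAdd 𝒜 mR) r).chooseDecomposition
  letI := shiftDec E.gr δ
  obtain ⟨x, hx, hxy⟩ := GrLCLib.exists_preimage ((resSelfAdd 𝒜 I).Hgr (idealAdd 𝒜 mR) r) (shiftPiece E.gr δ)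
    (f := φ.toLinearMap) (fun g x hx => hφ g x hx) (g := d) (y := f 1) h1
    (LinearMap.range_eq_top.2 φ.surjective ▸ Submodule.mem_top)
  rw [(LinearEquiv.symm_apply_eq φ).2 hxy.symm]
  exact hx

include hpos h0 hmR in
/-- A Cohen–Macaulay graded algebra that is, up to a shift, its own *canonical module is Gorenstein. -/
theorem isGorenstein_of_shift_canonical [Algebra.FiniteType k R] [Nontrivial R] [LocCoh.IsCohenMacaulayRing R] {r : ℕ}
    (hr : ringKrullDim R = r) (I : GrLC.StarInjRes 𝒜 𝒜) {E : GrLC.GMod.{u} 𝒜}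
    {e : (R ⧸ mR.toIdeal) →ₗ[R] E.carrier}
    (he' : GrLC.IsStarInjHull (addGr 𝒜) (GrLC.quotGr (addGr 𝒜) (idealAdd 𝒜 mR)) E.gr e) (a : ℤ)
    (hC : letI := shiftDec 𝒜 a; GrLC.IsStarCanonical 𝒜 (shiftPiece 𝒜 a) E.gr mR r I) :
    LocCoh.IsGorensteinRing R := by
  letI := shiftDec 𝒜 a
  refine (S18638.result R (addGr 𝒜) (hpos_addGr hpos) (isField_deg0_addGr h0) (idealAdd 𝒜 mR)
    (isStarLocal_idealAdd_pos hpos h0 mR hmR) hmR r hr (resSelfAdd 𝒜 I) E.carrier E.gr e he' R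
    (shiftPiece 𝒜 a) (isStarCanonical_addGr hC)).2 ⟨-a, LinearMap.id, Function.bijective_id, fun g x hx => ?_⟩
  show x ∈ addGr 𝒜 (g + -a + a)
  rwa [neg_add_cancel_right]

include hpos h0 hmR in
/-- The shift is the a-invariant. -/
theorem endDeg_eq_of_shift_canonical [Algebra.FiniteType k R] [Nontrivial R] {r : ℕ} (I : GrLC.StarInjRes 𝒜 𝒜)
    {E : GrLC.GMod.{u} 𝒜} {e : (R ⧸ mR.toIdeal) →ₗ[R] E.carrier}
    (he : GrLC.IsStarInjHull 𝒜 (GrLC.quotGr 𝒜 mR) E.gr e) (a : ℤ)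
    (hC : letI := shiftDec 𝒜 a; GrLC.IsStarCanonical 𝒜 (shiftPiece 𝒜 a) E.gr mR r I) :
    GrLC.endDeg (I.Hgr mR r) = ((a : WithTop ℤ) : WithBot (WithTop ℤ)) := by
  haveI : IsNoetherianRing R := Algebra.FiniteType.isNoetherianRing k R
  letI := shiftDec 𝒜 a
  have hF : IsField (GrLC.deg0 𝒜) := (deg0Equiv h0).symm.toMulEquiv.isField (Field.toIsField k)
  obtain ⟨β, -, hinj, hsurj⟩ := exists_pairing (eq_zero_of_neg hpos) hF (sub_pr_zero_mem_pos hpos mR hmR)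
    (hmR ▸ (posIdeal_isMaximal hpos h0).ne_top) he hC
  letI : Field (GrLC.deg0 𝒜) := hF.toField
  have hne : I.Hgr mR r a ≠ ⊥ := fun hb => by
    refine one_ne_zero (hinj (-a) (1 : R) (show (1 : R) ∈ 𝒜 (-a + a) by
      rw [neg_add_cancel]; exact SetLike.one_mem_graded 𝒜) fun h hh => ?_)
    rw [neg_neg, hb, AddSubgroup.mem_bot] at hh
    rw [hh, map_zero]
  have hzero : ∀ d, a < d → I.Hgr mR r d = ⊥ := fun d hd => by
    refine (AddSubgroup.eq_bot_iff_forall _).2 fun h hh => ?_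
    by_contra hne
    obtain ⟨L, hL⟩ := Submodule.exists_dual_map_eq_bot_of_notMem (p := (⊥ : Submodule (GrLC.deg0 𝒜) (I.H mR r)))
      (show h ∉ (⊥ : Submodule (GrLC.deg0 𝒜) (I.H mR r)) by rwa [Submodule.mem_bot]) inferInstance
    obtain ⟨x, hx, hxL⟩ := hsurj (-d) L
    have hx0 : x = 0 := eq_zero_of_neg hpos (-d + a) (by omega) x hx
    refine hL.1 ((hxL h (by rwa [neg_neg])).symm.trans ?_)
    rw [hx0, map_zero, LinearMap.zero_apply]
  refine le_antisymm (iSup₂_le fun d hd => ?_)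
    (le_iSup₂ (f := fun (n : ℤ) (_ : I.Hgr mR r n ≠ ⊥) => ((n : WithTop ℤ) : WithBot (WithTop ℤ))) a hne)
  by_contra h
  exact hd (hzero d (lt_of_not_ge fun hle => h (by exact_mod_cast hle)))

end Groth.Agent.SegreLC
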