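import Groth.Agent.SegreLC.TopDual
import Groth.Agent.SegreLC.Gor
import Groth.Agent.LocH.TopDegree
import Groth.Agent.RegPow.Basic

/-!
A Cohen–Macaulay graded algebra with a perfect pairing in low degrees is Gorenstein.
-/

set_option autoImplicit false
set_option linter.unusedSectionVars false
set_option linter.style.haveILetI false
set_option backward.isDefEq.respectTransparency false
set_option backward.isDefEq.respectTransparency.types false
set_option synthInstance.maxHeartbeats 400000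
set_option maxHeartbeats 1600000
universe u

open scoped Classical TensorProduct
open DirectSum RingTheory.Sequence Groth.Agent.GrLCLib

noncomputable section

namespace Groth.Agent.SegreLC

variable {k : Type u} [Field k] {R : Type u} [CommRing R] [Algebra k R] {𝒜 : ℤ → Submodule k R} [GradedAlgebra 𝒜]

section Extend

lemma pr_eq_zero_of_mem_pow (N : ℕ) : ∀ x ∈ posIdeal 𝒜 ^ N, ∀ m : ℤ, m < N → (∀ n : ℤ, n < 0 → 𝒜 n = ⊥) →
    pr 𝒜 m x = 0 := by
  induction N with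
  | zero => intro x _ m hm hpos; exact eq_zero_of_neg hpos m (by simpa using hm) _ (pr_mem 𝒜 m x)
  | succ N ih =>
    intro x hx m hm hpos
    rw [pow_succ] at hx
    refine Submodule.mul_induction_on hx (fun a ha b hb => ?_) fun a b ha hb => by rw [map_add, ha, hb, add_zero]
    induction hb using Submodule.span_induction generalizing a with
    | zero => rw [mul_zero, map_zero]
    | add y z _ _ hy hz => rw [mul_add, map_add, hy a ha, hz a ha, add_zero]
    | smul r y _ hy => rw [smul_eq_mul, ← mul_assoc]; exact hy _ (Ideal.mul_mem_right r _ ha)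
    | mem y hy =>
      obtain ⟨e, he, hye⟩ := Set.mem_iUnion₂.1 hy
      have he' : (0 : ℤ) < e := he
      rw [mul_comm, ← smul_eq_mul, GrLCLib.pr_smul 𝒜 𝒜 hye, ih a ha (m - e) (by push_cast at hm ⊢; omega) hpos,
        smul_zero]

/-- In depth at least two there are no homogeneous maps of negative degree from high powers of the positive ideal. -/
theorem eq_zero_of_deg_neg (hpos : ∀ n : ℤ, n < 0 → 𝒜 n = ⊥) {u v : R} (hreg : IsWeaklyRegular R [u, v]) (δ : ℕ)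
    (hδ : 0 < δ) (hu : u ∈ posIdeal 𝒜 ^ δ) (hv : v ∈ posIdeal 𝒜 ^ δ) (Φ : R →+ R)
    (hdeg : ∀ m, ∀ a ∈ 𝒜 m, Φ a ∈ 𝒜 (m - δ))
    (hlin : ∀ e m, ∀ b ∈ 𝒜 e, ∀ a ∈ 𝒜 m, (δ : ℤ) ≤ m → Φ (b * a) = b * Φ a) :
    ∀ m, ∀ a ∈ 𝒜 m, (δ : ℤ) ≤ m → Φ a = 0 := by
  have hl : ∀ x, (∀ m : ℤ, m < δ → pr 𝒜 m x = 0) → ∀ b : R, Φ (b * x) = b * Φ x := by
    intro x hx b
    induction b using DirectSum.Decomposition.inductionOn 𝒜 with
    | zero => rw [zero_mul, zero_mul, map_zero]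
    | add b b' hb hb' => rw [add_mul, map_add, hb, hb', add_mul]
    | @homogeneous e b =>
      rw [← sum_pr 𝒜 x, Finset.mul_sum, _root_.map_sum, _root_.map_sum, Finset.mul_sum]
      refine Finset.sum_congr rfl fun m _ => ?_
      rcases lt_or_ge m (δ : ℤ) with h | h
      · rw [hx m h, mul_zero, map_zero, mul_zero]
      · exact hlin e m b b.2 _ (pr_mem 𝒜 m x) h
  have hlu := hl u fun m hm => pr_eq_zero_of_mem_pow δ u hu m hm hpos
  have hlv := hl v fun m hm => pr_eq_zero_of_mem_pow δ v hv m hm hpos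
  obtain ⟨hru, hrest⟩ := (isWeaklyRegular_cons_iff R u [v]).1 hreg
  have hrv := ((isWeaklyRegular_cons_iff _ v []).1 hrest).1
  have h1 : u * Φ v = v * Φ u := by rw [← hlv, mul_comm, hlu]
  have h2 : (Submodule.Quotient.mk (Φ u) : QuotSMulTop u R) = 0 := by
    refine hrv.right_eq_zero_of_smul ?_
    rw [← Submodule.Quotient.mk_smul, Submodule.Quotient.mk_eq_zero, smul_eq_mul, ← h1]
    exact Submodule.smul_mem_pointwise_smul _ u _ Submodule.mem_top
  obtain ⟨w, -, hw⟩ := (Submodule.Quotient.mk_eq_zero _).1 h2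
  have hw' : Φ u = u * w := hw.symm
  intro m a ha hm
  have hla : Φ (u * a) = u * Φ a := hl a (fun l hl => pr_of_mem_ne 𝒜 ha (by omega)) u
  have h3 : Φ a = a • w := by
    refine hru ?_
    show u • Φ a = u • (a • w)
    rw [smul_eq_mul, smul_eq_mul, smul_eq_mul, ← hla, mul_comm u a, hlu, hw', mul_left_comm]
  rw [← pr_of_mem 𝒜 (hdeg m a ha), h3, GrLCLib.pr_smul 𝒜 𝒜 ha, sub_sub_cancel_left,
    eq_zero_of_neg hpos (-(δ : ℤ)) (by omega) _ (pr_mem 𝒜 _ w), smul_zero]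

end Extend

section Semilinear

/-- Scalar multiplication between semilinear images of vector spaces, bilinearly. -/
lemma exists_mul (X : Submodule k R) {V V' H : Type u} [AddCommGroup V] [Module k V] [AddCommGroup V'] [Module k V']
    [AddCommGroup H] [Module R H] {Ψ : V →+ H} {Ψ' : V' →+ H} (hinj : Function.Injective Ψ')
    (hΨ : ∀ (c : k) y, Ψ (c • y) = algebraMap k R c • Ψ y) (hΨ' : ∀ (c : k) y, Ψ' (c • y) = algebraMap k R c • Ψ' y)
    (hmem : ∀ x ∈ X, ∀ y, ∃ z, Ψ' z = x • Ψ y) :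
    ∃ μ : X →ₗ[k] V →ₗ[k] V', ∀ (x : X) y, Ψ' (μ x y) = (x : R) • Ψ y := by
  choose f hf using fun (x : X) y => hmem x x.2 y
  exact ⟨LinearMap.mk₂ k f
    (fun x x' y => hinj (by rw [map_add, hf, hf, hf, Submodule.coe_add, add_smul]))
    (fun c x y => hinj (by rw [hΨ', hf, hf, Submodule.coe_smul, Algebra.smul_def, mul_smul]))
    (fun x y y' => hinj (by rw [map_add, hf, hf, hf, map_add, smul_add]))
    (fun c x y => hinj (by rw [hΨ', hf, hf, hΨ, smul_comm])), hf⟩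

end Semilinear

section Mul

variable {i : ℕ} (I : GrLC.StarInjRes 𝒜 𝒜) (mR : HomogeneousIdeal 𝒜)

/-- The pieces of the cohomology modulo torsion as pieces of graded local cohomology. -/
def qEquiv (i : ℕ) (d : ℤ) : (cxQuot I d mR.toIdeal).Coh (i + 1) ≃+ I.Hcomp mR (i + 1 + 1) d :=
  (exists_quotH I mR d i).choose

lemma qEquiv_smul (d : ℤ) (c : k) (y : (cxQuot I d mR.toIdeal).Coh (i + 1)) :
    (qEquiv I mR i d (c • y) : I.H mR (i + 1 + 1)) = algebraMap k R c • (qEquiv I mR i d y : I.H mR (i + 1 + 1)) := by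
  rw [qEquiv, (exists_quotH I mR d i).choose_spec.1 c y]
  rfl

lemma qEquiv_down (d : ℤ) (u : liftPiece I mR d (i + 1)) :
    (qEquiv I mR i d (Cx.down (toQuot I d mR.toIdeal) (toQuot_comm I d mR.toIdeal) (i + 1) u) :
      I.H mR (i + 1 + 1)) = liftH I mR u :=
  (exists_quotH I mR d i).choose_spec.2 u

lemma qEquiv_ext {d : ℤ} {y y' : (cxQuot I d mR.toIdeal).Coh (i + 1)}
    (h : (qEquiv I mR i d y : I.H mR (i + 1 + 1)) = qEquiv I mR i d y') : y = y' :=
  (qEquiv I mR i d).injective (Subtype.ext h)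

/-- A class as an element of local cohomology. -/
def qVal (i : ℕ) (d : ℤ) : (cxQuot I d mR.toIdeal).Coh (i + 1) →+ I.H mR (i + 1 + 1) :=
  (I.Hcomp mR (i + 1 + 1) d).toAddSubgroup.subtype.comp (qEquiv I mR i d).toAddMonoidHom

lemma exists_qVal (d : ℤ) (h : I.H mR (i + 1 + 1)) (hh : h ∈ I.Hcomp mR (i + 1 + 1) d) : ∃ y, qVal I mR i d y = h :=
  ⟨(qEquiv I mR i d).symm ⟨h, hh⟩, congrArg Subtype.val ((qEquiv I mR i d).apply_symm_apply ⟨h, hh⟩)⟩

lemma smul_mem_hcomp {e d d' : ℤ} (h : e + d = d') {x : R} (hx : x ∈ 𝒜 e) {n : ℕ} {y : I.H mR n}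
    (hy : y ∈ I.Hcomp mR n d) : x • y ∈ I.Hcomp mR n d' := by
  obtain ⟨z, hz, rfl⟩ := hy
  exact ⟨x • z, h ▸ GrLCLib.smul_mem 𝒜 (I.X n).gr hx hz, map_smul _ _ _⟩

set_option linter.unusedVariables false in
/-- Multiplication by a piece of the ring. -/
def mulQ (i : ℕ) {e d d' : ℤ} (h : e + d = d') :
    𝒜 e →ₗ[k] (cxQuot I d mR.toIdeal).Coh (i + 1) →ₗ[k] (cxQuot I d' mR.toIdeal).Coh (i + 1) :=
  (exists_mul (R := R) (𝒜 e) (Ψ := qVal I mR i d) (Ψ' := qVal I mR i d')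
    (fun _ _ he => qEquiv_ext I mR he) (fun c y => qEquiv_smul I mR d c y) (fun c y => qEquiv_smul I mR d' c y)
    (fun x hx y => exists_qVal I mR d' _ (smul_mem_hcomp I mR h hx (qEquiv I mR i d y).2))).choose

set_option linter.unusedVariables false in
lemma qEquiv_mulQ {e d d' : ℤ} (h : e + d = d') (x : 𝒜 e) (y : (cxQuot I d mR.toIdeal).Coh (i + 1)) :
    (qEquiv I mR i d' (mulQ I mR i h x y) : I.H mR (i + 1 + 1)) = (x : R) • (qEquiv I mR i d y : I.H mR (i + 1 + 1)) :=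
  (exists_mul (R := R) (𝒜 e) (Ψ := qVal I mR i d) (Ψ' := qVal I mR i d')
    (fun _ _ he => qEquiv_ext I mR he) (fun c y => qEquiv_smul I mR d c y) (fun c y => qEquiv_smul I mR d' c y)
    (fun x hx y => exists_qVal I mR d' _ (smul_mem_hcomp I mR h hx (qEquiv I mR i d y).2))).choose_spec x y

lemma mulQ_mulQ {e e' e'' d d' d'' : ℤ} (h : e + d = d') (h' : e' + d' = d'') (h'' : e'' + d = d'') (x : 𝒜 e)
    (x' : 𝒜 e') (z : 𝒜 e'') (hz : (z : R) = x' * x) (y : (cxQuot I d mR.toIdeal).Coh (i + 1)) :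
    mulQ I mR i h' x' (mulQ I mR i h x y) = mulQ I mR i h'' z y :=
  qEquiv_ext I mR (by rw [qEquiv_mulQ, qEquiv_mulQ, qEquiv_mulQ, hz, mul_smul])

/-- The pairing given by a functional in degree `c`. -/
def pairQ (i : ℕ) {c : ℤ} (ω : Module.Dual k ((cxQuot I c mR.toIdeal).Coh (i + 1))) (d : ℤ) :
    𝒜 (-d + c) →ₗ[k] Module.Dual k ((cxQuot I d mR.toIdeal).Coh (i + 1)) :=
  (mulQ I mR i (show -d + c + d = c by abel)).compr₂ ω

lemma pairQ_apply {c : ℤ} (ω : Module.Dual k ((cxQuot I c mR.toIdeal).Coh (i + 1))) (d : ℤ) (x : 𝒜 (-d + c))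
    (y : (cxQuot I d mR.toIdeal).Coh (i + 1)) :
    pairQ I mR i ω d x y = ω (mulQ I mR i (show -d + c + d = c by abel) x y) := rfl

end Mul

section Main

variable {i : ℕ} (I : GrLC.StarInjRes 𝒜 𝒜) (mR : HomogeneousIdeal 𝒜) (hmR : mR.toIdeal = posIdeal 𝒜)
  (hpos : ∀ n : ℤ, n < 0 → 𝒜 n = ⊥) (h0 : 𝒜 0 = Submodule.span k {(1 : R)})

include hmR hpos h0 in
/-- A regular pair inside a power of the positive ideal. -/
theorem exists_regular_pair [Algebra.FiniteType k R] [Nontrivial R] [LocCoh.IsCohenMacaulayRing R]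
    (I : GrLC.StarInjRes 𝒜 𝒜) {r : ℕ} (hr : ringKrullDim R = r) (h2 : 2 ≤ r) (δ : ℕ) (hδ : 0 < δ) :
    ∃ u v : R, IsWeaklyRegular R [u, v] ∧ u ∈ posIdeal 𝒜 ^ δ ∧ v ∈ posIdeal 𝒜 ^ δ := by
  haveI : IsNoetherianRing R := Algebra.FiniteType.isNoetherianRing k R
  have hH := hcomp_eq_bot_of_cm mR I hpos h0 hmR (r := r) ((Module.supportDim_self_eq_ringKrullDim _).trans hr)
    (cmRing_iff.1 inferInstance)
  obtain ⟨rs, hlen, hrs, hmem⟩ := LocH.exists_isWeaklyRegular mR.toIdeal 2 R fun l hl =>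
    GrLCLib.subsingleton_of_van I mR fun g => (GrLCLib.hcomp_eq_bot_iff I mR l g).1 (hH l (by omega) g)
  obtain ⟨x, y, rfl⟩ := List.length_eq_two.1 hlen
  refine ⟨x ^ δ, y ^ δ, RegPow.isWeaklyRegular_pow [(x, δ), (y, δ)] R (fun q hq => ?_) hrs, ?_, ?_⟩
  · rcases List.mem_cons.1 hq with rfl | hq
    · exact hδ
    · rw [List.mem_singleton.1 hq]; exact hδ
  · exact Ideal.pow_mem_pow (hmR ▸ hmem x (by simp)) δ
  · exact Ideal.pow_mem_pow (hmR ▸ hmem y (by simp)) δ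

/-- A regular element acts surjectively on the top cohomology. -/
theorem exists_smul_eq [Algebra.FiniteType k R] {r : ℕ} (hr : ringKrullDim R = r) {u : R} (hu : IsSMulRegular R u)
    (I : GrLC.StarInjRes 𝒜 𝒜) (h : I.H mR r) : ∃ h', u • h' = h := by
  haveI : IsNoetherianRing R := Algebra.FiniteType.isNoetherianRing k R
  obtain ⟨ε⟩ := GrLCLib.H_equiv_localCohomology I mR r
  obtain ⟨z, hz⟩ := LocH.smul_surjective_top mR.toIdeal hr.le (fun p hp _ hup =>
    Set.disjoint_left.1 (Ideal.disjoint_nonZeroDivisors_of_mem_minimalPrimes hp) hup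
      (mem_nonZeroDivisors_iff_right.2 fun x hx => hu.right_eq_zero_of_smul (by rw [smul_eq_mul, mul_comm, hx]))) R (ε h)
  refine ⟨ε.symm z, ?_⟩
  have hz' : u • z = ε h := hz
  rw [← map_smul, hz', LinearEquiv.symm_apply_apply]

include hmR hpos h0 in
/-- No cohomology in degrees above the degree of a functional that is perfect below it. -/
theorem subsingleton_above [Algebra.FiniteType k R] [Nontrivial R] [LocCoh.IsCohenMacaulayRing R]
    (hr : ringKrullDim R = ((i + 1 + 1 : ℕ) : WithBot ℕ∞)) {c : ℤ}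
    (ω : Module.Dual k ((cxQuot I c mR.toIdeal).Coh (i + 1)))
    (hω : ∀ d ≤ c, Function.Bijective (pairQ I mR i ω d)) (d : ℤ) (hd : c < d) :
    Subsingleton ((cxQuot I d mR.toIdeal).Coh (i + 1)) := by
  haveI : IsNoetherianRing R := Algebra.FiniteType.isNoetherianRing k R
  obtain ⟨δ, hδ⟩ : ∃ δ : ℕ, (δ : ℤ) = d - c := ⟨(d - c).toNat, Int.toNat_of_nonneg (by omega)⟩
  obtain ⟨u, v, hreg, hu, hv⟩ := exists_regular_pair mR hmR hpos h0 I hr (by omega) δ (by omega)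
  refine subsingleton_of_forall_eq 0 fun y₀ => (Module.forall_dual_apply_eq_zero_iff k y₀).1 fun z => ?_
  -- the map of negative degree given by the functional
  have hex : ∀ m : ℤ, ∃ φ : 𝒜 m →ₗ[k] R, (∀ a, φ a ∈ 𝒜 (m - δ)) ∧ ((δ : ℤ) ≤ m → ∀ (a : 𝒜 m) (x : 𝒜 (-(d - m) + c)),
      (x : R) = φ a → ∀ y, pairQ I mR i ω (d - m) x y = z (mulQ I mR i (show m + (d - m) = d by abel) a y)) := by
    intro m
    rcases lt_or_ge m (δ : ℤ) with h | h
    · exact ⟨0, fun a => zero_mem _, fun h' => absurd h' (by omega)⟩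
    · let P := LinearEquiv.ofBijective (pairQ I mR i ω (d - m)) (hω (d - m) (by omega))
      refine ⟨(𝒜 (-(d - m) + c)).subtype ∘ₗ P.symm.toLinearMap ∘ₗ (mulQ I mR i (show m + (d - m) = d by abel)).compr₂ z,
        fun a => ?_, fun _ a x hx y => ?_⟩
      · rw [show m - (δ : ℤ) = -(d - m) + c by omega]
        exact SetLike.coe_mem _
      · rw [show x = P.symm ((mulQ I mR i (show m + (d - m) = d by abel)).compr₂ z a) from Subtype.ext hx,
          show pairQ I mR i ω (d - m) (P.symm _) = P (P.symm _) from rfl, P.apply_symm_apply]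
        rfl
  choose φ hφd hφ using hex
  let Φ : R →+ R :=
    (DirectSum.toAddMonoid fun m => (φ m).toAddMonoidHom).comp (DirectSum.decomposeAddEquiv 𝒜).toAddMonoidHom
  have hΦ : ∀ m (a : 𝒜 m), Φ a = φ m a := fun m a => by
    simp only [Φ, AddMonoidHom.comp_apply, AddEquiv.coe_toAddMonoidHom, DirectSum.decomposeAddEquiv_apply]
    rw [DirectSum.decompose_coe, DirectSum.toAddMonoid_of]
    rfl
  have hz0 : ∀ (m : ℤ) (a : 𝒜 m), (δ : ℤ) ≤ m → ∀ y,
      z (mulQ I mR i (show m + (d - m) = d by abel) a y) = 0 := by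
    intro m a hm y
    have h1 := eq_zero_of_deg_neg hpos hreg δ (by omega) hu hv Φ (fun m a ha => (hΦ m ⟨a, ha⟩).symm ▸ hφd m _) ?_ m a a.2 hm
    · rw [hΦ] at h1
      rw [← hφ m hm a 0 (by rw [h1]; rfl) y, map_zero, LinearMap.zero_apply]
    intro e m b hb a ha hm
    rcases lt_or_ge e 0 with he | he
    · rw [eq_zero_of_neg hpos e he b hb, zero_mul, zero_mul, map_zero]
    have hba : b * a ∈ 𝒜 (e + m) := SetLike.mul_mem_graded hb ha
    rw [hΦ (e + m) ⟨b * a, hba⟩, hΦ m ⟨a, ha⟩]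
    have hxm : φ m ⟨a, ha⟩ ∈ 𝒜 (-(d - m) + c) := by
      have := hφd m ⟨a, ha⟩; rwa [show m - (δ : ℤ) = -(d - m) + c by omega] at this
    have hx : φ (e + m) ⟨b * a, hba⟩ ∈ 𝒜 (-(d - (e + m)) + c) := by
      have := hφd (e + m) ⟨b * a, hba⟩; rwa [show e + m - (δ : ℤ) = -(d - (e + m)) + c by omega] at this
    have hbx : b * φ m ⟨a, ha⟩ ∈ 𝒜 (-(d - (e + m)) + c) := by
      have := SetLike.mul_mem_graded hb hxm; rwa [show e + (-(d - m) + c) = -(d - (e + m)) + c by omega] at this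
    suffices h : (⟨_, hx⟩ : 𝒜 (-(d - (e + m)) + c)) = ⟨_, hbx⟩ from congrArg Subtype.val h
    refine (hω (d - (e + m)) (by omega)).injective (LinearMap.ext fun y => ?_)
    rw [hφ (e + m) (by omega) ⟨b * a, hba⟩ ⟨_, hx⟩ rfl, pairQ_apply,
      ← mulQ_mulQ I mR (show e + (d - (e + m)) = d - m by abel) (show -(d - m) + c + (d - m) = c by abel) _
        ⟨b, hb⟩ ⟨_, hxm⟩ ⟨_, hbx⟩ (mul_comm _ _),
      ← pairQ_apply, hφ m hm ⟨a, ha⟩ ⟨_, hxm⟩ rfl,
      mulQ_mulQ I mR _ _ (show e + m + (d - (e + m)) = d by abel) ⟨b, hb⟩ ⟨a, ha⟩ ⟨b * a, hba⟩ (mul_comm _ _)]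
  obtain ⟨h', hh'⟩ := exists_smul_eq mR hr ((isWeaklyRegular_cons_iff R u [v]).1 hreg).1 I
    (qVal I mR i d y₀)
  obtain ⟨w, hw⟩ : ∃ w : (cxQuot I d mR.toIdeal).Coh (i + 1), qVal I mR i d w = qVal I mR i d y₀ ∧ z w = 0 := by
    letI := (isInternal_Hgr I mR (i + 1 + 1)).chooseDecomposition
    have hy : pr (I.Hgr mR (i + 1 + 1)) d (qVal I mR i d y₀) = qVal I mR i d y₀ :=
      pr_of_mem _ (qEquiv I mR i d y₀).2
    rw [← hy, ← hh', ← sum_pr 𝒜 u, Finset.sum_smul, _root_.map_sum]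
    refine Finset.sum_induction _ (fun h => ∃ w, qVal I mR i d w = h ∧ z w = 0)
      (fun _ _ ⟨w₁, e₁, z₁⟩ ⟨w₂, e₂, z₂⟩ => ⟨w₁ + w₂, by rw [map_add, e₁, e₂], by rw [map_add, z₁, z₂, add_zero]⟩)
      ⟨0, map_zero _, map_zero _⟩ fun m _ => ?_
    rcases lt_or_ge m (δ : ℤ) with hm | hm
    · rw [pr_eq_zero_of_mem_pow δ u hu m hm hpos, zero_smul, map_zero]
      exact ⟨0, map_zero _, map_zero _⟩
    obtain ⟨y, hy'⟩ := exists_qVal I mR (d - m) (pr (I.Hgr mR (i + 1 + 1)) (d - m) h')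
      (pr_mem (I.Hgr mR (i + 1 + 1)) (d - m) h')
    refine ⟨mulQ I mR i (show m + (d - m) = d by abel) ⟨_, pr_mem 𝒜 m u⟩ y, ?_, hz0 m _ hm y⟩
    haveI : SetLike.GradedSMul 𝒜 (I.Hgr mR (i + 1 + 1)) :=
      ⟨fun {_ _ _ _} hx hh => smul_mem_hcomp I mR rfl hx hh⟩
    rw [GrLCLib.pr_smul 𝒜 (I.Hgr mR (i + 1 + 1)) (pr_mem 𝒜 m u), ← hy']
    exact qEquiv_mulQ I mR _ _ y
  exact (qEquiv_ext I mR hw.1) ▸ hw.2

include hmR hpos h0 in
/-- A Cohen–Macaulay algebra with a functional that is perfect up to its degree is Gorenstein, with that degree as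
a-invariant. -/
theorem isGorenstein_of_functional [Algebra.FiniteType k R] [Nontrivial R] [LocCoh.IsCohenMacaulayRing R]
    (hr : ringKrullDim R = ((i + 1 + 1 : ℕ) : WithBot ℕ∞)) {c : ℤ}
    (ω : Module.Dual k ((cxQuot I c mR.toIdeal).Coh (i + 1)))
    (hω : ∀ d ≤ c, Function.Bijective (pairQ I mR i ω d)) :
    LocCoh.IsGorensteinRing R ∧ GrLC.endDeg (I.Hgr mR (i + 1 + 1)) = ((c : WithTop ℤ) : WithBot (WithTop ℤ)) := by
  haveI : IsNoetherianRing R := Algebra.FiniteType.isNoetherianRing k R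
  obtain ⟨E, e, he, he'⟩ := exists_hull_both mR
  letI := shiftDec 𝒜 c
  have hall : ∀ d, Function.Bijective (pairQ I mR i ω d) := by
    intro d
    rcases le_or_gt d c with h | h
    · exact hω d h
    · haveI := subsingleton_above I mR hmR hpos h0 hr ω hω d h
      haveI : Subsingleton (𝒜 (-d + c)) := by rw [hpos _ (by omega)]; infer_instance
      exact ⟨fun _ _ _ => Subsingleton.elim _ _, fun L => ⟨0, LinearMap.ext fun y => by
        rw [Subsingleton.elim y 0, map_zero, map_zero]⟩⟩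
  haveI : ∀ d, Module.Finite k ((cxQuot I d mR.toIdeal).Coh (i + 1)) := fun d => finite_quot mR hmR I hpos h0 d
  let inc : ∀ d, kpiece 𝒜 (shiftPiece 𝒜 c) (-d) →ₗ[k] 𝒜 (-d + c) := fun d =>
    { toFun := fun x => ⟨x.1, x.2⟩
      map_add' := fun _ _ => rfl
      map_smul' := fun _ _ => rfl }
  have hC : GrLC.IsStarCanonical 𝒜 (shiftPiece 𝒜 c) E.gr mR (i + 1 + 1) I := by
    haveI : Module.Finite R R := Module.Finite.self R
    refine isStarCanonical_of_pairing hpos h0 mR hmR I he (fun d => (cxQuot I d mR.toIdeal).Coh (i + 1))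
      (fun d => (qEquiv I mR i d).symm) (fun d => pairQ I mR i ω d ∘ₗ inc d) (fun d => ?_) ?_
    · exact (hall d).comp ⟨fun _ _ h => Subtype.ext (congrArg Subtype.val h), fun y => ⟨⟨y.1, y.2⟩, rfl⟩⟩
    intro a d t ht x y h h' hy hh
    show ω (mulQ I mR i _ (inc d y) _) = ω (mulQ I mR i _ (inc (a + d) x) _)
    refine congrArg ω (qEquiv_ext I mR ?_)
    rw [qEquiv_mulQ, qEquiv_mulQ, (qEquiv I mR i d).apply_symm_apply, (qEquiv I mR i (a + d)).apply_symm_apply]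
    show (y : R) • (h : I.H mR (i + 1 + 1)) = (x : R) • (h' : I.H mR (i + 1 + 1))
    rw [hy, hh, smul_eq_mul, mul_smul, smul_comm]
  exact ⟨isGorenstein_of_shift_canonical hpos h0 mR hmR hr I he' c hC,
    endDeg_eq_of_shift_canonical hpos h0 mR hmR I he c hC⟩

end Main

end Groth.Agent.SegreLC
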