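import Groth.Agent.SegreLC.CanonPair

/-!
Homogeneous homomorphisms into the *injective hull of the residue field, as functionals.
-/

set_option autoImplicit false
set_option linter.unusedSectionVars false
set_option linter.style.haveILetI false
set_option backward.isDefEq.respectTransparency false
set_option backward.isDefEq.respectTransparency.types false
universe u

open scoped Classical
open DirectSum Groth.Agent.GrLCLib

noncomputable section

namespace Groth.Agent.SegreLC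

variable {R : Type u} [CommRing R] [IsNoetherianRing R] {σ : Type u} [SetLike σ R] [AddSubgroupClass σ R]
  {𝒜 : ℤ → σ} [GradedRing 𝒜]
  {m : HomogeneousIdeal 𝒜}
  {E' : Type u} [AddCommGroup E'] [Module R E'] {𝓔 : ℤ → AddSubgroup E'} [DirectSum.Decomposition 𝓔]
  [SetLike.GradedSMul 𝒜 𝓔] {e : (R ⧸ m.toIdeal) →ₗ[R] E'}
  {C : Type u} [AddCommGroup C] [Module R C] {𝒞 : ℤ → AddSubgroup C} [DirectSum.Decomposition 𝒞]
  [SetLike.GradedSMul 𝒜 𝒞] {n : ℕ} {I : GrLC.StarInjRes 𝒜 𝒜}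

local notation "R₀" => GrLC.deg0 𝒜

/-- Homogeneous maps to the hull are the functionals on the opposite piece. -/
theorem exists_hullDual (hpos : ∀ k : ℤ, k < 0 → ∀ r ∈ 𝒜 k, r = 0) (h0 : IsField R₀)
    (hsub : ∀ x : R, x - pr 𝒜 0 x ∈ m.toIdeal) (hne' : m.toIdeal ≠ ⊤)
    (he : GrLC.IsStarInjHull 𝒜 (GrLC.quotGr 𝒜 m) 𝓔 e) :
    ∃ χ : E' →ₗ[R₀] R₀,
      (∀ (d : ℤ) (f : C →ₗ[R] E'), f ∈ GrLC.homDeg 𝒜 𝒞 𝓔 d → (∀ x ∈ 𝒞 (-d), χ (f x) = 0) → f = 0) ∧
      (∀ (j : ℤ) (l : C →ₗ[R₀] R₀), ∃ f : C →ₗ[R] E', f ∈ GrLC.homDeg 𝒜 𝒞 𝓔 (-j) ∧ ∀ x ∈ 𝒞 j, χ (f x) = l x) := by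
  letI : Field R₀ := h0.toField
  let ψ : R₀ →ₗ[R₀] E' :=
    { toFun := fun c => e (Ideal.Quotient.mk m.toIdeal (c : R))
      map_add' := fun a b => by rw [Subring.coe_add, map_add, map_add]
      map_smul' := fun a b => by
        show e (Ideal.Quotient.mk m.toIdeal ((a : R) * b)) = (a : R) • e (Ideal.Quotient.mk m.toIdeal (b : R))
        rw [← map_smul]
        rfl }
  have hψ : Function.Injective ψ := (injective_iff_map_eq_zero ψ).2 fun c hc => by
    by_contra hne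
    have h1 : (c : R) ∈ m.toIdeal :=
      Ideal.Quotient.eq_zero_iff_mem.1 (he.injective (hc.trans (map_zero e).symm))
    obtain ⟨d, hd⟩ := h0.mul_inv_cancel hne
    refine hne' ((Ideal.eq_top_iff_one _).2 ?_)
    have := m.toIdeal.mul_mem_right (d : R) h1
    rwa [← Subring.coe_mul, hd, Subring.coe_one] at this
  -- the degree zero piece of the hull
  have hE0 : ∀ y ∈ 𝓔 0, ∃ c : R₀, ψ c = y := fun y hy => by
    by_cases hy0 : y = 0
    · exact ⟨0, by rw [map_zero, hy0]⟩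
    have hP := he.essential (Submodule.span R {y})
      ((GrLCHull.homog_iff 𝓔).2 (homog_span_singleton' (𝒜 := 𝒜) (𝓔 := 𝓔) hy))
      (fun h => hy0 ((Submodule.span_singleton_eq_bot).1 h))
    obtain ⟨z, hz, hz0⟩ := Submodule.exists_mem_ne_zero_of_ne_bot hP
    obtain ⟨t, rfl⟩ := Submodule.mem_span_singleton.1 hz.1
    obtain ⟨q, hq⟩ := hz.2
    obtain ⟨q, rfl⟩ := Ideal.Quotient.mk_surjective q
    rw [show Ideal.Quotient.mk m.toIdeal q = Ideal.Quotient.mk m.toIdeal (pr 𝒜 0 q) from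
      Ideal.Quotient.eq.2 (hsub q)] at hq
    have hmem : t • y ∈ 𝓔 0 := hq ▸ he.grHom 0 _ ⟨_, pr_mem 𝒜 0 q, rfl⟩
    have h2 : pr 𝒜 0 t • y = t • y := by
      rw [← pr_of_mem 𝓔 hmem, pr_smul_left 𝒜 𝓔 hy, sub_zero]
    let t₀ : R₀ := ⟨pr 𝒜 0 t, pr_mem 𝒜 0 t⟩
    have ht₀ : t₀ ≠ 0 := fun h => hz0 (by
      rw [← h2, show pr 𝒜 0 t = 0 from congrArg Subtype.val h, zero_smul])
    refine ⟨t₀⁻¹ * ⟨pr 𝒜 0 q, pr_mem 𝒜 0 q⟩, ?_⟩
    rw [← smul_eq_mul, map_smul]
    show t₀⁻¹ • e (Ideal.Quotient.mk m.toIdeal (pr 𝒜 0 q)) = y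
    rw [hq, ← h2]
    show t₀⁻¹ • t₀ • y = y
    rw [inv_smul_smul₀ ht₀]
  obtain ⟨χ, hχ⟩ := LinearMap.exists_leftInverse_of_injective ψ (LinearMap.ker_eq_bot.2 hψ)
  have hχψ : ∀ y ∈ 𝓔 0, ψ (χ y) = y := fun y hy => by
    obtain ⟨c, rfl⟩ := hE0 y hy
    rw [show χ (ψ c) = c from LinearMap.congr_fun hχ c]
  -- a homomorphism of degree `d` is determined on the piece of degree `-d`
  have hdet : ∀ (d : ℤ) (f : C →ₗ[R] E'), f ∈ GrLC.homDeg 𝒜 𝒞 𝓔 d → (∀ x ∈ 𝒞 (-d), f x = 0) → f = 0 := by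
    intro d f hf hf0
    refine LinearMap.ext fun x => ?_
    induction x using DirectSum.Decomposition.inductionOn 𝒞 with
    | zero => rw [map_zero]; rfl
    | add a b ha hb => rw [map_add, ha, hb, map_add]
    | @homogeneous g x =>
      show f (x : C) = 0
      by_contra hy0
      have hy : f (x : C) ∈ 𝓔 (g + d) := hf g x x.2
      have hP := he.essential (Submodule.span R {f (x : C)})
        ((GrLCHull.homog_iff 𝓔).2 (homog_span_singleton' (𝒜 := 𝒜) (𝓔 := 𝓔) hy))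
        (fun h => hy0 ((Submodule.span_singleton_eq_bot).1 h))
      obtain ⟨z, hz, hz0⟩ := Submodule.exists_mem_ne_zero_of_ne_bot hP
      obtain ⟨t, rfl⟩ := Submodule.mem_span_singleton.1 hz.1
      obtain ⟨q, hq⟩ := hz.2
      obtain ⟨q, rfl⟩ := Ideal.Quotient.mk_surjective q
      rw [show Ideal.Quotient.mk m.toIdeal q = Ideal.Quotient.mk m.toIdeal (pr 𝒜 0 q) from
        Ideal.Quotient.eq.2 (hsub q)] at hq
      have hmem : t • f (x : C) ∈ 𝓔 0 := hq ▸ he.grHom 0 _ ⟨_, pr_mem 𝒜 0 q, rfl⟩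
      refine hz0 ?_
      rw [← pr_of_mem 𝓔 hmem, pr_smul_left 𝒜 𝓔 hy, ← map_smul]
      refine hf0 _ ?_
      have h3 := SetLike.GradedSMul.smul_mem (A := 𝒜) (B := 𝒞) (pr_mem 𝒜 (0 - (g + d)) t) x.2
      rwa [vadd_eq_add, show 0 - (g + d) + g = -d by ring] at h3
  -- extension of functionals
  have hext : ∀ (j : ℤ) (l : C →ₗ[R₀] R₀), ∃ f : C →ₗ[R] E', f ∈ GrLC.homDeg 𝒜 𝒞 𝓔 (-j) ∧ ∀ x ∈ 𝒞 j, χ (f x) = l x := by
    intro j l
    let K : Submodule R C := Submodule.span R (𝒞 j : Set C)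
    have hK : Homog 𝒞 K := fun x hx g => by
      induction hx using Submodule.span_induction generalizing g with
      | mem b hb =>
        rcases eq_or_ne j g with rfl | hne
        · exact (pr_of_mem 𝒞 hb).symm ▸ Submodule.subset_span hb
        · rw [pr_of_mem_ne 𝒞 hb hne]; exact zero_mem _
      | zero => rw [map_zero]; exact zero_mem _
      | add a b _ _ ha hb => rw [map_add]; exact add_mem (ha g) (hb g)
      | smul c a _ ha =>
        rw [← sum_pr 𝒜 c, Finset.sum_smul, _root_.map_sum]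
        refine Submodule.sum_mem _ fun i _ => ?_
        rw [pr_smul 𝒜 𝒞 (pr_mem 𝒜 i c)]
        exact K.smul_mem _ (ha _)
    have hlow : ∀ x ∈ K, ∀ g < j, pr 𝒞 g x = 0 := fun x hx => by
      induction hx using Submodule.span_induction with
      | mem b hb => exact fun g hg => pr_of_mem_ne 𝒞 hb hg.ne'
      | zero => exact fun g _ => map_zero _
      | add a b _ _ ha hb => exact fun g hg => by rw [map_add, ha g hg, hb g hg, add_zero]
      | smul c a _ ha =>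
        intro g hg
        rw [← sum_pr 𝒜 c, Finset.sum_smul, _root_.map_sum]
        refine Finset.sum_eq_zero fun i _ => ?_
        rw [pr_smul 𝒜 𝒞 (pr_mem 𝒜 i c)]
        rcases lt_or_ge i 0 with hi | hi
        · rw [(hpos i hi _ (pr_mem 𝒜 i c)), zero_smul]
        · rw [ha _ (by omega), smul_zero]
    let u₀ : ↥K → E' := fun x => ψ (l (pr 𝒞 j (x : C)))
    have hu₀add : ∀ x y, u₀ (x + y) = u₀ x + u₀ y := fun x y => by
      simp only [u₀, Submodule.coe_add, map_add]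
    have hu₀smul : ∀ (r : R) (x : ↥K), u₀ (r • x) = r • u₀ x := fun r x => by
      have h1 : pr 𝒞 j (r • (x : C)) = pr 𝒜 0 r • pr 𝒞 j (x : C) := by
        conv_lhs => rw [← sum_pr 𝒜 r, Finset.sum_smul, _root_.map_sum]
        rw [Finset.sum_eq_single 0]
        · rw [pr_smul 𝒜 𝒞 (pr_mem 𝒜 0 r), sub_zero]
        · intro i _ hi
          rw [pr_smul 𝒜 𝒞 (pr_mem 𝒜 i r)]
          rcases lt_or_gt_of_ne hi with hi | hi
          · rw [(hpos i hi _ (pr_mem 𝒜 i r)), zero_smul]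
          · rw [hlow _ x.2 _ (by omega), smul_zero]
        · intro h0
          rw [show pr 𝒜 0 r = 0 from (show ((DirectSum.decompose 𝒜 r 0 : 𝒜 0) : R) = 0 by
            rw [DFinsupp.notMem_support_iff.1 h0]; rfl), zero_smul, map_zero]
      show ψ (l (pr 𝒞 j (r • (x : C)))) = r • ψ (l (pr 𝒞 j (x : C)))
      rw [h1, show l (pr 𝒜 0 r • pr 𝒞 j (x : C)) = (⟨pr 𝒜 0 r, pr_mem 𝒜 0 r⟩ : R₀) • l (pr 𝒞 j (x : C)) from
        map_smul l (⟨pr 𝒜 0 r, pr_mem 𝒜 0 r⟩ : R₀) _, map_smul]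
      show pr 𝒜 0 r • e _ = r • e _
      refine (e.map_smul (pr 𝒜 0 r) _).symm.trans ((congrArg e ?_).trans (e.map_smul r _))
      refine Ideal.Quotient.eq.2 ?_
      simp only [smul_eq_mul]
      rw [← sub_mul]
      exact m.toIdeal.mul_mem_right _ (neg_mem_iff.1 (by rw [neg_sub]; exact hsub r))
    let u : ↥K →ₗ[R] E' := { toFun := u₀, map_add' := hu₀add, map_smul' := hu₀smul }
    let X₀ := GrLC.GMod.of 𝒜 E' 𝓔
    let B := shiftObj 𝒜 𝒞 j
    let A := shiftObj 𝒜 (subObj 𝒜 𝒞 K hK).gr j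
    have hu : GrLC.IsGrHom A.gr X₀.gr (u : A.carrier →ₗ[R] X₀.carrier) := fun g x hx => by
      show u₀ x ∈ 𝓔 g
      have hx' : ((show ↥K from x) : C) ∈ 𝒞 (g + j) := hx
      by_cases hg : g = 0
      · subst hg
        exact he.grHom 0 _ ⟨_, (l (pr 𝒞 j ((show ↥K from x) : C))).2, rfl⟩
      · show ψ (l (pr 𝒞 j ((show ↥K from x) : C))) ∈ 𝓔 g
        rw [pr_of_mem_ne 𝒞 hx' (by omega), map_zero, map_zero]
        exact zero_mem _
    obtain ⟨f, hf, hfu⟩ := exists_extend (A := A) (B := B) (X := X₀) he.starInj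
      (f := (K.subtype : A.carrier →ₗ[R] B.carrier)) (fun g x hx => hx) hu
      (fun x hx => by
        have : x = 0 := K.injective_subtype (hx.trans (map_zero _).symm)
        rw [this]; exact Submodule.zero_mem _)
    let f' : C →ₗ[R] E' := f
    have hf' : f' ∈ GrLC.homDeg 𝒜 𝒞 𝓔 (-j) := fun g x hx => by
      show f' x ∈ 𝓔 (g + -j)
      refine hf (g + -j) x ?_
      show x ∈ 𝒞 (g + -j + j)
      rwa [neg_add_cancel_right]
    refine ⟨f', hf', fun x hx => ?_⟩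
    have h1 : f' x = ψ (l (pr 𝒞 j x)) := LinearMap.congr_fun hfu ⟨x, Submodule.subset_span hx⟩
    rw [h1, pr_of_mem 𝒞 hx]
    exact LinearMap.congr_fun hχ (l x)
  refine ⟨χ, fun d f hf hf0 => hdet d f hf fun x hx => ?_, hext⟩
  have h1 : f x ∈ 𝓔 0 := neg_add_cancel d ▸ hf (-d) x hx
  rw [← hχψ _ h1, hf0 x hx, map_zero]

end Groth.Agent.SegreLC
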