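import Groth.Agent.SegreLC.Cx

/-!
The cohomology of the kernel of a surjection out of a resolution.
-/

set_option autoImplicit false
set_option linter.unusedSectionVars false
universe u

open scoped Classical

noncomputable section

namespace Groth.Agent.SegreLC.Cx

variable {A : Type u} [CommRing A] {C C' : Cx A} (p : ∀ n, C.V n →ₗ[A] C'.V n)
  (hp : ∀ n x, p (n + 1) (C.d n x) = C'.d n (p n x))

/-- The kernel of a map of complexes. -/
def ker : Cx A where
  V n := ↥(LinearMap.ker (p n))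
  d n := (C.d n ∘ₗ (LinearMap.ker (p n)).subtype).codRestrict (LinearMap.ker (p (n + 1))) fun x => by
    rw [LinearMap.mem_ker, LinearMap.comp_apply, hp, Submodule.subtype_apply, LinearMap.mem_ker.1 x.2, map_zero]
  d_d n x := Subtype.ext (C.d_d n x.1)

lemma mem_ker_B_iff {n : ℕ} (x : (ker p hp).V (n + 1)) :
    x ∈ (ker p hp).B (n + 1) ↔ ∃ y : C.V n, p n y = 0 ∧ C.d n y = x.1 :=
  ⟨fun ⟨y, hy⟩ => ⟨y.1, y.2, congrArg Subtype.val hy⟩, fun ⟨y, hy, hyx⟩ => ⟨⟨y, hy⟩, Subtype.ext hyx⟩⟩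

/-- The elements whose differential lies in the kernel. -/
def lift (n : ℕ) : Submodule A (C.V n) := (LinearMap.ker (p (n + 1))).comap (C.d n)

/-- The class downstairs. -/
def down (n : ℕ) : lift p n →ₗ[A] C'.Coh n :=
  C'.cls n ∘ₗ (p n ∘ₗ (lift p n).subtype).codRestrict (C'.Z n) fun x => by
    show C'.d n (p n x.1) = 0
    rw [← hp]; exact x.2

/-- The connecting class. -/
def up (n : ℕ) : lift p n →ₗ[A] (ker p hp).Coh (n + 1) :=
  (ker p hp).cls (n + 1) ∘ₗ
    ((C.d n ∘ₗ (lift p n).subtype).codRestrict (LinearMap.ker (p (n + 1))) fun x => x.2).codRestrict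
      ((ker p hp).Z (n + 1)) fun x => Subtype.ext (C.d_d n x.1)

lemma down_surjective (hs : ∀ n, Function.Surjective (p n)) (n : ℕ) : Function.Surjective (down p hp n) := by
  intro y
  obtain ⟨⟨z, hz⟩, rfl⟩ := C'.cls_surjective n y
  obtain ⟨x, rfl⟩ := hs n z
  exact ⟨⟨x, show p (n + 1) (C.d n x) = 0 by rw [hp]; exact hz⟩, rfl⟩

lemma up_surjective (n : ℕ) (hex : C.Z (n + 1) ≤ C.B (n + 1)) : Function.Surjective (up p hp n) := by
  intro y
  obtain ⟨⟨⟨z, hzk⟩, hz⟩, rfl⟩ := (ker p hp).cls_surjective (n + 1) y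
  obtain ⟨x, rfl⟩ := hex (show z ∈ C.Z (n + 1) from congrArg Subtype.val hz)
  exact ⟨⟨x, hzk⟩, rfl⟩

lemma up_eq_zero_iff {n : ℕ} (x : lift p n) :
    up p hp n x = 0 ↔ ∃ y : C.V n, p n y = 0 ∧ C.d n y = C.d n x.1 :=
  ((ker p hp).cls_eq_zero_iff _).trans (mem_ker_B_iff p hp _)

lemma ker_down_eq_ker_up (hs : ∀ n, Function.Surjective (p n)) (m : ℕ) (hex : C.Z (m + 1) ≤ C.B (m + 1)) :
    LinearMap.ker (down p hp (m + 1)) = LinearMap.ker (up p hp (m + 1)) := by
  ext x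
  rw [LinearMap.mem_ker, LinearMap.mem_ker, up_eq_zero_iff]
  refine ((C'.cls_eq_zero_iff _).trans ?_)
  constructor
  · rintro ⟨v', hv'⟩
    obtain ⟨v, rfl⟩ := hs m v'
    refine ⟨x.1 - C.d m v, ?_, by rw [map_sub, C.d_d, sub_zero]⟩
    rw [map_sub, hp, sub_eq_zero]
    exact hv'.symm
  · rintro ⟨y, hy, hyx⟩
    obtain ⟨v, hv⟩ := hex (show C.d (m + 1) (x.1 - y) = 0 by rw [map_sub, hyx, sub_self])
    refine ⟨p m v, ?_⟩
    show C'.d m (p m v) = p (m + 1) x.1
    rw [← hp, hv, map_sub, hy, sub_zero]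

/-- In degrees at least two the kernel has the cohomology of the target, shifted. -/
def cohSuccEquiv (hs : ∀ n, Function.Surjective (p n)) (m : ℕ) (hex : ∀ n, C.Z (n + 1) ≤ C.B (n + 1)) :
    (ker p hp).Coh (m + 1 + 1) ≃ₗ[A] C'.Coh (m + 1) :=
  ((up p hp (m + 1)).quotKerEquivOfSurjective (up_surjective p hp (m + 1) (hex (m + 1)))).symm ≪≫ₗ
    Submodule.quotEquivOfEq _ _ (ker_down_eq_ker_up p hp hs m (hex m)).symm ≪≫ₗ
      (down p hp (m + 1)).quotKerEquivOfSurjective (down_surjective p hp hs (m + 1))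

lemma cohSuccEquiv_up (hs : ∀ n, Function.Surjective (p n)) (m : ℕ) (hex : ∀ n, C.Z (n + 1) ≤ C.B (n + 1))
    (x : lift p (m + 1)) : cohSuccEquiv p hp hs m hex (up p hp (m + 1) x) = down p hp (m + 1) x := by
  unfold cohSuccEquiv
  rw [LinearEquiv.trans_apply, LinearEquiv.trans_apply,
    show ((up p hp (m + 1)).quotKerEquivOfSurjective (up_surjective p hp (m + 1) (hex (m + 1)))).symm
        (up p hp (m + 1) x) = Submodule.Quotient.mk x from (LinearEquiv.symm_apply_eq _).2 rfl]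
  rfl

variable {M : Type u} [AddCommGroup M] [Module A M] (ε : M →ₗ[A] C.V 0) (hε : LinearMap.range ε = C.Z 0)

/-- The map of the resolved module into the target cycles. -/
def augMap : M →ₗ[A] C'.Z 0 :=
  (p 0 ∘ₗ ε).codRestrict (C'.Z 0) fun x => by
    show C'.d 0 (p 0 (ε x)) = 0
    rw [← hp, show C.d 0 (ε x) = 0 from hε.le ⟨x, rfl⟩, map_zero]

/-- The degree zero class downstairs, as a cycle. -/
def downZero : lift p 0 →ₗ[A] C'.Z 0 ⧸ LinearMap.range (augMap p hp ε hε) :=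
  (LinearMap.range (augMap p hp ε hε)).mkQ ∘ₗ
    (p 0 ∘ₗ (lift p 0).subtype).codRestrict (C'.Z 0) fun x => by
      show C'.d 0 (p 0 x.1) = 0
      rw [← hp]; exact x.2

/-- The cohomology of the kernel in degree one. -/
def cohOneEquiv (hs : ∀ n, Function.Surjective (p n)) (hex : C.Z 1 ≤ C.B 1) :
    (ker p hp).Coh 1 ≃ₗ[A] C'.Z 0 ⧸ LinearMap.range (augMap p hp ε hε) :=
  ((up p hp 0).quotKerEquivOfSurjective (up_surjective p hp 0 hex)).symm ≪≫ₗ
    Submodule.quotEquivOfEq _ _ (by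
      ext x
      rw [LinearMap.mem_ker, up_eq_zero_iff]
      refine Iff.trans ?_ ((Submodule.Quotient.mk_eq_zero _).symm)
      constructor
      · rintro ⟨y, hy, hyx⟩
        obtain ⟨m, hm⟩ : x.1 - y ∈ LinearMap.range ε := by
          rw [hε]; show C.d 0 (x.1 - y) = 0; rw [map_sub, hyx, sub_self]
        refine ⟨m, Subtype.ext ?_⟩
        show p 0 (ε m) = p 0 x.1
        rw [hm, map_sub, hy, sub_zero]
      · rintro ⟨m, hm⟩
        refine ⟨x.1 - ε m, ?_, ?_⟩
        · rw [map_sub, sub_eq_zero]; exact (congrArg Subtype.val hm).symm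
        · rw [map_sub, show C.d 0 (ε m) = 0 from hε.le ⟨m, rfl⟩, sub_zero]) ≪≫ₗ
      (downZero p hp ε hε).quotKerEquivOfSurjective (fun y => by
        obtain ⟨⟨z, hz⟩, rfl⟩ := Submodule.mkQ_surjective _ y
        obtain ⟨x, rfl⟩ := hs 0 z
        exact ⟨⟨x, show p 1 (C.d 0 x) = 0 by rw [hp]; exact hz⟩, rfl⟩)

/-- The cohomology of the kernel in degree zero. -/
def cohZeroEquiv (hεi : Function.Injective ε) :
    ↥(LinearMap.ker (augMap p hp ε hε)) ≃ₗ[A] (ker p hp).Coh 0 :=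
  LinearEquiv.ofBijective
    ((ker p hp).cls 0 ∘ₗ
      ((ε ∘ₗ (LinearMap.ker (augMap p hp ε hε)).subtype).codRestrict (LinearMap.ker (p 0))
        fun x => congrArg Subtype.val x.2).codRestrict ((ker p hp).Z 0) fun x => Subtype.ext
          (show C.d 0 (ε x.1) = 0 from hε.le ⟨x.1, rfl⟩))
    ⟨(injective_iff_map_eq_zero _).2 fun x hx => Subtype.ext (hεi (by
        have := ((ker p hp).cls_eq_zero_iff _).1 hx
        exact (congrArg Subtype.val (show _ = (0 : (ker p hp).V 0) from this)).trans (map_zero ε).symm)),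
      fun y => by
        obtain ⟨⟨⟨z, hzk⟩, hz⟩, rfl⟩ := (ker p hp).cls_surjective 0 y
        obtain ⟨m, rfl⟩ : z ∈ LinearMap.range ε := hε.ge (congrArg Subtype.val hz : C.d 0 z = 0)
        exact ⟨⟨m, Subtype.ext hzk⟩, rfl⟩⟩

end Groth.Agent.SegreLC.Cx
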