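import Groth.Agent.SegreLC.Htpy

/-!
The Künneth formula for complexes over a field.
-/

set_option autoImplicit false
set_option linter.unusedSectionVars false
set_option backward.isDefEq.respectTransparency false
set_option backward.isDefEq.respectTransparency.types false
universe u

open scoped Classical TensorProduct

noncomputable section

namespace Groth.Agent.SegreLC

open BiCx TensorProduct

variable {k : Type u} [Field k] (P Q : Cx k)

/-- The tensor product double complex. -/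
abbrev tensorBi : BiCx k where
  W i j := P.V i ⊗[k] Q.V j
  dh i j := LinearMap.rTensor (Q.V j) (P.d i)
  dv i j := LinearMap.lTensor (P.V i) (Q.d j)
  hh i j w := by
    rw [← LinearMap.rTensor_comp_apply, show P.d (i + 1) ∘ₗ P.d i = 0 from LinearMap.ext (P.d_d i),
      LinearMap.rTensor_zero, LinearMap.zero_apply]
  vv i j w := by
    rw [← LinearMap.lTensor_comp_apply, show Q.d (j + 1) ∘ₗ Q.d j = 0 from LinearMap.ext (Q.d_d j),
      LinearMap.lTensor_zero, LinearMap.zero_apply]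
  hv i j w := by
    rw [← LinearMap.comp_apply, ← LinearMap.comp_apply, LinearMap.rTensor_comp_lTensor,
      LinearMap.lTensor_comp_rTensor]

/-- The total complex of a tensor product. -/
abbrev tensorTot : Cx k := (tensorBi P Q).tot

/-- An elementary tensor in a component. -/
def ten {n : ℕ} (i j : ℕ) (h : i + j = n) (a : P.V i) (b : Q.V j) : (tensorBi P Q).Tot n :=
  (tensorBi P Q).inc i j h (a ⊗ₜ[k] b)

lemma ten_congr {n i j : ℕ} {h h' : i + j = n} {a a' : P.V i} {b b' : Q.V j} (ha : a = a') (hb : b = b') :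
    ten P Q i j h a b = ten P Q i j h' a' b' := by subst ha; subst hb; rfl

lemma totD_ten {n i j : ℕ} (h : i + j = n) (a : P.V i) (b : Q.V j) :
    (tensorBi P Q).totD n (ten P Q i j h a b) =
      ten P Q (n := n + 1) (i + 1) j (by omega) (P.d i a) b +
        (sgn i : k) • ten P Q (n := n + 1) i (j + 1) (by omega) a (Q.d j b) :=
  (tensorBi P Q).totD_inc h _

lemma ten_ext {n : ℕ} {M : Type u} [AddCommGroup M] [Module k M] {f g : (tensorBi P Q).Tot n →ₗ[k] M}
    (h : ∀ i j (e : i + j = n) a b, f (ten P Q i j e a b) = g (ten P Q i j e a b)) : f = g :=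
  (tensorBi P Q).tot_ext fun i j e w => by
    have : f ∘ₗ (tensorBi P Q).inc i j e = g ∘ₗ (tensorBi P Q).inc i j e := TensorProduct.ext' (h i j e)
    exact LinearMap.congr_fun this w

/-- The homotopy in the first variable. -/
def hLeft : {n : ℕ} → (i j : ℕ) → i + j = n + 1 → (P.V i ⊗[k] Q.V j →ₗ[k] (tensorBi P Q).Tot n)
  | _, 0, _, _ => 0
  | n, i + 1, j, h => (tensorBi P Q).inc (n := n) i j (by omega) ∘ₗ LinearMap.rTensor (Q.V j) (P.h i)

/-- The homotopy in the second variable. -/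
def hRight : {n : ℕ} → (i j : ℕ) → i + j = n + 1 → (P.V i ⊗[k] Q.V j →ₗ[k] (tensorBi P Q).Tot n)
  | _, _, 0, _ => 0
  | n, i, j + 1, h => (sgn i : k) • ((tensorBi P Q).inc (n := n) i j (by omega) ∘ₗ TensorProduct.map (P.π i) (Q.h j))

/-- The homotopy. -/
def hTot (n : ℕ) : (tensorBi P Q).Tot (n + 1) →ₗ[k] (tensorBi P Q).Tot n :=
  ∑ p : Idx (n + 1), (hLeft P Q p.1.1 p.1.2 p.2 + hRight P Q p.1.1 p.1.2 p.2) ∘ₗ
    LinearMap.proj (φ := fun p : Idx (n + 1) => (tensorBi P Q).W p.1.1 p.1.2) p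

/-- The idempotent. -/
def piTot (n : ℕ) : (tensorBi P Q).Tot n →ₗ[k] (tensorBi P Q).Tot n :=
  LinearMap.pi fun p => TensorProduct.map (P.π p.1.1) (Q.π p.1.2) ∘ₗ
    LinearMap.proj (φ := fun p : Idx n => (tensorBi P Q).W p.1.1 p.1.2) p

lemma piTot_apply {n : ℕ} (x : (tensorBi P Q).Tot n) (p : Idx n) :
    piTot P Q n x p = TensorProduct.map (P.π p.1.1) (Q.π p.1.2) (x p) := rfl

lemma piTot_ten {n i j : ℕ} (h : i + j = n) (a : P.V i) (b : Q.V j) :
    piTot P Q n (ten P Q i j h a b) = ten P Q i j h (P.π i a) (Q.π j b) := by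
  funext p
  rw [piTot_apply, ten, ten]
  by_cases hp : p.1 = (i, j)
  · obtain ⟨⟨i', j'⟩, h'⟩ := p
    obtain ⟨rfl, rfl⟩ : i' = i ∧ j' = j := Prod.mk.inj hp
    rw [inc_apply_same, inc_apply_same]
    rfl
  · rw [inc_apply_ne _ _ _ hp, inc_apply_ne _ _ _ hp]
    exact map_zero _

lemma hTot_inc {n i j : ℕ} (h : i + j = n + 1) (w : (tensorBi P Q).W i j) :
    hTot P Q n ((tensorBi P Q).inc i j h w) = hLeft P Q i j h w + hRight P Q i j h w := by
  rw [hTot, (tensorBi P Q).sum_proj_inc (fun p : Idx (n + 1) => hLeft P Q p.1.1 p.1.2 p.2 + hRight P Q p.1.1 p.1.2 p.2) h w]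
  rfl

lemma hTot_succ_succ {n i j : ℕ} (h : i + 1 + (j + 1) = n + 1) (a : P.V (i + 1)) (b : Q.V (j + 1)) :
    hTot P Q n (ten P Q (i + 1) (j + 1) h a b) = ten P Q i (j + 1) (by omega) (P.h i a) b +
      (sgn (i + 1) : k) • ten P Q (i + 1) j (by omega) (P.π (i + 1) a) (Q.h j b) :=
  hTot_inc P Q h _

lemma hTot_zero_succ {n j : ℕ} (h : 0 + (j + 1) = n + 1) (a : P.V 0) (b : Q.V (j + 1)) :
    hTot P Q n (ten P Q 0 (j + 1) h a b) = (sgn 0 : k) • ten P Q 0 j (by omega) (P.π 0 a) (Q.h j b) :=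
  (hTot_inc P Q h _).trans (zero_add _)

lemma hTot_succ_zero {n i : ℕ} (h : i + 1 + 0 = n + 1) (a : P.V (i + 1)) (b : Q.V 0) :
    hTot P Q n (ten P Q (i + 1) 0 h a b) = ten P Q i 0 (by omega) (P.h i a) b :=
  (hTot_inc P Q h _).trans (add_zero _)

lemma ten_sub_left {n i j : ℕ} (h : i + j = n) (a a' : P.V i) (b : Q.V j) :
    ten P Q i j h (a - a') b = ten P Q i j h a b - ten P Q i j h a' b := by
  rw [ten, sub_tmul, map_sub]; rfl

lemma ten_sub_right {n i j : ℕ} (h : i + j = n) (a : P.V i) (b b' : Q.V j) :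
    ten P Q i j h a (b - b') = ten P Q i j h a b - ten P Q i j h a b' := by
  rw [ten, tmul_sub, map_sub]; rfl

lemma ten_zero_left {n i j : ℕ} (h : i + j = n) (b : Q.V j) : ten P Q i j h 0 b = 0 := by
  rw [ten, zero_tmul, map_zero]

lemma ten_zero_right {n i j : ℕ} (h : i + j = n) (a : P.V i) : ten P Q i j h a 0 = 0 := by
  rw [ten, tmul_zero, map_zero]

theorem homotopy_succ (n : ℕ) (x : (tensorBi P Q).Tot (n + 1)) :
    (tensorBi P Q).totD n (hTot P Q n x) + hTot P Q (n + 1) ((tensorBi P Q).totD (n + 1) x) =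
      x - piTot P Q (n + 1) x := by
  have key : (tensorBi P Q).totD n ∘ₗ hTot P Q n + hTot P Q (n + 1) ∘ₗ (tensorBi P Q).totD (n + 1) =
      LinearMap.id - piTot P Q (n + 1) := by
    refine ten_ext P Q fun i j e a b => ?_
    simp only [LinearMap.add_apply, LinearMap.comp_apply, LinearMap.sub_apply, LinearMap.id_apply, piTot_ten,
      totD_ten, map_add, map_smul]
    rcases i with _ | i <;> rcases j with _ | j
    · omega
    · rw [hTot_zero_succ, hTot_succ_succ, hTot_zero_succ, map_smul, totD_ten, P.d_π, ten_zero_left, P.π_d,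
        ten_zero_left, smul_zero, add_zero, zero_add, smul_smul, smul_smul, sgn_sq, one_smul, one_smul]
      rw [P.π_zero, ten_sub_left, ten_sub_left, ten_sub_left, Q.π_succ, ten_sub_right, ten_sub_right,
        ten_sub_right, ten_sub_right]
      abel
    · rw [hTot_succ_zero, hTot_succ_zero, hTot_succ_succ, totD_ten, P.π_succ, Q.π_zero]
      simp only [ten_sub_left, ten_sub_right, sgn_succ, neg_smul, smul_add, smul_sub, smul_neg, smul_smul,
        neg_mul, sgn_sq, one_smul, neg_neg]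
      abel
    · rw [hTot_succ_succ, hTot_succ_succ, hTot_succ_succ, map_add, map_smul, totD_ten, totD_ten, P.d_π,
        ten_zero_left, P.π_d, ten_zero_left, zero_add, smul_zero, add_zero, P.π_succ, Q.π_succ]
      simp only [ten_sub_left, ten_sub_right, sgn_succ, neg_smul, smul_add, smul_sub, smul_neg, smul_smul,
        neg_mul, sgn_sq, one_smul, neg_neg]
      abel
  exact LinearMap.congr_fun key x

theorem homotopy_zero (x : (tensorBi P Q).Tot 0) :
    hTot P Q 0 ((tensorBi P Q).totD 0 x) = x - piTot P Q 0 x := by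
  have key : hTot P Q 0 ∘ₗ (tensorBi P Q).totD 0 = LinearMap.id - piTot P Q 0 := by
    refine ten_ext P Q fun i j e a b => ?_
    obtain ⟨rfl, rfl⟩ : i = 0 ∧ j = 0 := by omega
    simp only [LinearMap.comp_apply, LinearMap.sub_apply, LinearMap.id_apply, piTot_ten,
      totD_ten, map_add, map_smul]
    rw [hTot_succ_zero, hTot_zero_succ, P.π_zero, Q.π_zero]
    simp only [ten_sub_left, ten_sub_right, smul_sub, smul_smul, sgn_sq, one_smul]
    abel
  exact LinearMap.congr_fun key x

lemma sub_piTot_mem : ∀ {n : ℕ} {z : (tensorBi P Q).Tot n}, z ∈ (tensorTot P Q).Z n →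
    z - piTot P Q n z ∈ (tensorTot P Q).B n
  | 0, z, hz => by
    have h := homotopy_zero P Q z
    rw [show (tensorBi P Q).totD 0 z = 0 from hz, map_zero] at h
    rw [← h]
    exact zero_mem _
  | n + 1, z, hz => by
    refine ⟨hTot P Q n z, ?_⟩
    have h := homotopy_succ P Q n z
    rw [show (tensorBi P Q).totD (n + 1) z = 0 from hz, map_zero, add_zero] at h
    exact h

lemma piTot_mem_Z (n : ℕ) (x : (tensorBi P Q).Tot n) : piTot P Q n x ∈ (tensorTot P Q).Z n := by
  have key : (tensorBi P Q).totD n ∘ₗ piTot P Q n = 0 := by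
    refine ten_ext P Q fun i j e a b => ?_
    rw [LinearMap.comp_apply, piTot_ten, totD_ten, P.d_π, Q.d_π, ten_zero_left, ten_zero_right, smul_zero, add_zero]
    rfl
  exact LinearMap.congr_fun key x

/-- The right-hand side of the Künneth formula. -/
abbrev KT (n : ℕ) : Type u := ∀ p : Idx n, P.Coh p.1.1 ⊗[k] Q.Coh p.1.2

/-- The classes of the components. -/
def classes (n : ℕ) : (tensorBi P Q).Tot n →ₗ[k] KT P Q n :=
  LinearMap.pi fun p => TensorProduct.map (P.q p.1.1) (Q.q p.1.2) ∘ₗ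
    LinearMap.proj (φ := fun p : Idx n => (tensorBi P Q).W p.1.1 p.1.2) p

lemma classes_apply {n : ℕ} (x : (tensorBi P Q).Tot n) (p : Idx n) :
    classes P Q n x p = TensorProduct.map (P.q p.1.1) (Q.q p.1.2) (x p) := rfl

lemma classes_ten_ne {n i j : ℕ} (h : i + j = n) (a : P.V i) (b : Q.V j) {p : Idx n} (hp : p.1 ≠ (i, j)) :
    classes P Q n (ten P Q i j h a b) p = 0 := by
  rw [classes_apply, ten, inc_apply_ne _ _ _ hp]; exact map_zero _

lemma classes_totD (n : ℕ) (x : (tensorBi P Q).Tot n) : classes P Q (n + 1) ((tensorBi P Q).totD n x) = 0 := by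
  suffices key : ∀ i j (e : i + j = n) a b, classes P Q (n + 1) ((tensorBi P Q).totD n (ten P Q i j e a b)) = 0 by
    exact LinearMap.congr_fun (ten_ext P Q (M := KT P Q (n + 1))
      (f := (classes P Q (n + 1)) ∘ₗ ((tensorBi P Q).totD n)) (g := 0) key) x
  intro i j e a b
  funext p
  rw [totD_ten, map_add, map_smul, Pi.add_apply, Pi.smul_apply,
    Pi.zero_apply]
  obtain ⟨⟨i', j'⟩, h'⟩ := p
  have e1 : classes P Q (n + 1) (ten P Q (i + 1) j (by omega) (P.d i a) b) ⟨(i', j'), h'⟩ = 0 := by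
    by_cases hp : (i', j') = (i + 1, j)
    · obtain ⟨rfl, rfl⟩ := Prod.mk.inj hp
      rw [classes_apply, ten, inc_apply_same]
      exact (TensorProduct.map_tmul _ _ _ _).trans (by rw [P.q_d, zero_tmul])
    · exact classes_ten_ne P Q _ _ _ hp
  have e2 : classes P Q (n + 1) (ten P Q i (j + 1) (by omega) a (Q.d j b)) ⟨(i', j'), h'⟩ = 0 := by
    by_cases hp : (i', j') = (i, j + 1)
    · obtain ⟨rfl, rfl⟩ := Prod.mk.inj hp
      rw [classes_apply, ten, inc_apply_same]
      exact (TensorProduct.map_tmul _ _ _ _).trans (by rw [Q.q_d, tmul_zero])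
    · exact classes_ten_ne P Q _ _ _ hp
  rw [e1, e2, smul_zero, add_zero]


/-- The map of the Künneth formula on cycles. -/
def kunnethZ (n : ℕ) : (tensorTot P Q).Z n →ₗ[k] KT P Q n :=
  classes P Q n ∘ₗ ((tensorTot P Q).Z n).subtype

lemma kunnethZ_surjective (n : ℕ) : Function.Surjective (kunnethZ P Q n) := by
  intro f
  choose g hg using fun p : Idx n =>
    TensorProduct.map_surjective (P.q_surjective p.1.1) (Q.q_surjective p.1.2) (f p)
  let x : (tensorBi P Q).Tot n := g
  -- correct to cycles by the idempotent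
  refine ⟨⟨piTot P Q n x, piTot_mem_Z P Q n x⟩, ?_⟩
  funext p
  show classes P Q n (piTot P Q n x) p = f p
  rw [classes_apply, piTot_apply, ← hg p, ← LinearMap.comp_apply, ← TensorProduct.map_comp]
  have hqP : ∀ (i : ℕ), P.q i ∘ₗ P.π i = P.q i := fun i => LinearMap.ext fun v =>
    (P.q_of_mem ⟨P.π i v, P.d_π i v⟩)
  have hqQ : ∀ (i : ℕ), Q.q i ∘ₗ Q.π i = Q.q i := fun i => LinearMap.ext fun v =>
    (Q.q_of_mem ⟨Q.π i v, Q.d_π i v⟩)
  rw [hqP, hqQ]

lemma kunnethZ_eq_zero_iff {n : ℕ} (z : (tensorTot P Q).Z n) :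
    kunnethZ P Q n z = 0 ↔ z.1 ∈ (tensorTot P Q).B n := by
  refine ⟨fun h => ?_, fun h => ?_⟩
  · have h1 : piTot P Q n (piTot P Q n z.1) = 0 := by
      funext p
      have h2 := congrArg (TensorProduct.map (P.rep p.1.1) (Q.rep p.1.2)) (congrFun h p)
      rw [Pi.zero_apply, map_zero] at h2
      rw [piTot_apply, piTot_apply, Pi.zero_apply, ← LinearMap.comp_apply, ← TensorProduct.map_comp, ← h2]
      show _ = TensorProduct.map _ _ (TensorProduct.map (P.q p.1.1) (Q.q p.1.2) (z.1 p))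
      rw [← LinearMap.comp_apply (TensorProduct.map _ _), ← TensorProduct.map_comp]
      rfl
    have h3 := add_mem (sub_piTot_mem P Q z.2) (sub_piTot_mem P Q (piTot_mem_Z P Q n z.1))
    rw [h1, sub_zero, sub_add_cancel] at h3
    exact h3
  · cases n with
    | zero => rw [show z = 0 from Subtype.ext h, map_zero]
    | succ n =>
      obtain ⟨v, hv⟩ := h
      show classes P Q (n + 1) z.1 = 0
      rw [← hv]
      exact classes_totD P Q n v

/-- The map of the Künneth formula. -/
def kunnethMap (n : ℕ) : (tensorTot P Q).Coh n →ₗ[k] KT P Q n :=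
  Submodule.liftQ (R := k) (R₂ := k) (τ₁₂ := RingHom.id k) (M₂ := KT P Q n) ((((tensorTot P Q).B n)).comap ((tensorTot P Q).Z n).subtype) (kunnethZ P Q n)
    fun z hz => LinearMap.mem_ker.2 ((kunnethZ_eq_zero_iff P Q z).2 hz)

lemma kunnethMap_cls {n : ℕ} (z : (tensorTot P Q).Z n) :
    kunnethMap P Q n ((tensorTot P Q).cls n z) = kunnethZ P Q n z := rfl

/-- The Künneth formula. -/
def kunneth (n : ℕ) : (tensorTot P Q).Coh n ≃ₗ[k] KT P Q n :=
  LinearEquiv.ofBijective (kunnethMap P Q n)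
    ⟨(injective_iff_map_eq_zero _).2 fun y hy => by
        obtain ⟨z, rfl⟩ := (tensorTot P Q).cls_surjective n y
        rw [kunnethMap_cls] at hy
        exact ((tensorTot P Q).cls_eq_zero_iff z).2 ((kunnethZ_eq_zero_iff P Q z).1 hy),
      fun f => by
        obtain ⟨z, rfl⟩ := kunnethZ_surjective P Q n f
        exact ⟨(tensorTot P Q).cls n z, kunnethMap_cls P Q z⟩⟩

lemma kunneth_cls {n : ℕ} (z : (tensorTot P Q).Z n) :
    kunneth P Q n ((tensorTot P Q).cls n z) = kunnethZ P Q n z := kunnethMap_cls P Q z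

end Groth.Agent.SegreLC
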