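import Groth.Agent.SegreLC.Tot

/-!
Graded local cohomology of a Segre product, through the tensor product of the complexes of the factors.
-/

set_option autoImplicit false
set_option linter.unusedSectionVars false
set_option linter.style.haveILetI false
set_option backward.isDefEq.respectTransparency false
set_option backward.isDefEq.respectTransparency.types false
universe u

open scoped Classical TensorProduct
open DirectSum Groth.Agent.GrLCLib

noncomputable section

namespace Groth.Agent.SegreLC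

variable {k : Type u} [Field k] {R : Type u} [CommRing R] [Algebra k R] {S : Type u} [CommRing S] [Algebra k S]
  {T : Type u} [CommRing T] [Algebra k T] {𝒜 : ℤ → Submodule k R} [GradedAlgebra 𝒜]
  {ℬ : ℤ → Submodule k S} [GradedAlgebra ℬ] {𝒯 : ℤ → Submodule k T} [GradedAlgebra 𝒯]
  (D : Datum 𝒜 ℬ 𝒯)
variable {M : Type u} [AddCommGroup M] [Module R M] [Module k M] [IsScalarTower k R M]
  {τ : Type u} [SetLike τ M] [AddSubgroupClass τ M] {ℳ : ℤ → τ} [DirectSum.Decomposition ℳ] [SetLike.GradedSMul 𝒜 ℳ]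
  {N : Type u} [AddCommGroup N] [Module S N] [Module k N] [IsScalarTower k S N]
  {τ' : Type u} [SetLike τ' N] [AddSubgroupClass τ' N] {𝒩 : ℤ → τ'} [DirectSum.Decomposition 𝒩] [SetLike.GradedSMul ℬ 𝒩]

/-- A Segre product module is a graded module. -/
theorem gradedSMul_of_isSegreMod {P : Type u} [AddCommGroup P] [Module T P] [Module k P] [IsScalarTower k T P]
    {υ : Type u} [SetLike υ P] [AddSubgroupClass υ P] {𝒬 : ℤ → υ} [DirectSum.Decomposition 𝒬]
    {φ : P →ₗ[k] M ⊗[k] N} (hP : GrSeg.IsSegreMod D.ψ ℳ 𝒩 𝒬 φ) : SetLike.GradedSMul 𝒯 𝒬 := by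
  constructor
  intro i j t x ht hx
  rw [vadd_eq_add]
  have hmem : φ (t • x) ∈ GrSeg.segrePiece k ℳ 𝒩 (i + j) := by
    rw [hP.map_smul]
    have hx' : φ x ∈ GrSeg.segrePiece k ℳ 𝒩 j := (hP.image_piece j).le ⟨x, hx, rfl⟩
    have h1 : GrSeg.segrePiece k 𝒜 ℬ i ≤ Submodule.comap ((GrSeg.act k R S M N).flip (φ x))
        (GrSeg.segrePiece k ℳ 𝒩 (i + j)) := by
      refine Submodule.span_le.2 ?_
      rintro _ ⟨a, ha, b, hb, rfl⟩
      show GrSeg.act k R S M N (a ⊗ₜ[k] b) (φ x) ∈ GrSeg.segrePiece k ℳ 𝒩 (i + j)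
      refine (Submodule.span_le.2 ?_ hx' : φ x ∈ (GrSeg.segrePiece k ℳ 𝒩 (i + j)).comap (GrSeg.act k R S M N (a ⊗ₜ[k] b)))
      rintro _ ⟨m, hm, n, hn, rfl⟩
      show GrSeg.act k R S M N (a ⊗ₜ[k] b) (m ⊗ₜ[k] n) ∈ GrSeg.segrePiece k ℳ 𝒩 (i + j)
      rw [GrSeg.act_tmul]
      exact Submodule.subset_span ⟨a • m, GrLCLib.smul_mem 𝒜 ℳ ha hm, b • n, GrLCLib.smul_mem ℬ 𝒩 hb hn, rfl⟩
    exact h1 (D.ψ_mem ht)
  obtain ⟨y, hy, hyx⟩ := (hP.image_piece (i + j)).ge hmem
  rwa [← hP.injective hyx]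

variable (E : GrLC.StarInjRes 𝒜 ℳ) (F : GrLC.StarInjRes ℬ 𝒩)
variable (d : ℤ) (a : Ideal R) (b : Ideal S)

/-- The projection to the tensor product of the complexes modulo torsion. -/
def pTot (n : ℕ) : (tensorBi (cxPiece E d) (cxPiece F d)).Tot n →ₗ[k] (tensorBi (cxQuot E d a) (cxQuot F d b)).Tot n :=
  LinearMap.pi fun p => TensorProduct.map (toQuot E d a p.1.1) (toQuot F d b p.1.2) ∘ₗ
    LinearMap.proj (φ := fun p : BiCx.Idx n => (tensorBi (cxPiece E d) (cxPiece F d)).W p.1.1 p.1.2) p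

lemma pTot_apply {n : ℕ} (x : (tensorBi (cxPiece E d) (cxPiece F d)).Tot n) (p : BiCx.Idx n) :
    pTot E F d a b n x p = TensorProduct.map (toQuot E d a p.1.1) (toQuot F d b p.1.2) (x p) := rfl

lemma pTot_ten {n i j : ℕ} (h : i + j = n) (x : (cxPiece E d).V i) (y : (cxPiece F d).V j) :
    pTot E F d a b n (ten _ _ i j h x y) = ten _ _ i j h (toQuot E d a i x) (toQuot F d b j y) := by
  funext p
  rw [pTot_apply]
  by_cases hp : p.1 = (i, j)
  · obtain ⟨⟨i', j'⟩, h'⟩ := p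
    obtain ⟨rfl, rfl⟩ : i' = i ∧ j' = j := Prod.mk.inj hp
    rw [ten, ten, BiCx.inc_apply_same, BiCx.inc_apply_same]
    exact TensorProduct.map_tmul _ _ _ _
  · rw [ten, ten, BiCx.inc_apply_ne _ _ _ hp, BiCx.inc_apply_ne _ _ _ hp]
    exact map_zero _

lemma pTot_comm (n : ℕ) (x : (tensorTot (cxPiece E d) (cxPiece F d)).V n) :
    pTot E F d a b (n + 1) ((tensorTot (cxPiece E d) (cxPiece F d)).d n x) =
      (tensorTot (cxQuot E d a) (cxQuot F d b)).d n (pTot E F d a b n x) := by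
  have key : pTot E F d a b (n + 1) ∘ₗ (tensorBi (cxPiece E d) (cxPiece F d)).totD n =
      (tensorBi (cxQuot E d a) (cxQuot F d b)).totD n ∘ₗ pTot E F d a b n := by
    refine ten_ext _ _ fun i j h u v => ?_
    rw [LinearMap.comp_apply, LinearMap.comp_apply, totD_ten, map_add, map_smul, pTot_ten, pTot_ten, pTot_ten,
      totD_ten]
    rfl
  exact LinearMap.congr_fun key x

lemma pTot_surjective (n : ℕ) : Function.Surjective (pTot E F d a b n) := by
  intro f
  choose g hg using fun p : BiCx.Idx n =>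
    TensorProduct.map_surjective (toQuot_surjective E d a p.1.1) (toQuot_surjective F d b p.1.2) (f p)
  exact ⟨g, funext hg⟩

/-- The torsion part of the tensor product of the two resolutions, in a degree. -/
abbrev segGam : Cx k :=
  Cx.ker (C := tensorTot (cxPiece E d) (cxPiece F d)) (C' := tensorTot (cxQuot E d a) (cxQuot F d b))
    (pTot E F d a b) (pTot_comm E F d a b)

/-- Above degree one the torsion part has the cohomology of the Künneth formula, shifted. -/
def segGamSuccEquiv (j : ℕ) : (segGam E F d a b).Coh (j + 1 + 1) ≃ₗ[k] KT (cxQuot E d a) (cxQuot F d b) (j + 1) :=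
  (Cx.cohSuccEquiv (C := tensorTot (cxPiece E d) (cxPiece F d)) (C' := tensorTot (cxQuot E d a) (cxQuot F d b))
      (pTot E F d a b) (pTot_comm E F d a b) (pTot_surjective E F d a b) j (exact_tensorTot E F d)).trans
    (kunneth (cxQuot E d a) (cxQuot F d b) (j + 1))

/-- Above degree one the cohomology modulo torsion is torsion cohomology, shifted. -/
def quotSuccEquiv (i : ℕ) : (cxGam E d a).Coh (i + 1 + 1) ≃ₗ[k] (cxQuot E d a).Coh (i + 1) :=
  Cx.cohSuccEquiv (toQuot E d a) (toQuot_comm E d a) (toQuot_surjective E d a) i (exact_cxPiece E d)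

/-- The piece mapping to the cohomology modulo torsion in degree zero. -/
def augQuot : kpiece 𝒜 ℳ d →ₗ[k] (cxQuot E d a).Coh 0 :=
  (cxQuot E d a).cls 0 ∘ₗ Cx.augMap (toQuot E d a) (toQuot_comm E d a) (epsPiece E d) (range_epsPiece E d)

lemma cls_zero_bijective (C : Cx k) : Function.Bijective (C.cls 0) :=
  ⟨(injective_iff_map_eq_zero _).2 fun z hz =>
    Subtype.ext ((Submodule.mem_bot k).1 ((C.cls_eq_zero_iff z).1 hz)), C.cls_surjective 0⟩

lemma augQuot_injective_iff : Function.Injective (augQuot E d a) ↔ Subsingleton ((cxGam E d a).Coh 0) := by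
  rw [← (Cx.cohZeroEquiv (toQuot E d a) (toQuot_comm E d a) (epsPiece E d) (range_epsPiece E d)
      (epsPiece_injective E d)).toEquiv.subsingleton_congr, Submodule.subsingleton_iff_eq_bot, LinearMap.ker_eq_bot,
    augQuot, LinearMap.coe_comp]
  exact (cls_zero_bijective _).injective.of_comp_iff _

lemma augQuot_surjective_iff : Function.Surjective (augQuot E d a) ↔ Subsingleton ((cxGam E d a).Coh 1) := by
  rw [(Cx.cohOneEquiv (toQuot E d a) (toQuot_comm E d a) (epsPiece E d) (range_epsPiece E d)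
      (toQuot_surjective E d a) (exact_cxPiece E d 0)).toEquiv.subsingleton_congr,
    Submodule.Quotient.subsingleton_iff, LinearMap.range_eq_top, augQuot, LinearMap.coe_comp]
  exact Function.Surjective.of_comp_iff' (cls_zero_bijective _) _

/-- The degree zero Künneth map. -/
def theta : (tensorTot (cxQuot E d a) (cxQuot F d b)).Z 0 →ₗ[k] (cxQuot E d a).Coh 0 ⊗[k] (cxQuot F d b).Coh 0 :=
  LinearMap.proj (φ := fun p : BiCx.Idx 0 => (cxQuot E d a).Coh p.1.1 ⊗[k] (cxQuot F d b).Coh p.1.2) ⟨(0, 0), rfl⟩ ∘ₗ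
    kunnethZ _ _ 0

lemma theta_bijective : Function.Bijective (theta E F d a b) := by
  refine ⟨(injective_iff_map_eq_zero _).2 fun z hz => ?_, fun w => ?_⟩
  · have h : kunnethZ (cxQuot E d a) (cxQuot F d b) 0 z = 0 := by
      funext p
      obtain ⟨⟨i, j⟩, h⟩ := p
      obtain ⟨rfl, rfl⟩ : i = 0 ∧ j = 0 := by simp at h; omega
      exact hz
    exact Subtype.ext ((Submodule.mem_bot k).1 ((kunnethZ_eq_zero_iff _ _ z).1 h))
  · obtain ⟨f, hf⟩ : ∃ f : KT (cxQuot E d a) (cxQuot F d b) 0, f ⟨(0, 0), rfl⟩ = w := by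
      exact ⟨Pi.single (M := fun p : BiCx.Idx 0 => (cxQuot E d a).Coh p.1.1 ⊗[k] (cxQuot F d b).Coh p.1.2) ⟨(0, 0), rfl⟩ w,
        Pi.single_eq_same _ _⟩
    obtain ⟨z, rfl⟩ := kunnethZ_surjective _ _ 0 f
    exact ⟨z, hf⟩

/-- The degree zero map of a Segre product. -/
abbrev augSeg : kpiece 𝒜 ℳ d ⊗[k] kpiece ℬ 𝒩 d →ₗ[k] (tensorTot (cxQuot E d a) (cxQuot F d b)).Z 0 :=
  Cx.augMap (C := tensorTot (cxPiece E d) (cxPiece F d)) (C' := tensorTot (cxQuot E d a) (cxQuot F d b))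
    (pTot E F d a b) (pTot_comm E F d a b) (epsTot E F d) (range_epsTot E F d)

lemma theta_augSeg :
    theta E F d a b ∘ₗ augSeg E F d a b = TensorProduct.map (augQuot E d a) (augQuot F d b) := by
  refine TensorProduct.ext' fun x y => ?_
  show TensorProduct.map ((cxQuot E d a).q 0) ((cxQuot F d b).q 0)
      (pTot E F d a b 0 (epsTot E F d (x ⊗ₜ[k] y)) ⟨(0, 0), rfl⟩) = _
  rw [pTot_apply, epsTot, LinearMap.comp_apply, BiCx.inc_apply_same, TensorProduct.map_tmul, TensorProduct.map_tmul]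
  refine congrArg₂ (· ⊗ₜ[k] ·) ?_ ?_
  · exact (cxQuot E d a).q_of_mem (Cx.augMap (toQuot E d a) (toQuot_comm E d a) (epsPiece E d) (range_epsPiece E d) x)
  · exact (cxQuot F d b).q_of_mem (Cx.augMap (toQuot F d b) (toQuot_comm F d b) (epsPiece F d) (range_epsPiece F d) y)

/-- Degree zero of the torsion part. -/
def segGamZeroEquiv : ↥(LinearMap.ker (TensorProduct.map (augQuot E d a) (augQuot F d b))) ≃ₗ[k] (segGam E F d a b).Coh 0 :=
  (LinearEquiv.ofEq _ (LinearMap.ker (augSeg E F d a b)) (by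
      rw [← theta_augSeg, LinearMap.ker_comp, LinearMap.ker_eq_bot.2 (theta_bijective E F d a b).injective,
        Submodule.comap_bot])).trans
    (Cx.cohZeroEquiv (C := tensorTot (cxPiece E d) (cxPiece F d)) (C' := tensorTot (cxQuot E d a) (cxQuot F d b))
      (pTot E F d a b) (pTot_comm E F d a b) (epsTot E F d) (range_epsTot E F d) (epsTot_injective E F d))

/-- Degree one of the torsion part. -/
def segGamOneEquiv : (segGam E F d a b).Coh 1 ≃ₗ[k]
    (tensorTot (cxQuot E d a) (cxQuot F d b)).Z 0 ⧸ LinearMap.range (augSeg E F d a b) :=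
  Cx.cohOneEquiv (C := tensorTot (cxPiece E d) (cxPiece F d)) (C' := tensorTot (cxQuot E d a) (cxQuot F d b))
    (pTot E F d a b) (pTot_comm E F d a b) (epsTot E F d) (range_epsTot E F d)
    (pTot_surjective E F d a b) (exact_tensorTot E F d 0)

lemma subsingleton_segGam_zero_iff :
    Subsingleton ((segGam E F d a b).Coh 0) ↔ Function.Injective (TensorProduct.map (augQuot E d a) (augQuot F d b)) := by
  rw [← (segGamZeroEquiv E F d a b).toEquiv.subsingleton_congr, Submodule.subsingleton_iff_eq_bot, LinearMap.ker_eq_bot]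

lemma subsingleton_segGam_one_iff :
    Subsingleton ((segGam E F d a b).Coh 1) ↔ Function.Surjective (TensorProduct.map (augQuot E d a) (augQuot F d b)) := by
  rw [(segGamOneEquiv E F d a b).toEquiv.subsingleton_congr,
    Submodule.Quotient.subsingleton_iff, LinearMap.range_eq_top, ← theta_augSeg, LinearMap.coe_comp]
  exact (Function.Surjective.of_comp_iff' (theta_bijective E F d a b) _).symm

variable {P : Type u} [AddCommGroup P] [Module T P] [Module k P] [IsScalarTower k T P]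
  {υ : Type u} [SetLike υ P] [AddSubgroupClass υ P] {𝒬 : ℤ → υ} [DirectSum.Decomposition 𝒬]
  [SetLike.GradedSMul 𝒯 𝒬] {φ : P →ₗ[k] M ⊗[k] N} (hP : GrSeg.IsSegreMod D.ψ ℳ 𝒩 𝒬 φ)
  (G : Gens D) (mR : HomogeneousIdeal 𝒜) (hmR : mR.toIdeal = posIdeal 𝒜)
  (mS : HomogeneousIdeal ℬ) (hmS : mS.toIdeal = posIdeal ℬ)
  (mT : HomogeneousIdeal 𝒯) (hmT : mT.toIdeal = posIdeal 𝒯)

include G hmR hmS hmT in
lemma iotaTot_mem_gam_iff {n : ℕ} (v : (tensorBi (cxPiece E d) (cxPiece F d)).Tot n) :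
    iotaTot D E F d n v ∈ GrLC.gam mT.toIdeal ((sbi D E F).Tot n) ↔ pTot E F d mR.toIdeal mS.toIdeal n v = 0 := by
  have hc : iotaTot D E F d n v ∈ GrLC.gam mT.toIdeal ((sbi D E F).Tot n) ↔
      ∀ p : BiCx.Idx n, iotaTot D E F d n v p ∈ GrLC.gam mT.toIdeal (Sg D (E.X p.1.1) (F.X p.1.2)) := by
    refine ⟨fun h p => map_mem_gam
      (LinearMap.proj (φ := fun p : BiCx.Idx n => Sg D (E.X p.1.1) (F.X p.1.2)) p) h, fun h => ?_⟩
    rw [← (sbi D E F).sum_inc (iotaTot D E F d n v)]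
    exact Submodule.sum_mem _ fun p _ => map_mem_gam _ (h p)
  rw [hc, funext_iff]
  exact forall_congr' fun p => sgMk_mem_gam_iff G hmR hmS hmT (E.X p.1.1) (F.X p.1.2) d (v p)

include hP G hmR hmS hmT in
/-- Graded local cohomology of a Segre product, degree by degree. -/
theorem exists_segEquiv (EP : GrLC.StarInjRes 𝒯 𝒬) (q : ℕ) :
    ∃ Φ : (segGam E F d mR.toIdeal mS.toIdeal).Coh q ≃+ EP.Hcomp mT q d,
      ∀ (c : k) y, Φ (c • y) =
        (⟨algebraMap k T c, SetLike.algebraMap_mem_graded 𝒯 c⟩ : GrLC.deg0 𝒯) • Φ y := by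
  haveI := G.noethT
  let K : GrLCVeronese.AcyRes 𝒬 mT := totRes D E F hP G mT hmT
  obtain ⟨c⟩ := GrLCVeronese.exists_cmap K EP
  let ι : ∀ n, (segGam E F d mR.toIdeal mS.toIdeal).V n →ₗ[k] (sbi D E F).Tot n := fun n =>
    iotaTot D E F d n ∘ₗ (LinearMap.ker (pTot E F d mR.toIdeal mS.toIdeal n)).subtype
  have hι : ∀ n x, ι (n + 1) ((segGam E F d mR.toIdeal mS.toIdeal).d n x) = (sbi D E F).totD n (ι n x) :=
    fun n x => iotaTot_totD D E F x.1
  have hgam : ∀ n x, ι n x ∈ GrLC.gam mT.toIdeal ((sbi D E F).Tot n) := fun n x =>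
    (iotaTot_mem_gam_iff D E F d G mR hmR mS hmS mT hmT x.1).2 x.2
  have hZ : ∀ n, ∀ x ∈ (segGam E F d mR.toIdeal mS.toIdeal).Z n, ι n x ∈ K.cocyc n := fun n x hx =>
    ⟨hgam n x, show (sbi D E F).totD n (ι n x) = 0 by
      rw [← hι, show (segGam E F d mR.toIdeal mS.toIdeal).d n x = 0 from hx, map_zero]⟩
  have hB : ∀ n x, ι n x ∈ K.cobdy n ↔ x ∈ (segGam E F d mR.toIdeal mS.toIdeal).B n := by
    intro n x
    cases n with
    | zero =>
      refine ⟨fun h => ?_, fun h => ?_⟩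
      · exact Subtype.ext (iotaTot_injective D E F d 0 (((Submodule.mem_bot T).1 h).trans (map_zero _).symm))
      · rw [(Submodule.mem_bot k).1 h, map_zero]; exact zero_mem _
    | succ n =>
      refine ⟨fun h => ?_, fun ⟨y, hy⟩ => ⟨ι n y, hgam n y, by rw [← hy]; exact (hι n y).symm⟩⟩
      obtain ⟨w, hw, hwx⟩ : ∃ w : (sbi D E F).Tot n,
          w ∈ GrLC.gam mT.toIdeal ((sbi D E F).Tot n) ∧ (sbi D E F).totD n w = ι (n + 1) x := h
      obtain ⟨v, hv⟩ := exists_iotaTot D E F (pr_mem (totPiece D E F n) d w)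
      have hvg : iotaTot D E F d n v ∈ GrLC.gam mT.toIdeal ((sbi D E F).Tot n) := by
        rw [hv]; exact homog_gam 𝒯 (ℳ := totPiece D E F n) mT w hw d
      refine ⟨⟨v, (iotaTot_mem_gam_iff D E F d G mR hmR mS hmS mT hmT v).1 hvg⟩, Subtype.ext ?_⟩
      refine iotaTot_injective D E F d (n + 1) ?_
      show iotaTot D E F d (n + 1) ((tensorBi (cxPiece E d) (cxPiece F d)).totD n v) = ι (n + 1) x
      rw [iotaTot_totD, hv, ← pr_map (totPiece D E F n) (totPiece D E F (n + 1)) (totD_grHom D E F n),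
        show (sbi D E F).totD n w = ι (n + 1) x from hwx]
      exact pr_of_mem _ (iotaTot_mem D E F d (n + 1) x.1)
  refine exists_cohEquiv EP mT (segGam E F d mR.toIdeal mS.toIdeal) q d
    ((c.ψ q).toAddMonoidHom.comp (ι q).toAddMonoidHom)
    (fun x => c.gr q d _ (iotaTot_mem D E F d q x.1)) (fun e x => ?_) (fun x hx => c.map_cocyc (hZ q x hx))
    (fun x hx => (c.map_cobdy_iff (hZ q x hx)).trans (hB q x)) fun u hu huc => ?_
  · show c.ψ q (ι q (e • x)) = algebraMap k T e • c.ψ q (ι q x)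
    rw [(ι q).map_smul, ← algebraMap_smul T e (ι q x)]
    exact map_smul (c.ψ q) _ _
  · obtain ⟨z, hz, hzc, hd⟩ := c.exists_homog_cocyc_sub hu huc
    obtain ⟨v, hv⟩ := exists_iotaTot D E F hz
    have hvg : iotaTot D E F d q v ∈ GrLC.gam mT.toIdeal ((sbi D E F).Tot q) := by rw [hv]; exact hzc.1
    refine ⟨⟨v, (iotaTot_mem_gam_iff D E F d G mR hmR mS hmS mT hmT v).1 hvg⟩, Subtype.ext ?_, ?_⟩
    · refine iotaTot_injective D E F d (q + 1) ?_
      show iotaTot D E F d (q + 1) ((tensorBi (cxPiece E d) (cxPiece F d)).totD q v) = iotaTot D E F d (q + 1) 0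
      rw [iotaTot_totD, hv, map_zero]
      exact hzc.2
    · show u - c.ψ q (iotaTot D E F d q v) ∈ EP.cobdy mT q
      rw [hv]
      exact hd

end Groth.Agent.SegreLC
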