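import Groth.Agent.SegreLC.Main
import Groth.Agent.SegreLC.FinPieces

/-!
Dimensions of the pieces of the local cohomology of a Segre product.
-/

set_option autoImplicit false
set_option linter.unusedSectionVars false
set_option linter.style.haveILetI false
set_option backward.isDefEq.respectTransparency false
set_option backward.isDefEq.respectTransparency.types false
universe u

open scoped Classical TensorProduct
open DirectSum Groth.Agent.GrLCLib

noncomputable section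

namespace Groth.Agent.SegreLC

section One

variable {k : Type u} [Field k] {R : Type u} [CommRing R] [Algebra k R] {𝒜 : ℤ → Submodule k R} [GradedAlgebra 𝒜]
  {M : Type u} [AddCommGroup M] [Module R M] [Module k M] [IsScalarTower k R M]
  {τ : Type u} [SetLike τ M] [AddSubgroupClass τ M] {ℳ : ℤ → τ} [DirectSum.Decomposition ℳ] [SetLike.GradedSMul 𝒜 ℳ]
  (hpos : ∀ n : ℤ, n < 0 → 𝒜 n = ⊥) (h0 : 𝒜 0 = Submodule.span k {(1 : R)})
  (mR : HomogeneousIdeal 𝒜) (hmR : mR.toIdeal = posIdeal 𝒜) (E : GrLC.StarInjRes 𝒜 ℳ) (d : ℤ)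

include hmR in
lemma exists_irr_gens [IsNoetherianRing R] :
    ∃ (s : ℕ) (f : Fin s → R) (dg : Fin s → ℤ), (∀ j, f j ∈ 𝒜 (dg j)) ∧ (∀ j, 0 < dg j) ∧
      mR.toIdeal = Ideal.span (Set.range f) ∧ ∀ e : ℤ, 0 < e → ∀ r ∈ 𝒜 e, r ∈ mR.toIdeal := by
  obtain ⟨W, hW, hWs⟩ := (Submodule.fg_span_iff_fg_span_finset_subset _).1
    (show (Ideal.span (⋃ n ∈ Set.Ioi (0 : ℤ), (𝒜 n : Set R))).FG from IsNoetherian.noetherian _)
  have hmem : ∀ b : Fin W.card, ∃ e : ℤ, 0 < e ∧ ((W.equivFin.symm b : W) : R) ∈ 𝒜 e := fun b => by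
    obtain ⟨e, he, h⟩ := Set.mem_iUnion₂.1 (hW (W.equivFin.symm b).2)
    exact ⟨e, he, h⟩
  choose dg hdg hf using hmem
  refine ⟨W.card, fun b => ((W.equivFin.symm b : W) : R), dg, hf, hdg, ?_, fun e he r hr => hmR ▸ mem_posIdeal 𝒜 he hr⟩
  refine hmR.trans (hWs.trans (congrArg (Submodule.span R) (Set.ext fun y =>
    ⟨fun hy => ⟨W.equivFin ⟨y, hy⟩, by simp⟩, ?_⟩)))
  rintro ⟨b, rfl⟩
  exact (W.equivFin.symm b).2

include hpos in
lemma eq_zero_of_neg : ∀ n : ℤ, n < 0 → ∀ r ∈ 𝒜 n, r = 0 := fun n hn r hr =>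
  (Submodule.mem_bot k).1 (hpos n hn ▸ hr)

/-- Finiteness passes along a semilinear bijection. -/
lemma finite_of_semilinear [Nontrivial R] (h0 : 𝒜 0 = Submodule.span k {(1 : R)}) {V W : Type u} [AddCommGroup V]
    [Module k V] [AddCommGroup W] [Module (GrLC.deg0 𝒜) W] [Module.Finite (GrLC.deg0 𝒜) W] (φ : V ≃+ W)
    (hφ : ∀ (c : k) y, φ (c • y) = (deg0Equiv h0 c) • φ y) : Module.Finite k V := by
  let σ : GrLC.deg0 𝒜 →+* k := (deg0Equiv h0).symm.toRingHom
  haveI : RingHomSurjective σ := ⟨(deg0Equiv h0).symm.surjective⟩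
  let g : W →ₛₗ[σ] V :=
    { toFun := φ.symm
      map_add' := φ.symm.map_add
      map_smul' := fun c w => φ.injective (by
        rw [φ.apply_symm_apply, hφ, φ.apply_symm_apply]
        exact congrArg (· • w) ((deg0Equiv h0).apply_symm_apply c).symm) }
  exact Module.Finite.of_surjective g φ.symm.surjective

include hpos h0 hmR in
theorem finite_piece [Nontrivial R] [Algebra.FiniteType k R] [Module.Finite R M] :
    Module.Finite k (kpiece 𝒜 ℳ d) := by
  haveI : IsNoetherianRing R := Algebra.FiniteType.isNoetherianRing k R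
  obtain ⟨s, f, dg, hf, hdg, ha, hin⟩ := exists_irr_gens mR hmR
  haveI := FP.finite_comp_mod mR hf hdg (eq_zero_of_neg hpos) ha hin ℳ d
  let e : kpiece 𝒜 ℳ d ≃+ GrLC.comp 𝒜 ℳ d :=
    { toFun := fun x => ⟨x.1, x.2⟩, invFun := fun x => ⟨x.1, x.2⟩, map_add' := fun _ _ => rfl }
  exact finite_of_semilinear h0 e fun c x => Subtype.ext (algebraMap_smul R c (x : M)).symm

theorem finrank_piece [Nontrivial R] (h0 : 𝒜 0 = Submodule.span k {(1 : R)}) :
    Module.finrank (GrLC.deg0 𝒜) (GrLC.comp 𝒜 ℳ d) = Module.finrank k (kpiece 𝒜 ℳ d) :=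
  finrank_deg0 h0 (kpiece 𝒜 ℳ d) (GrLC.comp 𝒜 ℳ d) rfl

include hpos h0 hmR in
theorem finite_gam [Nontrivial R] [Algebra.FiniteType k R] [Module.Finite R M] (i : ℕ) :
    Module.Finite k ((cxGam E d mR.toIdeal).Coh i) := by
  haveI : IsNoetherianRing R := Algebra.FiniteType.isNoetherianRing k R
  obtain ⟨s, f, dg, hf, hdg, ha, hin⟩ := exists_irr_gens mR hmR
  haveI := FP.isNoetherianRing_deg0 (R := R) (𝒜 := 𝒜) (eq_zero_of_neg hpos)
  haveI : Module.Finite R (objOf 𝒜 ℳ).carrier := inferInstanceAs (Module.Finite R M)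
  let E' : GrLC.StarInjRes 𝒜 (objOf 𝒜 ℳ).gr :=
    { X := E.X, d := E.d, ε := E.ε, d_grHom := E.d_grHom, ε_grHom := E.ε_grHom, ε_injective := E.ε_injective,
      exact_zero := E.exact_zero, exact_succ := E.exact_succ, starInj := E.starInj }
  haveI : Module.Finite (GrLC.deg0 𝒜) (E.Hcomp mR i d) :=
    FP.finite_hcomp mR hf hdg (eq_zero_of_neg hpos) ha hin _ (objOf 𝒜 ℳ) rfl E' i d
  obtain ⟨φ, hφ⟩ := exists_gamEquiv E d mR i
  exact finite_of_semilinear h0 φ hφ

theorem finrank_gam [Nontrivial R] (h0 : 𝒜 0 = Submodule.span k {(1 : R)}) (i : ℕ) :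
    Module.finrank (GrLC.deg0 𝒜) (E.Hcomp mR i d) = Module.finrank k ((cxGam E d mR.toIdeal).Coh i) := by
  obtain ⟨φ, hφ⟩ := exists_gamEquiv E d mR i
  exact finrank_of_cohEquiv E mR h0 φ hφ

theorem hcomp_eq_bot_iff_gam (i : ℕ) : E.Hcomp mR i d = ⊥ ↔ Subsingleton ((cxGam E d mR.toIdeal).Coh i) := by
  obtain ⟨φ, -⟩ := exists_gamEquiv E d mR i
  exact hcomp_eq_bot_of_equiv E mR φ

lemma subsingleton_quot_succ (i : ℕ) :
    Subsingleton ((cxQuot E d mR.toIdeal).Coh (i + 1)) ↔ E.Hcomp mR (i + 1 + 1) d = ⊥ :=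
  (quotSuccEquiv E d mR.toIdeal i).symm.toEquiv.subsingleton_congr.trans (hcomp_eq_bot_iff_gam mR E d _).symm

theorem augQuot_bijective (h : ∀ q ≤ 1, E.Hcomp mR q d = ⊥) : Function.Bijective (augQuot E d mR.toIdeal) :=
  ⟨(augQuot_injective_iff E d _).2 ((hcomp_eq_bot_iff_gam mR E d 0).1 (h 0 zero_le_one)),
    (augQuot_surjective_iff E d _).2 ((hcomp_eq_bot_iff_gam mR E d 1).1 (h 1 le_rfl))⟩

end One

variable {k : Type u} [Field k] {R : Type u} [CommRing R] [Algebra k R] {S : Type u} [CommRing S] [Algebra k S]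
  {T : Type u} [CommRing T] [Algebra k T] {𝒜 : ℤ → Submodule k R} [GradedAlgebra 𝒜]
  {ℬ : ℤ → Submodule k S} [GradedAlgebra ℬ] {𝒯 : ℤ → Submodule k T} [GradedAlgebra 𝒯]
  (D : Datum 𝒜 ℬ 𝒯)
variable {M : Type u} [AddCommGroup M] [Module R M] [Module k M] [IsScalarTower k R M]
  {τ : Type u} [SetLike τ M] [AddSubgroupClass τ M] {ℳ : ℤ → τ} [DirectSum.Decomposition ℳ] [SetLike.GradedSMul 𝒜 ℳ]
  {N : Type u} [AddCommGroup N] [Module S N] [Module k N] [IsScalarTower k S N]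
  {τ' : Type u} [SetLike τ' N] [AddSubgroupClass τ' N] {𝒩 : ℤ → τ'} [DirectSum.Decomposition 𝒩] [SetLike.GradedSMul ℬ 𝒩]
  {P : Type u} [AddCommGroup P] [Module T P] [Module k P] [IsScalarTower k T P]
  {υ : Type u} [SetLike υ P] [AddSubgroupClass υ P] {𝒬 : ℤ → υ} [DirectSum.Decomposition 𝒬]
  [SetLike.GradedSMul 𝒯 𝒬] {φ : P →ₗ[k] M ⊗[k] N} (hP : GrSeg.IsSegreMod D.ψ ℳ 𝒩 𝒬 φ)
  (G : Gens D) (mR : HomogeneousIdeal 𝒜) (hmR : mR.toIdeal = posIdeal 𝒜)
  (mS : HomogeneousIdeal ℬ) (hmS : mS.toIdeal = posIdeal ℬ)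
  (mT : HomogeneousIdeal 𝒯) (hmT : mT.toIdeal = posIdeal 𝒯)
  (E : GrLC.StarInjRes 𝒜 ℳ) (F : GrLC.StarInjRes ℬ 𝒩) (EP : GrLC.StarInjRes 𝒯 𝒬) (d : ℤ)

include hP G hmR hmS hmT in
theorem hcomp_seg_eq_bot_iff (q : ℕ) :
    EP.Hcomp mT q d = ⊥ ↔ Subsingleton ((segGam E F d mR.toIdeal mS.toIdeal).Coh q) := by
  obtain ⟨Φ, -⟩ := exists_segEquiv D E F d hP G mR hmR mS hmS mT hmT EP q
  exact hcomp_eq_bot_of_equiv EP mT Φ

include hP G hmR hmS hmT in
theorem finrank_seg [Nontrivial T] (h0T : 𝒯 0 = Submodule.span k {(1 : T)}) (q : ℕ) :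
    Module.finrank (GrLC.deg0 𝒯) (EP.Hcomp mT q d) = Module.finrank k ((segGam E F d mR.toIdeal mS.toIdeal).Coh q) := by
  obtain ⟨Φ, hΦ⟩ := exists_segEquiv D E F d hP G mR hmR mS hmS mT hmT EP q
  exact finrank_of_cohEquiv EP mT h0T Φ hΦ

lemma sum_range_shift (q : ℕ) (m n : ℕ) (c c' α β : ℕ → ℕ) (hc0 : c 0 = m) (hc0' : c' 0 = n)
    (hc : ∀ i, c (i + 1) = α (i + 2)) (hc' : ∀ i, c' (i + 1) = β (i + 2))
    (hα : α 0 = 0) (hα1 : α 1 = 0) (hβ : β 0 = 0) (hβ1 : β 1 = 0) :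
    ∑ i ∈ Finset.range (q + 2), c i * c' (q + 1 - i) =
      m * β (q + 2) + α (q + 2) * n + ∑ i ∈ Finset.range (q + 4), α i * β (q + 3 - i) := by
  rw [Finset.sum_range_succ _ (q + 1), Finset.sum_range_succ' _ q, Nat.sub_self, hc0', hc, Nat.sub_zero, hc0, hc',
    Finset.sum_range_succ' _ (q + 3), Finset.sum_range_succ' _ (q + 2), Finset.sum_range_succ _ (q + 1),
    Finset.sum_range_succ _ q]
  have e1 : q + 3 - (q + 1 + 1) = 1 := by omega
  have e2 : q + 3 - (q + 1 + 1 + 1) = 0 := by omega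
  rw [e1, e2, hβ, hβ1, hα1, hα, mul_zero, mul_zero, zero_mul, zero_mul, add_zero, add_zero, add_zero, add_zero]
  have e3 : ∀ i ∈ Finset.range q, c (i + 1) * c' (q + 1 - (i + 1)) = α (i + 1 + 1) * β (q + 3 - (i + 1 + 1)) := by
    intro i hi
    have hi' := Finset.mem_range.1 hi
    obtain ⟨l, hl⟩ : ∃ l, q + 1 - (i + 1) = l + 1 := ⟨q - i - 1, by omega⟩
    rw [hc, hl, hc', show q + 3 - (i + 1 + 1) = l + 2 by omega]
  rw [Finset.sum_congr rfl e3]
  ring

include hP G hmR hmS hmT in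
/-- The dimension formula in depth at least two. -/
theorem finrank_seg_of_depth_two [Nontrivial R] [Nontrivial S] [Nontrivial T]
    (hposR : ∀ n : ℤ, n < 0 → 𝒜 n = ⊥) (h0R : 𝒜 0 = Submodule.span k {(1 : R)}) [Algebra.FiniteType k R]
    [Module.Finite R M] (hposS : ∀ n : ℤ, n < 0 → ℬ n = ⊥) (h0S : ℬ 0 = Submodule.span k {(1 : S)})
    [Algebra.FiniteType k S] [Module.Finite S N] (h0T : 𝒯 0 = Submodule.span k {(1 : T)})
    (hM : ∀ q ≤ 1, E.Hcomp mR q d = ⊥) (hN : ∀ q ≤ 1, F.Hcomp mS q d = ⊥) (q : ℕ) :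
    Module.finrank (GrLC.deg0 𝒯) (EP.Hcomp mT q d) =
      Module.finrank k (kpiece 𝒜 ℳ d) * Module.finrank (GrLC.deg0 ℬ) (F.Hcomp mS q d) +
        Module.finrank (GrLC.deg0 𝒜) (E.Hcomp mR q d) * Module.finrank k (kpiece ℬ 𝒩 d) +
          (Finset.range (q + 2)).sum (fun i =>
            Module.finrank (GrLC.deg0 𝒜) (E.Hcomp mR i d) * Module.finrank (GrLC.deg0 ℬ) (F.Hcomp mS (q + 1 - i) d)) := by
  simp only [finrank_gam mR E d h0R, finrank_gam mS F d h0S, finrank_seg D hP G mR hmR mS hmS mT hmT E F EP d h0T]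
  have hE := augQuot_bijective mR E d hM
  have hF := augQuot_bijective mS F d hN
  have hα : ∀ i ≤ 1, Module.finrank k ((cxGam E d mR.toIdeal).Coh i) = 0 := fun i hi => by
    haveI := (hcomp_eq_bot_iff_gam mR E d i).1 (hM i hi)
    exact Module.finrank_zero_of_subsingleton
  have hβ : ∀ i ≤ 1, Module.finrank k ((cxGam F d mS.toIdeal).Coh i) = 0 := fun i hi => by
    haveI := (hcomp_eq_bot_iff_gam mS F d i).1 (hN i hi)
    exact Module.finrank_zero_of_subsingleton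
  match q with
  | 0 =>
    haveI : Subsingleton ((segGam E F d mR.toIdeal mS.toIdeal).Coh 0) := (subsingleton_segGam_zero_iff E F d _ _).2
      (TensorProduct.map_injective_of_flat_flat _ _ hE.injective hF.injective)
    simp [Module.finrank_zero_of_subsingleton, Finset.sum_range_succ, hα, hβ]
  | 1 =>
    haveI : Subsingleton ((segGam E F d mR.toIdeal mS.toIdeal).Coh 1) := (subsingleton_segGam_one_iff E F d _ _).2
      (TensorProduct.map_surjective hE.surjective hF.surjective)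
    simp [Module.finrank_zero_of_subsingleton, Finset.sum_range_succ, hα, hβ]
  | j + 2 =>
    haveI := finite_piece (ℳ := ℳ) hposR h0R mR hmR d
    haveI := finite_piece (ℳ := 𝒩) hposS h0S mS hmS d
    have fE : ∀ i, Module.Finite k ((cxQuot E d mR.toIdeal).Coh i) := fun i => by
      cases i with
      | zero => exact Module.Finite.equiv (LinearEquiv.ofBijective _ hE)
      | succ i => exact (haveI := finite_gam hposR h0R mR hmR E d (i + 1 + 1); Module.Finite.equiv (quotSuccEquiv E d _ i))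
    have fF : ∀ i, Module.Finite k ((cxQuot F d mS.toIdeal).Coh i) := fun i => by
      cases i with
      | zero => exact Module.Finite.equiv (LinearEquiv.ofBijective _ hF)
      | succ i => exact (haveI := finite_gam hposS h0S mS hmS F d (i + 1 + 1); Module.Finite.equiv (quotSuccEquiv F d _ i))
    rw [(segGamSuccEquiv E F d mR.toIdeal mS.toIdeal j).finrank_eq, Module.finrank_pi_fintype]
    simp only [Module.finrank_tensorProduct]
    rw [← Finset.sum_subtype (Finset.HasAntidiagonal.antidiagonal (j + 1)) (fun _ => Finset.HasAntidiagonal.mem_antidiagonal)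
        (fun p : ℕ × ℕ => Module.finrank k ((cxQuot E d mR.toIdeal).Coh p.1) * Module.finrank k ((cxQuot F d mS.toIdeal).Coh p.2)),
      Finset.Nat.sum_antidiagonal_eq_sum_range_succ
        (fun i l => Module.finrank k ((cxQuot E d mR.toIdeal).Coh i) * Module.finrank k ((cxQuot F d mS.toIdeal).Coh l))]
    exact sum_range_shift j _ _ (fun i => Module.finrank k ((cxQuot E d mR.toIdeal).Coh i))
      (fun i => Module.finrank k ((cxQuot F d mS.toIdeal).Coh i)) (fun i => Module.finrank k ((cxGam E d mR.toIdeal).Coh i))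
      (fun i => Module.finrank k ((cxGam F d mS.toIdeal).Coh i)) (LinearEquiv.ofBijective _ hE).finrank_eq.symm
      (LinearEquiv.ofBijective _ hF).finrank_eq.symm (fun i => (quotSuccEquiv E d _ i).finrank_eq.symm)
      (fun i => (quotSuccEquiv F d _ i).finrank_eq.symm) (hα 0 zero_le_one) (hα 1 le_rfl) (hβ 0 zero_le_one) (hβ 1 le_rfl)

end Groth.Agent.SegreLC
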