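import Groth.Agent.SegreLC.Torsion
import Groth.Agent.SegreLC.Ker
import Groth.Agent.SegreLC.Kunneth
import Groth.Agent.GrLCLib.Cohom

/-!
A graded injective resolution and its torsion, degree by degree.
-/

set_option autoImplicit false
set_option linter.unusedSectionVars false
set_option linter.style.haveILetI false
set_option backward.isDefEq.respectTransparency false
set_option backward.isDefEq.respectTransparency.types false
universe u

open scoped Classical TensorProduct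
open DirectSum Groth.Agent.GrLCLib

noncomputable section

namespace Groth.Agent.SegreLC

variable {k : Type u} [Field k] {R : Type u} [CommRing R] [Algebra k R] {𝒜 : ℤ → Submodule k R} [GradedAlgebra 𝒜]
  {M : Type u} [AddCommGroup M] [Module R M] [Module k M] [IsScalarTower k R M]
  {τ : Type u} [SetLike τ M] [AddSubgroupClass τ M] {ℳ : ℤ → τ} [DirectSum.Decomposition ℳ] [SetLike.GradedSMul 𝒜 ℳ]

section Compare

variable (F : GrLC.StarInjRes 𝒜 ℳ) (a : HomogeneousIdeal 𝒜) (K : Cx k)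

/-- A complex of vector spaces computing a piece of graded local cohomology. -/
theorem exists_cohEquiv (i : ℕ) (e : ℤ)
    (g : K.V i →+ (F.X i).carrier) (hgr : ∀ x, g x ∈ (F.X i).gr e)
    (hsemi : ∀ (c : k) x, g (c • x) = algebraMap k R c • g x)
    (hZ : ∀ x ∈ K.Z i, g x ∈ F.cocyc a i) (hB : ∀ x ∈ K.Z i, (g x ∈ F.cobdy a i ↔ x ∈ K.B i))
    (hsurj : ∀ u ∈ (F.X i).gr e, u ∈ F.cocyc a i → ∃ x ∈ K.Z i, u - g x ∈ F.cobdy a i) :
    ∃ φ : K.Coh i ≃+ F.Hcomp a i e,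
      ∀ (c : k) y, φ (c • y) =
        (⟨algebraMap k R c, SetLike.algebraMap_mem_graded 𝒜 c⟩ : GrLC.deg0 𝒜) • φ y := by
  let σ : k →+* GrLC.deg0 𝒜 := (algebraMap k R).codRestrict (GrLC.deg0 𝒜) fun c => SetLike.algebraMap_mem_graded 𝒜 c
  letI : Module k (F.Hcomp a i e) := Module.compHom _ σ
  let f : K.Z i →ₗ[k] F.Hcomp a i e :=
    { toFun := fun x => ⟨F.toH a i ⟨g x, hZ x x.2⟩, ⟨_, hgr _, rfl⟩⟩
      map_add' := fun x y => Subtype.ext
        ((congrArg (F.toH a i) (Subtype.ext (map_add g x.1 y.1))).trans (map_add _ _ _))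
      map_smul' := fun c x => Subtype.ext
        ((congrArg (F.toH a i) (Subtype.ext (hsemi c x.1))).trans (map_smul (F.toH a i) (algebraMap k R c) _)) }
  have hker : ∀ x : K.Z i, f x = 0 ↔ x.1 ∈ K.B i := fun x => by
    rw [Subtype.ext_iff]
    exact (Submodule.Quotient.mk_eq_zero _).trans (hB x.1 x.2)
  let φ₀ : K.Coh i →ₗ[k] F.Hcomp a i e :=
    Submodule.liftQ (R := k) (R₂ := k) (τ₁₂ := RingHom.id k) (M₂ := F.Hcomp a i e) ((K.B i).comap (K.Z i).subtype) f
      fun x hx => LinearMap.mem_ker.2 ((hker x).2 hx)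
  have hφ₀ : ∀ x, φ₀ (K.cls i x) = f x := fun x => rfl
  have hbij : Function.Bijective φ₀ := by
    refine ⟨(injective_iff_map_eq_zero φ₀).2 fun y hy => ?_, ?_⟩
    · obtain ⟨x, rfl⟩ := K.cls_surjective i y
      rw [hφ₀] at hy
      exact (K.cls_eq_zero_iff x).2 ((hker x).1 hy)
    · rintro ⟨_, u, hu, rfl⟩
      obtain ⟨x, hx, hd⟩ := hsurj u.1 hu u.2
      refine ⟨K.cls i ⟨x, hx⟩, ?_⟩
      rw [hφ₀]
      refine Subtype.ext ((Submodule.Quotient.eq _).2 ?_)
      show g x - u.1 ∈ F.cobdy a i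
      rw [← neg_sub]
      exact Submodule.neg_mem _ hd
  exact ⟨AddEquiv.ofBijective φ₀.toAddMonoidHom hbij, fun c y => map_smul φ₀ c y⟩

theorem finrank_of_cohEquiv [Nontrivial R] (h0 : 𝒜 0 = Submodule.span k {(1 : R)}) {i : ℕ} {e : ℤ} {V : Type u}
    [AddCommGroup V] [Module k V] (φ : V ≃+ F.Hcomp a i e)
    (hφ : ∀ (c : k) y, φ (c • y) =
      (⟨algebraMap k R c, SetLike.algebraMap_mem_graded 𝒜 c⟩ : GrLC.deg0 𝒜) • φ y) :
    Module.finrank (GrLC.deg0 𝒜) (F.Hcomp a i e) = Module.finrank k V :=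
  (congrArg Cardinal.toNat (rank_eq_of_equiv_equiv (deg0Equiv h0) φ (deg0Equiv h0).bijective hφ)).symm

lemma hcomp_eq_bot_of_equiv {i : ℕ} {e : ℤ} {V : Type u} [AddCommGroup V] (φ : V ≃+ F.Hcomp a i e) :
    F.Hcomp a i e = ⊥ ↔ Subsingleton V :=
  Submodule.subsingleton_iff_eq_bot.symm.trans φ.toEquiv.subsingleton_congr.symm

end Compare

variable (E : GrLC.StarInjRes 𝒜 ℳ) (d : ℤ)

/-- The pieces of a resolution. -/
abbrev cxPiece : Cx k where
  V i := kpiece 𝒜 (E.X i).gr d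
  d i := kpieceMap (E.d i) (E.d_grHom i) d
  d_d i x := Subtype.ext (GrLCLib.d_d E i x.1)

/-- The augmentation in a piece. -/
def epsPiece : kpiece 𝒜 ℳ d →ₗ[k] (cxPiece E d).V 0 := kpieceMap E.ε E.ε_grHom d

lemma epsPiece_apply (x : kpiece 𝒜 ℳ d) : ((epsPiece E d x : (cxPiece E d).V 0) : (E.X 0).carrier) = E.ε x := rfl

lemma epsPiece_injective : Function.Injective (epsPiece E d) := fun _ _ h =>
  Subtype.ext (E.ε_injective (congrArg Subtype.val h))

lemma range_epsPiece : LinearMap.range (epsPiece E d) = (cxPiece E d).Z 0 := by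
  ext x
  constructor
  · rintro ⟨m, rfl⟩
    exact Subtype.ext (GrLCLib.d_ε E m.1)
  · intro hx
    obtain ⟨m, hm, hmx⟩ := GrLCLib.exists_preimage ℳ (E.X 0).gr E.ε_grHom x.2
      (E.exact_zero.le (congrArg Subtype.val hx : E.d 0 x.1 = 0))
    exact ⟨⟨m, hm⟩, Subtype.ext hmx⟩

lemma exact_cxPiece (i : ℕ) : (cxPiece E d).Z (i + 1) ≤ (cxPiece E d).B (i + 1) := by
  intro x hx
  obtain ⟨w, hw, hwx⟩ := GrLCLib.exists_preimage (E.X i).gr (E.X (i + 1)).gr (E.d_grHom i) x.2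
    ((E.exact_succ i).le (congrArg Subtype.val hx : E.d (i + 1) x.1 = 0))
  exact ⟨⟨w, hw⟩, Subtype.ext hwx⟩

lemma subsingleton_coh_cxPiece (i : ℕ) : Subsingleton ((cxPiece E d).Coh (i + 1)) :=
  ((cxPiece E d).subsingleton_coh_iff _).2 (exact_cxPiece E d i)

variable (a : Ideal R)

lemma kgam_le_comap (i : ℕ) :
    kgam a (E.X i) d ≤ (kgam a (E.X (i + 1)) d).comap ((cxPiece E d).d i) := fun _ hx =>
  map_mem_gam (E.d i) hx

/-- The pieces of a resolution modulo torsion. -/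
abbrev cxQuot : Cx k where
  V i := (cxPiece E d).V i ⧸ kgam a (E.X i) d
  d i := Submodule.mapQ _ _ ((cxPiece E d).d i) (kgam_le_comap E d a i)
  d_d i x := by
    obtain ⟨x, rfl⟩ := Submodule.mkQ_surjective _ x
    exact congrArg Submodule.Quotient.mk ((cxPiece E d).d_d i x)

/-- The projection. -/
def toQuot (i : ℕ) : (cxPiece E d).V i →ₗ[k] (cxQuot E d a).V i := (kgam a (E.X i) d).mkQ

lemma toQuot_surjective (i : ℕ) : Function.Surjective (toQuot E d a i) := Submodule.mkQ_surjective _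

lemma toQuot_comm (i : ℕ) (x : (cxPiece E d).V i) :
    toQuot E d a (i + 1) ((cxPiece E d).d i x) = (cxQuot E d a).d i (toQuot E d a i x) := rfl

lemma toQuot_eq_zero_iff {i : ℕ} (x : (cxPiece E d).V i) :
    toQuot E d a i x = 0 ↔ x.1 ∈ GrLC.gam a (E.X i).carrier := Submodule.Quotient.mk_eq_zero _

/-- The torsion complex in a piece. -/
abbrev cxGam : Cx k := Cx.ker (toQuot E d a) (toQuot_comm E d a)

variable (b : HomogeneousIdeal 𝒜)

/-- Graded local cohomology from the torsion complex. -/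
theorem exists_gamEquiv (i : ℕ) :
    ∃ φ : (cxGam E d b.toIdeal).Coh i ≃+ E.Hcomp b i d,
      ∀ (c : k) y, φ (c • y) =
        (⟨algebraMap k R c, SetLike.algebraMap_mem_graded 𝒜 c⟩ : GrLC.deg0 𝒜) • φ y := by
  let g : (cxGam E d b.toIdeal).V i →+ (E.X i).carrier :=
    (kpiece 𝒜 (E.X i).gr d).subtype.toAddMonoidHom.comp (LinearMap.ker (toQuot E d b.toIdeal i)).subtype.toAddMonoidHom
  refine exists_cohEquiv E b (cxGam E d b.toIdeal) i d g (fun x => x.1.2) (fun c x => rfl)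
    (fun x hx => ⟨(toQuot_eq_zero_iff E d b.toIdeal x.1).1 x.2, congrArg (fun t : (cxGam E d b.toIdeal).V (i + 1) => (t.1.1 : (E.X (i + 1)).carrier)) hx⟩) (fun x _ => ?_) ?_
  · cases i with
    | zero =>
      exact ⟨fun h => Subtype.ext (Subtype.ext h), fun h => congrArg (fun t : (cxGam E d b.toIdeal).V 0 => (t.1.1 : (E.X 0).carrier)) (h : x = 0)⟩
    | succ i =>
      refine ⟨fun h => ?_, fun ⟨y, hy⟩ => ⟨y.1.1, (toQuot_eq_zero_iff E d b.toIdeal y.1).1 y.2,
        congrArg (fun t : (cxGam E d b.toIdeal).V (i + 1) => (t.1.1 : (E.X (i + 1)).carrier)) hy⟩⟩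
      obtain ⟨w, hw, hwg, hwx⟩ := exists_of_mem_cobdy E b h x.1.2
      exact ⟨⟨⟨w, hw⟩, (toQuot_eq_zero_iff E d b.toIdeal _).2 hwg⟩, Subtype.ext (Subtype.ext hwx)⟩
  · intro u hu huc
    refine ⟨⟨⟨u, hu⟩, (toQuot_eq_zero_iff E d b.toIdeal _).2 huc.1⟩, Subtype.ext (Subtype.ext huc.2), ?_⟩
    show u - u ∈ E.cobdy b i
    rw [sub_self]
    exact zero_mem _

end Groth.Agent.SegreLC
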