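import Groth.Agent.SegreLC.Apps
import Groth.Agent.GrLCLib.QuasiReg
import Groth.Agent.GrLCLib.KoszulLow
import Groth.Agent.FibDepth.Field

/-!
Graded local cohomology of a polynomial ring, degree by degree.
-/

set_option autoImplicit false
set_option linter.unusedSectionVars false
set_option linter.style.haveILetI false
set_option backward.isDefEq.respectTransparency false
set_option backward.isDefEq.respectTransparency.types false
universe u

open scoped Classical
open DirectSum Groth.Agent.GrLCLib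

noncomputable section

namespace Groth.Agent.SegreLC

variable {k : Type u} [Field k] {n : ℕ}

lemma stdGr_neg (e : ℤ) (he : e < 0) : GrSyz.stdGr k (Fin n) e = ⊥ := by
  refine (Submodule.eq_bot_iff _).2 fun p hp => MvPolynomial.ext _ _ fun d => ?_
  rw [MvPolynomial.coeff_zero]
  by_contra hne
  have h1 := (GrSyz.mem_stdGr_iff k (Fin n) e p).1 hp hne
  have h2 : (0 : ℤ) ≤ Finsupp.weight (fun _ : Fin n => (1 : ℤ)) d := by
    rw [Finsupp.weight_apply]
    exact Finset.sum_nonneg fun i _ => by simp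
  omega

lemma stdGr_zero : GrSyz.stdGr k (Fin n) 0 = Submodule.span k {(1 : MvPolynomial (Fin n) k)} := by
  refine le_antisymm (fun p hp => ?_) (Submodule.span_le.2 (Set.singleton_subset_iff.2 (SetLike.one_mem_graded _)))
  refine Submodule.mem_span_singleton.2 ⟨MvPolynomial.coeff 0 p, MvPolynomial.ext _ _ fun d => ?_⟩
  rw [MvPolynomial.coeff_smul, smul_eq_mul, MvPolynomial.coeff_one]
  by_cases hd : d = 0
  · subst hd; simp
  · rw [if_neg (Ne.symm hd), mul_zero]
    by_contra hne
    have h1 := (GrSyz.mem_stdGr_iff k (Fin n) 0 p).1 hp (Ne.symm hne)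
    obtain ⟨i, hi⟩ := Finsupp.ne_iff.1 hd
    rw [Finsupp.weight_apply, Finsupp.sum_fintype _ _ (fun _ => by simp)] at h1
    have h3 := Finset.single_le_sum (f := fun j => d j • (1 : ℤ)) (fun j _ => by simp) (Finset.mem_univ i)
    rw [h1] at h3
    simp only [nsmul_eq_mul, mul_one, Finsupp.coe_zero, Pi.zero_apply] at h3 hi
    omega

lemma stdGr_eq_bot_iff (hn : 0 < n) (e : ℤ) : (∀ x ∈ GrSyz.stdGr k (Fin n) e, x = 0) ↔ e < 0 := by
  refine ⟨fun h => ?_, fun he x hx => (Submodule.mem_bot k).1 ((stdGr_neg (k := k) e he).le hx)⟩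
  by_contra hcon
  obtain ⟨j, rfl⟩ := Int.eq_ofNat_of_zero_le (not_lt.1 hcon)
  have := h ((MvPolynomial.X ⟨0, hn⟩ : MvPolynomial (Fin n) k) ^ j) (by
    have := SetLike.pow_mem_graded j (GrSyzMin.X_mem (k := k) (⟨0, hn⟩ : Fin n))
    rwa [nsmul_eq_mul, mul_one] at this)
  exact pow_ne_zero j (MvPolynomial.X_ne_zero _) this

lemma stdIrrel_eq_posIdeal :
    (GrSyz.irrel (GrSyz.stdGr k (Fin n))).toIdeal = posIdeal (GrSyz.stdGr k (Fin n)) :=
  congrArg (Ideal.span (α := MvPolynomial (Fin n) k)) (Set.ext fun x => by simp)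

lemma supportDim_poly : Module.supportDim (MvPolynomial (Fin n) k) (MvPolynomial (Fin n) k) = (n : WithBot ℕ∞) := by
  refine (Module.supportDim_self_eq_ringKrullDim _).trans ?_
  rw [MvPolynomial.ringKrullDim_of_isNoetherianRing, ringKrullDim_eq_zero_of_field, zero_add, Nat.card_fin]

variable (E : GrLC.StarInjRes (GrSyz.stdGr k (Fin n)) (GrSyz.stdGr k (Fin n)))

/-- Away from the top the cohomology of a polynomial ring vanishes. -/
theorem van_poly_ne {i : ℕ} (hi : i ≠ n) (e : ℤ) : Van E (GrSyz.irrel (GrSyz.stdGr k (Fin n))) i e :=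
  (hcomp_eq_bot_iff E _ i e).1 (hcomp_eq_bot_of_cm (GrSyz.irrel (GrSyz.stdGr k (Fin n))) E stdGr_neg stdGr_zero
    stdIrrel_eq_posIdeal supportDim_poly (cmRing_iff.1 inferInstance) i hi e)

/-- The top cohomology of a polynomial ring lives in the degrees at most `-n`. -/
theorem van_poly_top_iff (hn : 0 < n) (e : ℤ) :
    Van E (GrSyz.irrel (GrSyz.stdGr k (Fin n))) n e ↔ -(n : ℤ) < e := by
  constructor
  · intro h
    by_contra hcon
    have hd : ∀ j, 1 ≤ j → Van E (GrSyz.irrel (GrSyz.stdGr k (Fin n))) j (e + n - j) := fun j _ => by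
      by_cases hj : j = n
      · subst hj; rwa [add_sub_cancel_right]
      · exact van_poly_ne E hj _
    have h0 : ∀ i : ℕ, Van E (GrSyz.irrel (GrSyz.stdGr k (Fin n))) i (0 - i) := fun i => by
      rcases Nat.eq_zero_or_pos i with rfl | hi
      · exact van_poly_ne E (by omega) _
      · exact van_above_diag (GrSyz.stdGr k (Fin n)) _ (fun j => GrSyzMin.X_mem (k := k) j) irrel_eq_span_X E
          le_rfl hd 0 (by omega) i hi
    obtain ⟨z, hz, h1⟩ := exists_sum_of_van (GrSyz.stdGr k (Fin n)) (GrSyz.irrel (GrSyz.stdGr k (Fin n)))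
      (fun j => GrSyzMin.X_mem (k := k) j) irrel_eq_span_X E h0 (SetLike.one_mem_graded _)
    refine one_ne_zero (h1.trans (Finset.sum_eq_zero fun b _ => ?_))
    rw [(Submodule.mem_bot k).1 ((stdGr_neg _ (by omega)).le (hz b)), smul_zero]
  · intro he
    let deg : Fin 1 → ℤ := fun _ => 0
    obtain ⟨EV⟩ := nonempty_starInjRes (GrSyz.stdGr k (Fin n)) (GrSyzMin.vec (k := k) (n := n) deg)
    have hreg : VanLE EV 0 := (vanLE_iff_isRegLE EV 0).2 ⟨GrSyzMin.freeRes deg, GrSyzMin.isMinimal_freeRes deg,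
      fun i b => by
        cases i with
        | zero =>
          show deg b ≤ 0 + ((0 : ℕ) : ℤ)
          simp [deg]
        | succ i => exact Fin.elim0 b⟩
    refine van_retract E EV _ (LinearMap.proj (0 : Fin 1)) (LinearMap.pi fun _ => LinearMap.id)
      (fun g v hv => ?_) (fun g v hv => ?_) (fun v => rfl) (hreg n e (by omega))
    · have := (GrSyzMin.mem_vec deg).1 hv 0
      rwa [sub_zero] at this
    · refine (GrSyzMin.mem_vec deg).2 fun b => ?_
      show v ∈ GrSyz.stdGr k (Fin n) (g - deg b)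
      rwa [sub_zero]

end Groth.Agent.SegreLC
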