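import Groth.Agent.SegreLC.TopMap

/-!
The top cohomology of a Segre product as the product of the top cohomologies, compatibly with the ring.
-/

set_option autoImplicit false
set_option linter.unusedSectionVars false
set_option linter.style.haveILetI false
set_option backward.isDefEq.respectTransparency false
set_option backward.isDefEq.respectTransparency.types false
universe u

open scoped Classical TensorProduct
open DirectSum Groth.Agent.GrLCLib

noncomputable section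

namespace Groth.Agent.SegreLC

lemma exists_up_cls {A : Type u} [CommRing A] {C C' : Cx A} (p : ∀ n, C.V n →ₗ[A] C'.V n)
    (hp : ∀ n x, p (n + 1) (C.d n x) = C'.d n (p n x)) (n : ℕ) (x : Cx.lift p n) :
    ∃ z : (Cx.ker p hp).Z (n + 1), z.1.1 = C.d n x.1 ∧ Cx.up p hp n x = (Cx.ker p hp).cls (n + 1) z :=
  ⟨_, rfl, rfl⟩

section One

variable {k : Type u} [Field k] {R : Type u} [CommRing R] [Algebra k R] {𝒜 : ℤ → Submodule k R} [GradedAlgebra 𝒜]
  {M : Type u} [AddCommGroup M] [Module R M] [Module k M] [IsScalarTower k R M]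
  {τ : Type u} [SetLike τ M] [AddSubgroupClass τ M] {ℳ : ℤ → τ} [DirectSum.Decomposition ℳ] [SetLike.GradedSMul 𝒜 ℳ]
  (F : GrLC.StarInjRes 𝒜 ℳ) (a : HomogeneousIdeal 𝒜)

/-- A homogeneous multiple of an element with torsion differential. -/
def smulLift {e d : ℤ} {i : ℕ} {r : R} (hr : r ∈ 𝒜 e) (u : liftPiece F a d i) : liftPiece F a (e + d) i :=
  ⟨⟨r • (u.1 : kpiece 𝒜 (F.X i).gr d).1, GrLCLib.smul_mem 𝒜 (F.X i).gr hr u.1.2⟩,
    (toQuot_eq_zero_iff F (e + d) a.toIdeal _).2 (by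
      show F.d i (r • (u.1 : kpiece 𝒜 (F.X i).gr d).1) ∈ _
      rw [map_smul]
      exact Submodule.smul_mem _ r ((toQuot_eq_zero_iff F d a.toIdeal _).1 u.2))⟩

lemma liftH_smulLift {e d : ℤ} {i : ℕ} {r : R} (hr : r ∈ 𝒜 e) (u : liftPiece F a d i) :
    liftH F a (smulLift F a hr u) = r • liftH F a u := by
  show F.toH a (i + 1) ⟨F.d i (r • (u.1 : kpiece 𝒜 (F.X i).gr d).1), _⟩ = r • F.toH a (i + 1) _
  rw [← map_smul]
  exact congrArg _ (Subtype.ext (map_smul (F.d i) r _))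

end One

variable {k : Type u} [Field k] {R : Type u} [CommRing R] [Algebra k R] {S : Type u} [CommRing S] [Algebra k S]
  {T : Type u} [CommRing T] [Algebra k T] {𝒜 : ℤ → Submodule k R} [GradedAlgebra 𝒜]
  {ℬ : ℤ → Submodule k S} [GradedAlgebra ℬ] {𝒯 : ℤ → Submodule k T} [GradedAlgebra 𝒯]
  (D : Datum 𝒜 ℬ 𝒯)
variable {M : Type u} [AddCommGroup M] [Module R M] [Module k M] [IsScalarTower k R M]
  {τ : Type u} [SetLike τ M] [AddSubgroupClass τ M] {ℳ : ℤ → τ} [DirectSum.Decomposition ℳ] [SetLike.GradedSMul 𝒜 ℳ]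
  {N : Type u} [AddCommGroup N] [Module S N] [Module k N] [IsScalarTower k S N]
  {τ' : Type u} [SetLike τ' N] [AddSubgroupClass τ' N] {𝒩 : ℤ → τ'} [DirectSum.Decomposition 𝒩] [SetLike.GradedSMul ℬ 𝒩]
  {P : Type u} [AddCommGroup P] [Module T P] [Module k P] [IsScalarTower k T P]
  {υ : Type u} [SetLike υ P] [AddSubgroupClass υ P] {𝒬 : ℤ → υ} [DirectSum.Decomposition 𝒬]
  [SetLike.GradedSMul 𝒯 𝒬] {φ : P →ₗ[k] M ⊗[k] N} (hP : GrSeg.IsSegreMod D.ψ ℳ 𝒩 𝒬 φ)
  (G : Gens D) (mR : HomogeneousIdeal 𝒜) (hmR : mR.toIdeal = posIdeal 𝒜)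
  (mS : HomogeneousIdeal ℬ) (hmS : mS.toIdeal = posIdeal ℬ)
  (mT : HomogeneousIdeal 𝒯) (hmT : mT.toIdeal = posIdeal 𝒯)
  (E : GrLC.StarInjRes 𝒜 ℳ) (F : GrLC.StarInjRes ℬ 𝒩) (d : ℤ) {i j : ℕ}

/-- The product of two elements with torsion differential. -/
def liftTen (u : liftPiece E mR d (i + 1)) (v : liftPiece F mS d (j + 1)) :
    (tensorBi (cxPiece E d) (cxPiece F d)).Tot (i + j + 1 + 1) :=
  ten (cxPiece E d) (cxPiece F d) (i + 1) (j + 1) (by omega) u.1 v.1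

lemma liftTen_mem (u : liftPiece E mR d (i + 1)) (v : liftPiece F mS d (j + 1)) :
    liftTen mR mS E F d u v ∈ Cx.lift (C := tensorTot (cxPiece E d) (cxPiece F d))
      (C' := tensorTot (cxQuot E d mR.toIdeal) (cxQuot F d mS.toIdeal))
      (pTot E F d mR.toIdeal mS.toIdeal) (i + j + 1 + 1) := by
  show pTot E F d mR.toIdeal mS.toIdeal (i + j + 1 + 1 + 1)
    ((tensorBi (cxPiece E d) (cxPiece F d)).totD (i + j + 1 + 1) (liftTen mR mS E F d u v)) = 0
  rw [liftTen, totD_ten, map_add, map_smul, pTot_ten, pTot_ten,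
    show toQuot E d mR.toIdeal (i + 1 + 1) ((cxPiece E d).d (i + 1) u.1) = 0 from u.2,
    show toQuot F d mS.toIdeal (j + 1 + 1) ((cxPiece F d).d (j + 1) v.1) = 0 from v.2,
    ten_zero_left, ten_zero_right, smul_zero, add_zero]

include G hmR hmS hmT in
lemma totD_liftTen_mem (u : liftPiece E mR d (i + 1)) (v : liftPiece F mS d (j + 1)) :
    (sbi D E F).totD (i + j + 1 + 1) (iotaTot D E F d (i + j + 1 + 1) (liftTen mR mS E F d u v)) ∈
      (totRes D E F hP G mT hmT).cocyc (i + j + 1 + 1 + 1) := by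
  refine ⟨?_, (sbi D E F).totD_totD _ _⟩
  have h : iotaTot D E F d (i + j + 1 + 1 + 1)
      ((tensorBi (cxPiece E d) (cxPiece F d)).totD (i + j + 1 + 1) (liftTen mR mS E F d u v)) ∈
        GrLC.gam mT.toIdeal ((sbi D E F).Tot (i + j + 1 + 1 + 1)) :=
    (iotaTot_mem_gam_iff D E F d G mR hmR mS hmS mT hmT _).2 (liftTen_mem mR mS E F d u v)
  rwa [iotaTot_totD] at h

variable [IsNoetherianRing T] (EP : GrLC.StarInjRes 𝒯 𝒬) (c : GrLCVeronese.CMap (totRes D E F hP G mT hmT) EP)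

/-- The product of two classes. -/
def prodH (u : liftPiece E mR d (i + 1)) (v : liftPiece F mS d (j + 1)) : EP.H mT (i + j + 1 + 1 + 1) :=
  EP.toH mT (i + j + 1 + 1 + 1) ⟨_, c.map_cocyc (totD_liftTen_mem D hP G mR hmR mS hmS mT hmT E F d u v)⟩

lemma prodH_mem (u : liftPiece E mR d (i + 1)) (v : liftPiece F mS d (j + 1)) :
    prodH D hP G mR hmR mS hmS mT hmT E F d EP c u v ∈ EP.Hcomp mT (i + j + 1 + 1 + 1) d :=
  ⟨_, c.gr _ d _ (totD_grHom D E F _ d _ (iotaTot_mem D E F d _ _)), rfl⟩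

theorem smul_prodH {e : ℤ} {a : R} (ha : a ∈ 𝒜 e) {b : S} (hb : b ∈ ℬ e) {t : T} (ht : D.ψ t = a ⊗ₜ[k] b)
    (u : liftPiece E mR d (i + 1)) (v : liftPiece F mS d (j + 1)) :
    t • prodH D hP G mR hmR mS hmS mT hmT E F d EP c u v =
      prodH D hP G mR hmR mS hmS mT hmT E F (e + d) EP c (smulLift E mR ha u) (smulLift F mS hb v) := by
  rw [prodH, prodH, ← map_smul]
  refine congrArg _ (Subtype.ext ?_)
  show t • c.ψ _ ((sbi D E F).totD _ (iotaTot D E F d _ (liftTen mR mS E F d u v))) =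
    c.ψ _ ((sbi D E F).totD _ (iotaTot D E F (e + d) _ (liftTen mR mS E F (e + d) (smulLift E mR ha u) (smulLift F mS hb v))))
  refine ((c.ψ _).map_smul t _).symm.trans (congrArg _ ?_)
  refine (((sbi D E F).totD _).map_smul t _).symm.trans (congrArg _ ?_)
  rw [liftTen, liftTen, ten, ten, iotaTot_inc, iotaTot_inc, ← map_smul]
  refine congrArg _ (sval_injective D _ _ ?_)
  rw [sval_smul, sval_sgMk, sval_sgMk, emb_tmul, emb_tmul, ht, GrSeg.act_tmul]
  rfl

set_option maxHeartbeats 1600000 in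
include hP G hmR hmS hmT in
/-- In the top degree the product of classes gives the tensor product. -/
theorem exists_topEquiv (hM : ∀ l, i + 2 < l → E.Hcomp mR l d = ⊥) (hN : ∀ l, j + 2 < l → F.Hcomp mS l d = ⊥) :
    ∃ J : EP.Hcomp mT (i + j + 1 + 1 + 1) d ≃+
        (cxQuot E d mR.toIdeal).Coh (i + 1) ⊗[k] (cxQuot F d mS.toIdeal).Coh (j + 1),
      (∀ (e : k) y, J ((⟨algebraMap k T e, SetLike.algebraMap_mem_graded 𝒯 e⟩ : GrLC.deg0 𝒯) • y) = e • J y) ∧
      ∀ u v, J ⟨_, prodH_mem D hP G mR hmR mS hmS mT hmT E F d EP c u v⟩ =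
        Cx.down (toQuot E d mR.toIdeal) (toQuot_comm E d mR.toIdeal) (i + 1) u ⊗ₜ[k]
          Cx.down (toQuot F d mS.toIdeal) (toQuot_comm F d mS.toIdeal) (j + 1) v := by
  let p₀ : BiCx.Idx (i + j + 1 + 1) := ⟨(i + 1, j + 1), by show i + 1 + (j + 1) = _; omega⟩
  have hz : ∀ p : BiCx.Idx (i + j + 1 + 1), p ≠ p₀ →
      Subsingleton ((cxQuot E d mR.toIdeal).Coh p.1.1 ⊗[k] (cxQuot F d mS.toIdeal).Coh p.1.2) := by
    rintro ⟨⟨a, b⟩, hab⟩ hne
    refine subsingleton_tensor_iff.2 ?_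
    have hab' : a + b = i + j + 1 + 1 := hab
    rcases lt_trichotomy a (i + 1) with h | rfl | h
    · obtain ⟨b', rfl⟩ : ∃ b', b = b' + 1 := ⟨b - 1, by omega⟩
      exact Or.inr ((subsingleton_quot_succ mS F d b').2 (hN _ (by omega)))
    · exact absurd (Subtype.ext (Prod.ext rfl (show b = j + 1 by omega)) : (⟨(i + 1, b), hab⟩ : BiCx.Idx _) = p₀) hne
    · obtain ⟨a', rfl⟩ : ∃ a', a = a' + 1 := ⟨a - 1, by omega⟩
      exact Or.inl ((subsingleton_quot_succ mR E d a').2 (hM _ (by omega)))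
  let π : KT (cxQuot E d mR.toIdeal) (cxQuot F d mS.toIdeal) (i + j + 1 + 1) →ₗ[k]
      (cxQuot E d mR.toIdeal).Coh (i + 1) ⊗[k] (cxQuot F d mS.toIdeal).Coh (j + 1) :=
    LinearMap.proj (R := k) (φ := fun p : BiCx.Idx (i + j + 1 + 1) =>
      (cxQuot E d mR.toIdeal).Coh p.1.1 ⊗[k] (cxQuot F d mS.toIdeal).Coh p.1.2) p₀
  have hπ : Function.Bijective π := by
    refine ⟨fun x y h => funext fun p => ?_, fun v => ⟨Pi.single (M := fun p : BiCx.Idx (i + j + 1 + 1) =>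
        (cxQuot E d mR.toIdeal).Coh p.1.1 ⊗[k] (cxQuot F d mS.toIdeal).Coh p.1.2) p₀ v,
      Pi.single_eq_same (M := fun p : BiCx.Idx (i + j + 1 + 1) =>
        (cxQuot E d mR.toIdeal).Coh p.1.1 ⊗[k] (cxQuot F d mS.toIdeal).Coh p.1.2) p₀ v⟩⟩
    rcases eq_or_ne p p₀ with rfl | hne
    · exact h
    · exact (hz p hne).elim _ _
  obtain ⟨Φ, hΦ, hcls⟩ := exists_segEquiv' D hP G mR hmR mS hmS mT hmT E F d EP c (i + j + 1 + 1 + 1)
  let L := (segGamSuccEquiv E F d mR.toIdeal mS.toIdeal (i + j + 1)).trans (LinearEquiv.ofBijective π hπ)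
  refine ⟨Φ.symm.trans L.toAddEquiv, fun e y => ?_, fun u v => ?_⟩
  · show L (Φ.symm _) = e • L (Φ.symm y)
    rw [← map_smul]
    refine congrArg L (Φ.injective ?_)
    refine (Φ.apply_symm_apply _).trans (Eq.trans ?_ (hΦ e (Φ.symm y)).symm)
    exact congrArg _ (Φ.apply_symm_apply y).symm
  · let x : Cx.lift (C := tensorTot (cxPiece E d) (cxPiece F d))
        (C' := tensorTot (cxQuot E d mR.toIdeal) (cxQuot F d mS.toIdeal))
        (pTot E F d mR.toIdeal mS.toIdeal) (i + j + 1 + 1) := ⟨_, liftTen_mem mR mS E F d u v⟩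
    obtain ⟨z, hzd, hzup⟩ := exists_up_cls (C := tensorTot (cxPiece E d) (cxPiece F d))
      (C' := tensorTot (cxQuot E d mR.toIdeal) (cxQuot F d mS.toIdeal))
      (pTot E F d mR.toIdeal mS.toIdeal)
      (pTot_comm E F d mR.toIdeal mS.toIdeal) (i + j + 1 + 1) x
    have hzv : iotaTot D E F d (i + j + 1 + 1 + 1) z.1.1 = (sbi D E F).totD (i + j + 1 + 1)
        (iotaTot D E F d (i + j + 1 + 1) (liftTen mR mS E F d u v)) :=
      (congrArg (iotaTot D E F d (i + j + 1 + 1 + 1)) hzd).trans (iotaTot_totD D E F (liftTen mR mS E F d u v))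
    have hz' : c.ψ (i + j + 1 + 1 + 1) (iotaTot D E F d (i + j + 1 + 1 + 1) z.1.1) ∈ EP.cocyc mT (i + j + 1 + 1 + 1) :=
      hzv.symm ▸ c.map_cocyc (totD_liftTen_mem D hP G mR hmR mS hmS mT hmT E F d u v)
    have h1 : Φ.symm ⟨_, prodH_mem D hP G mR hmR mS hmS mT hmT E F d EP c u v⟩ =
        Cx.up (C := tensorTot (cxPiece E d) (cxPiece F d))
      (C' := tensorTot (cxQuot E d mR.toIdeal) (cxQuot F d mS.toIdeal))
      (pTot E F d mR.toIdeal mS.toIdeal) (pTot_comm E F d mR.toIdeal mS.toIdeal) (i + j + 1 + 1) x := by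
      refine Φ.injective (Subtype.ext ?_)
      rw [Φ.apply_symm_apply, hzup]
      refine Eq.trans ?_ (hcls z hz').symm
      exact congrArg (EP.toH mT (i + j + 1 + 1 + 1)) (Subtype.ext (congrArg (c.ψ (i + j + 1 + 1 + 1)) hzv.symm))
    show π (segGamSuccEquiv E F d mR.toIdeal mS.toIdeal (i + j + 1) (Φ.symm _)) = _
    rw [h1, segGamSuccEquiv, LinearEquiv.trans_apply,
      Cx.cohSuccEquiv_up (C := tensorTot (cxPiece E d) (cxPiece F d))
      (C' := tensorTot (cxQuot E d mR.toIdeal) (cxQuot F d mS.toIdeal))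
      (pTot E F d mR.toIdeal mS.toIdeal) (pTot_comm E F d mR.toIdeal mS.toIdeal)
        (pTot_surjective E F d mR.toIdeal mS.toIdeal) (i + j + 1) (exact_tensorTot E F d) x]
    show TensorProduct.map ((cxQuot E d mR.toIdeal).q (i + 1)) ((cxQuot F d mS.toIdeal).q (j + 1))
      (pTot E F d mR.toIdeal mS.toIdeal _ (liftTen mR mS E F d u v) p₀) = _
    rw [liftTen, pTot_ten, ten, BiCx.inc_apply_same, TensorProduct.map_tmul]
    refine congrArg₂ (· ⊗ₜ[k] ·) ?_ ?_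
    · exact (cxQuot E d mR.toIdeal).q_of_mem ⟨toQuot E d mR.toIdeal (i + 1) u.1, by
        show (cxQuot E d mR.toIdeal).d (i + 1) _ = 0
        rw [← toQuot_comm]; exact u.2⟩
    · exact (cxQuot F d mS.toIdeal).q_of_mem ⟨toQuot F d mS.toIdeal (j + 1) v.1, by
        show (cxQuot F d mS.toIdeal).d (j + 1) _ = 0
        rw [← toQuot_comm]; exact v.2⟩

end Groth.Agent.SegreLC
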