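import Groth.Agent.SegreLC.Top
import Groth.Agent.SegreLC.TopPair

/-!
Pieces of *canonical modules as duals of pieces of cohomology modulo torsion, and their Segre products.
-/

set_option autoImplicit false
set_option linter.unusedSectionVars false
set_option linter.style.haveILetI false
set_option backward.isDefEq.respectTransparency false
set_option backward.isDefEq.respectTransparency.types false
universe u

open scoped Classical TensorProduct
open DirectSum Groth.Agent.GrLCLib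

noncomputable section

namespace Groth.Agent.SegreLC

section Transport

/-- A functional, transported along a semilinear bijection. -/
lemma exists_functional {k : Type u} [Field k] {A : Type u} [CommRing A] (ε : k ≃+* A) {V W : Type u} [AddCommGroup V]
    [Module k V] [AddCommGroup W] [Module A W] (Ψ : V ≃+ W) (hΨ : ∀ (c : k) v, Ψ (c • v) = ε c • Ψ v)
    (L : Module.Dual k V) : ∃ l : W →ₗ[A] A, ∀ v, l (Ψ v) = ε (L v) := by
  refine ⟨{ toFun := fun w => ε (L (Ψ.symm w))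
            map_add' := fun a b => by rw [map_add, map_add, map_add]
            map_smul' := fun a w => ?_ }, fun v => congrArg (fun x => ε (L x)) (Ψ.symm_apply_apply v)⟩
  obtain ⟨c, rfl⟩ := ε.surjective a
  obtain ⟨v, rfl⟩ := Ψ.surjective w
  rw [← hΨ, Ψ.symm_apply_apply, Ψ.symm_apply_apply, map_smul, smul_eq_mul, map_mul]
  rfl

end Transport

section One

variable {k : Type u} [Field k] {R : Type u} [CommRing R] [Algebra k R] {𝒜 : ℤ → Submodule k R} [GradedAlgebra 𝒜]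
  (hpos : ∀ n : ℤ, n < 0 → 𝒜 n = ⊥) (h0 : 𝒜 0 = Submodule.span k {(1 : R)})
  (mR : HomogeneousIdeal 𝒜) (hmR : mR.toIdeal = posIdeal 𝒜)
  {E' : Type u} [AddCommGroup E'] [Module R E'] {𝓔 : ℤ → AddSubgroup E'} [DirectSum.Decomposition 𝓔]
  [SetLike.GradedSMul 𝒜 𝓔] {e : (R ⧸ mR.toIdeal) →ₗ[R] E'}
  {C : Type u} [AddCommGroup C] [Module R C] [Module k C] [IsScalarTower k R C]
  {𝒞 : ℤ → AddSubgroup C} [DirectSum.Decomposition 𝒞]
  [SetLike.GradedSMul 𝒜 𝒞] {i : ℕ} (I : GrLC.StarInjRes 𝒜 𝒜)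

lemma deg0Equiv_eq [Nontrivial R] (c : k) :
    deg0Equiv h0 c = (⟨algebraMap k R c, SetLike.algebraMap_mem_graded 𝒜 c⟩ : GrLC.deg0 𝒜) := rfl

include hmR in
lemma finite_quot [Nontrivial R] [Algebra.FiniteType k R] (hpos : ∀ n : ℤ, n < 0 → 𝒜 n = ⊥)
    (h0 : 𝒜 0 = Submodule.span k {(1 : R)}) (d : ℤ) :
    Module.Finite k ((cxQuot I d mR.toIdeal).Coh (i + 1)) := by
  haveI := finite_gam hpos h0 mR hmR I d (i + 1 + 1)
  exact Module.Finite.equiv (quotSuccEquiv I d _ i)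

set_option maxHeartbeats 1600000 in
include hpos h0 hmR in
/-- The pieces of a *canonical module are the duals of the pieces of cohomology, compatibly with the ring. -/
theorem exists_pieceDual [Algebra.FiniteType k R] [Nontrivial R]
    (he : GrLC.IsStarInjHull 𝒜 (GrLC.quotGr 𝒜 mR) 𝓔 e) (hC : GrLC.IsStarCanonical 𝒜 𝒞 𝓔 mR (i + 1 + 1) I) :
    ∃ B : ∀ d : ℤ, kpiece 𝒜 𝒞 (-d) →ₗ[k] Module.Dual k ((cxQuot I d mR.toIdeal).Coh (i + 1)),
      (∀ d, Function.Bijective (B d)) ∧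
      ∀ (e d : ℤ) (a : R) (ha : a ∈ 𝒜 e) (x : kpiece 𝒜 𝒞 (-(e + d))) (y : kpiece 𝒜 𝒞 (-d)), (y : C) = a • (x : C) →
        ∀ u : liftPiece I mR d (i + 1),
          B d y (Cx.down (toQuot I d mR.toIdeal) (toQuot_comm I d mR.toIdeal) (i + 1) u) =
          B (e + d) x (Cx.down (toQuot I (e + d) mR.toIdeal) (toQuot_comm I (e + d) mR.toIdeal) (i + 1)
            (smulLift I mR ha u)) := by
  haveI : IsNoetherianRing R := Algebra.FiniteType.isNoetherianRing k R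
  have hF : IsField (GrLC.deg0 𝒜) := (deg0Equiv h0).symm.toMulEquiv.isField (Field.toIsField k)
  obtain ⟨β, hbal, hinj, hsurj⟩ := exists_pairing (eq_zero_of_neg hpos) hF (sub_pr_zero_mem_pos hpos mR hmR)
    (hmR ▸ (posIdeal_isMaximal hpos h0).ne_top) he hC
  choose Ψ hΨ hΨu using fun d => exists_quotH I mR d i
  have hΨ' : ∀ d (c : k) (y : (cxQuot I d mR.toIdeal).Coh (i + 1)), Ψ d (c • y) = deg0Equiv h0 c • Ψ d y :=
    fun d c y => by rw [deg0Equiv_eq]; exact hΨ d c y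
  let σ : GrLC.deg0 𝒜 ≃+* k := (deg0Equiv h0).symm
  have hσ : ∀ (c : k) (z : GrLC.deg0 𝒜), σ (deg0Equiv h0 c * z) = c * σ z := fun c z =>
    (map_mul σ _ _).trans (congrArg (· * σ z) ((deg0Equiv h0).symm_apply_apply c))
  have hσH : ∀ (x : C) (c : k) (z : I.H mR (i + 1 + 1)), σ (β x (deg0Equiv h0 c • z)) = c * σ (β x z) :=
    fun x c z => (congrArg σ ((β x).map_smul (deg0Equiv h0 c) z)).trans (hσ c _)
  have hσC : ∀ (x : C) (c : k) (z : I.H mR (i + 1 + 1)), σ (β (deg0Equiv h0 c • x) z) = c * σ (β x z) :=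
    fun x c z => (congrArg σ (LinearMap.congr_fun (β.map_smul (deg0Equiv h0 c) x) z)).trans (hσ c _)
  have hk : ∀ (c : k) (x : C), c • x = deg0Equiv h0 c • x := fun c x => (algebraMap_smul R c x).symm
  have hkH : ∀ d (c : k) (y : (cxQuot I d mR.toIdeal).Coh (i + 1)),
      ((Ψ d (c • y) : I.Hcomp mR (i + 1 + 1) d) : I.H mR (i + 1 + 1)) = deg0Equiv h0 c • (Ψ d y : I.H mR (i + 1 + 1)) :=
    fun d c y => by rw [hΨ', Submodule.coe_smul]
  let B : ∀ d : ℤ, kpiece 𝒜 𝒞 (-d) →ₗ[k] Module.Dual k ((cxQuot I d mR.toIdeal).Coh (i + 1)) := fun d =>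
    LinearMap.mk₂ k (fun x y => σ (β (x : C) (Ψ d y : I.H mR (i + 1 + 1))))
      (fun x x' y => by rw [Submodule.coe_add, map_add, LinearMap.add_apply, map_add])
      (fun c x y => by rw [Submodule.coe_smul, hk, hσC]; rfl)
      (fun x y y' => by rw [map_add, Submodule.coe_add, map_add, map_add])
      (fun c x y => by rw [hkH, hσH]; rfl)
  refine ⟨B, fun d => ⟨(injective_iff_map_eq_zero (B d)).2 fun x hx => Subtype.ext ?_, fun L => ?_⟩, ?_⟩
  · refine hinj (-d) x x.2 fun h hh => σ.injective ?_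
    rw [neg_neg] at hh
    rw [map_zero]
    have h1 : B d x ((Ψ d).symm ⟨h, hh⟩) = 0 := LinearMap.congr_fun hx _
    rwa [LinearMap.mk₂_apply, (Ψ d).apply_symm_apply] at h1
  · obtain ⟨l, hl⟩ := exists_functional (deg0Equiv h0) (Ψ d) (hΨ' d) L
    letI : Field (GrLC.deg0 𝒜) := hF.toField
    obtain ⟨l', hl'⟩ := LinearMap.exists_extend (p := I.Hcomp mR (i + 1 + 1) d) l
    obtain ⟨x, hx, hxl⟩ := hsurj (-d) l'
    refine ⟨⟨x, hx⟩, LinearMap.ext fun y => ?_⟩
    show σ (β x (Ψ d y : I.H mR (i + 1 + 1))) = L y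
    have h2 : (Ψ d y : I.H mR (i + 1 + 1)) ∈ I.Hgr mR (i + 1 + 1) (- -d) := by rw [neg_neg]; exact (Ψ d y).2
    refine (congrArg σ ((hxl _ h2).trans ((LinearMap.congr_fun hl' (Ψ d y)).trans (hl y)))).trans ?_
    exact (deg0Equiv h0).symm_apply_apply (L y)
  · intro e d a ha x y hy u
    show σ (β (y : C) (Ψ d _ : I.H mR (i + 1 + 1))) = σ (β (x : C) (Ψ (e + d) _ : I.H mR (i + 1 + 1)))
    rw [hΨu, hΨu, hy, hbal, liftH_smulLift]

end One

variable {k : Type u} [Field k] {R : Type u} [CommRing R] [Algebra k R] {S : Type u} [CommRing S] [Algebra k S]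
  {T : Type u} [CommRing T] [Algebra k T] {𝒜 : ℤ → Submodule k R} [GradedAlgebra 𝒜]
  {ℬ : ℤ → Submodule k S} [GradedAlgebra ℬ] {𝒯 : ℤ → Submodule k T} [GradedAlgebra 𝒯]
  (D : Datum 𝒜 ℬ 𝒯)
variable {M : Type u} [AddCommGroup M] [Module R M] [Module k M] [IsScalarTower k R M]
  {τ : Type u} [SetLike τ M] [AddSubgroupClass τ M] {ℳ : ℤ → τ} [DirectSum.Decomposition ℳ] [SetLike.GradedSMul 𝒜 ℳ]
  {N : Type u} [AddCommGroup N] [Module S N] [Module k N] [IsScalarTower k S N]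
  {τ' : Type u} [SetLike τ' N] [AddSubgroupClass τ' N] {𝒩 : ℤ → τ'} [DirectSum.Decomposition 𝒩] [SetLike.GradedSMul ℬ 𝒩]
  {P : Type u} [AddCommGroup P] [Module T P] [Module k P] [IsScalarTower k T P]
  {υ : Type u} [SetLike υ P] [AddSubgroupClass υ P] {𝒬 : ℤ → υ} [DirectSum.Decomposition 𝒬]
  [SetLike.GradedSMul 𝒯 𝒬] {φ : P →ₗ[k] M ⊗[k] N} (hP : GrSeg.IsSegreMod D.ψ ℳ 𝒩 𝒬 φ)

include hP in
/-- The pieces of a Segre product are the tensor products of the pieces. -/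
theorem exists_pieceEquiv (g : ℤ) :
    ∃ w : kpiece 𝒯 𝒬 g ≃ₗ[k] kpiece 𝒜 ℳ g ⊗[k] kpiece ℬ 𝒩 g,
      ∀ p : kpiece 𝒯 𝒬 g, TensorProduct.map (kpiece 𝒜 ℳ g).subtype (kpiece ℬ 𝒩 g).subtype (w p) = φ (p : P) := by
  have hf₁ : Function.Injective (TensorProduct.map (kpiece 𝒜 ℳ g).subtype (kpiece ℬ 𝒩 g).subtype) :=
    TensorProduct.map_injective_of_flat_flat _ _ (Submodule.injective_subtype _) (Submodule.injective_subtype _)
  have hf₂ : Function.Injective (φ ∘ₗ (kpiece 𝒯 𝒬 g).subtype) := fun p q h => Subtype.ext (hP.injective h)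
  have hr : LinearMap.range (φ ∘ₗ (kpiece 𝒯 𝒬 g).subtype) =
      LinearMap.range (TensorProduct.map (kpiece 𝒜 ℳ g).subtype (kpiece ℬ 𝒩 g).subtype) := by
    refine le_antisymm ?_ ?_
    · rintro _ ⟨p, rfl⟩
      obtain ⟨w, hw⟩ := exists_piece_tensor D hP p.2
      exact ⟨w, hw⟩
    · rintro _ ⟨w, rfl⟩
      obtain ⟨p, hp, hpw⟩ := exists_of_piece_tensor D hP w
      exact ⟨⟨p, hp⟩, hpw⟩
  refine ⟨(LinearEquiv.ofInjective _ hf₂).trans ((LinearEquiv.ofEq _ _ hr).trans (LinearEquiv.ofInjective _ hf₁).symm),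
    fun p => ?_⟩
  exact congrArg Subtype.val ((LinearEquiv.ofInjective _ hf₁).apply_symm_apply
    (LinearEquiv.ofEq _ _ hr (LinearEquiv.ofInjective _ hf₂ p)))

end Groth.Agent.SegreLC
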