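import Groth.Agent.SegreLC.Apps

/-!
Explicit forms of the comparison maps computing the top cohomology of a Segre product.
-/

set_option autoImplicit false
set_option linter.unusedSectionVars false
set_option linter.style.haveILetI false
set_option backward.isDefEq.respectTransparency false
set_option backward.isDefEq.respectTransparency.types false
universe u

open scoped Classical TensorProduct
open DirectSum Groth.Agent.GrLCLib

noncomputable section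

namespace Groth.Agent.SegreLC

section One

variable {k : Type u} [Field k] {R : Type u} [CommRing R] [Algebra k R] {𝒜 : ℤ → Submodule k R} [GradedAlgebra 𝒜]
  {M : Type u} [AddCommGroup M] [Module R M] [Module k M] [IsScalarTower k R M]
  {τ : Type u} [SetLike τ M] [AddSubgroupClass τ M] {ℳ : ℤ → τ} [DirectSum.Decomposition ℳ] [SetLike.GradedSMul 𝒜 ℳ]
  (F : GrLC.StarInjRes 𝒜 ℳ) (a : HomogeneousIdeal 𝒜) (K : Cx k)

/-- A complex of vector spaces computing a piece of graded local cohomology. -/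
theorem exists_cohEquiv' (i : ℕ) (e : ℤ)
    (g : K.V i →+ (F.X i).carrier) (hgr : ∀ x, g x ∈ (F.X i).gr e)
    (hsemi : ∀ (c : k) x, g (c • x) = algebraMap k R c • g x)
    (hZ : ∀ x ∈ K.Z i, g x ∈ F.cocyc a i) (hB : ∀ x ∈ K.Z i, (g x ∈ F.cobdy a i ↔ x ∈ K.B i))
    (hsurj : ∀ u ∈ (F.X i).gr e, u ∈ F.cocyc a i → ∃ x ∈ K.Z i, u - g x ∈ F.cobdy a i) :
    ∃ φ : K.Coh i ≃+ F.Hcomp a i e,
      (∀ (c : k) y, φ (c • y) =
        (⟨algebraMap k R c, SetLike.algebraMap_mem_graded 𝒜 c⟩ : GrLC.deg0 𝒜) • φ y) ∧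
      ∀ x : K.Z i, (φ (K.cls i x) : F.H a i) = F.toH a i ⟨g x, hZ x x.2⟩ := by
  let σ : k →+* GrLC.deg0 𝒜 := (algebraMap k R).codRestrict (GrLC.deg0 𝒜) fun c => SetLike.algebraMap_mem_graded 𝒜 c
  letI : Module k (F.Hcomp a i e) := Module.compHom _ σ
  let f : K.Z i →ₗ[k] F.Hcomp a i e :=
    { toFun := fun x => ⟨F.toH a i ⟨g x, hZ x x.2⟩, ⟨_, hgr _, rfl⟩⟩
      map_add' := fun x y => Subtype.ext
        ((congrArg (F.toH a i) (Subtype.ext (map_add g x.1 y.1))).trans (map_add _ _ _))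
      map_smul' := fun c x => Subtype.ext
        ((congrArg (F.toH a i) (Subtype.ext (hsemi c x.1))).trans (map_smul (F.toH a i) (algebraMap k R c) _)) }
  have hker : ∀ x : K.Z i, f x = 0 ↔ x.1 ∈ K.B i := fun x => by
    rw [Subtype.ext_iff]
    exact (Submodule.Quotient.mk_eq_zero _).trans (hB x.1 x.2)
  let φ₀ : K.Coh i →ₗ[k] F.Hcomp a i e :=
    Submodule.liftQ (R := k) (R₂ := k) (τ₁₂ := RingHom.id k) (M₂ := F.Hcomp a i e) ((K.B i).comap (K.Z i).subtype) f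
      fun x hx => LinearMap.mem_ker.2 ((hker x).2 hx)
  have hφ₀ : ∀ x, φ₀ (K.cls i x) = f x := fun x => rfl
  have hbij : Function.Bijective φ₀ := by
    refine ⟨(injective_iff_map_eq_zero φ₀).2 fun y hy => ?_, ?_⟩
    · obtain ⟨x, rfl⟩ := K.cls_surjective i y
      rw [hφ₀] at hy
      exact (K.cls_eq_zero_iff x).2 ((hker x).1 hy)
    · rintro ⟨_, u, hu, rfl⟩
      obtain ⟨x, hx, hd⟩ := hsurj u.1 hu u.2
      refine ⟨K.cls i ⟨x, hx⟩, ?_⟩
      rw [hφ₀]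
      refine Subtype.ext ((Submodule.Quotient.eq _).2 ?_)
      show g x - u.1 ∈ F.cobdy a i
      rw [← neg_sub]
      exact Submodule.neg_mem _ hd
  exact ⟨AddEquiv.ofBijective φ₀.toAddMonoidHom hbij, fun c y => map_smul φ₀ c y, fun x => rfl⟩


/-- The elements of a piece with torsion differential. -/
abbrev liftPiece (d : ℤ) (i : ℕ) : Submodule k (kpiece 𝒜 (F.X i).gr d) :=
  Cx.lift (toQuot F d a.toIdeal) i

lemma cocyc_of_lift {d : ℤ} {i : ℕ} (u : liftPiece F a d i) :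
    F.d i (u : kpiece 𝒜 (F.X i).gr d).1 ∈ F.cocyc a (i + 1) :=
  ⟨(toQuot_eq_zero_iff F d a.toIdeal _).1 u.2, GrLCLib.d_d F i _⟩

/-- The class of the differential. -/
def liftH {d : ℤ} {i : ℕ} (u : liftPiece F a d i) : F.H a (i + 1) :=
  F.toH a (i + 1) ⟨_, cocyc_of_lift F a u⟩

/-- The cohomology modulo torsion as graded local cohomology. -/
theorem exists_quotH (d : ℤ) (i : ℕ) :
    ∃ Ψ : (cxQuot F d a.toIdeal).Coh (i + 1) ≃+ F.Hcomp a (i + 1 + 1) d,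
      (∀ (c : k) y, Ψ (c • y) =
        (⟨algebraMap k R c, SetLike.algebraMap_mem_graded 𝒜 c⟩ : GrLC.deg0 𝒜) • Ψ y) ∧
      ∀ u : liftPiece F a d (i + 1),
        (Ψ (Cx.down (toQuot F d a.toIdeal) (toQuot_comm F d a.toIdeal) (i + 1) u) : F.H a (i + 1 + 1)) = liftH F a u := by
  let g : (cxGam F d a.toIdeal).V (i + 1 + 1) →+ (F.X (i + 1 + 1)).carrier :=
    (kpiece 𝒜 (F.X (i + 1 + 1)).gr d).subtype.toAddMonoidHom.comp (LinearMap.ker (toQuot F d a.toIdeal (i + 1 + 1))).subtype.toAddMonoidHom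
  obtain ⟨φ, hφ, hcls⟩ := exists_cohEquiv' F a (cxGam F d a.toIdeal) (i + 1 + 1) d g (fun x => x.1.2) (fun c x => rfl)
    (fun x hx => ⟨(toQuot_eq_zero_iff F d a.toIdeal x.1).1 x.2, congrArg (fun t : (cxGam F d a.toIdeal).V (i + 1 + 1 + 1) => (t.1.1 : (F.X (i + 1 + 1 + 1)).carrier)) hx⟩)
    (fun x _ => by
      refine ⟨fun h => ?_, fun ⟨y, hy⟩ => ⟨y.1.1, (toQuot_eq_zero_iff F d a.toIdeal y.1).1 y.2,
        congrArg (fun t : (cxGam F d a.toIdeal).V (i + 1 + 1) => (t.1.1 : (F.X (i + 1 + 1)).carrier)) hy⟩⟩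
      obtain ⟨w, hw, hwg, hwx⟩ := exists_of_mem_cobdy F a h x.1.2
      exact ⟨⟨⟨w, hw⟩, (toQuot_eq_zero_iff F d a.toIdeal _).2 hwg⟩, Subtype.ext (Subtype.ext hwx)⟩)
    (fun v hv hvc => ⟨⟨⟨v, hv⟩, (toQuot_eq_zero_iff F d a.toIdeal _).2 hvc.1⟩, Subtype.ext (Subtype.ext hvc.2),
      show v - v ∈ F.cobdy a (i + 1 + 1) by rw [sub_self]; exact zero_mem _⟩)
  refine ⟨(quotSuccEquiv F d a.toIdeal i).symm.toAddEquiv.trans φ, fun c y => ?_, fun u => ?_⟩
  · show φ ((quotSuccEquiv F d a.toIdeal i).symm (c • y)) = _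
    rw [map_smul, hφ]
    rfl
  · refine Eq.trans (congrArg Subtype.val (congrArg φ (show (quotSuccEquiv F d a.toIdeal i).symm (Cx.down (toQuot F d a.toIdeal) (toQuot_comm F d a.toIdeal) (i + 1) u) =
        Cx.up (toQuot F d a.toIdeal) (toQuot_comm F d a.toIdeal) (i + 1) u from
      (LinearEquiv.symm_apply_eq _).2 (Cx.cohSuccEquiv_up (toQuot F d a.toIdeal) (toQuot_comm F d a.toIdeal)
        (toQuot_surjective F d a.toIdeal) i (exact_cxPiece F d) u).symm))) (hcls _)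

end One

variable {k : Type u} [Field k] {R : Type u} [CommRing R] [Algebra k R] {S : Type u} [CommRing S] [Algebra k S]
  {T : Type u} [CommRing T] [Algebra k T] {𝒜 : ℤ → Submodule k R} [GradedAlgebra 𝒜]
  {ℬ : ℤ → Submodule k S} [GradedAlgebra ℬ] {𝒯 : ℤ → Submodule k T} [GradedAlgebra 𝒯]
  (D : Datum 𝒜 ℬ 𝒯)
variable {M : Type u} [AddCommGroup M] [Module R M] [Module k M] [IsScalarTower k R M]
  {τ : Type u} [SetLike τ M] [AddSubgroupClass τ M] {ℳ : ℤ → τ} [DirectSum.Decomposition ℳ] [SetLike.GradedSMul 𝒜 ℳ]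
  {N : Type u} [AddCommGroup N] [Module S N] [Module k N] [IsScalarTower k S N]
  {τ' : Type u} [SetLike τ' N] [AddSubgroupClass τ' N] {𝒩 : ℤ → τ'} [DirectSum.Decomposition 𝒩] [SetLike.GradedSMul ℬ 𝒩]
  {P : Type u} [AddCommGroup P] [Module T P] [Module k P] [IsScalarTower k T P]
  {υ : Type u} [SetLike υ P] [AddSubgroupClass υ P] {𝒬 : ℤ → υ} [DirectSum.Decomposition 𝒬]
  [SetLike.GradedSMul 𝒯 𝒬] {φ : P →ₗ[k] M ⊗[k] N} (hP : GrSeg.IsSegreMod D.ψ ℳ 𝒩 𝒬 φ)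
  (G : Gens D) (mR : HomogeneousIdeal 𝒜) (hmR : mR.toIdeal = posIdeal 𝒜)
  (mS : HomogeneousIdeal ℬ) (hmS : mS.toIdeal = posIdeal ℬ)
  (mT : HomogeneousIdeal 𝒯) (hmT : mT.toIdeal = posIdeal 𝒯)
  (E : GrLC.StarInjRes 𝒜 ℳ) (F : GrLC.StarInjRes ℬ 𝒩) (d : ℤ)

include hP G hmR hmS hmT in
/-- Graded local cohomology of a Segre product, degree by degree. -/
theorem exists_segEquiv' (EP : GrLC.StarInjRes 𝒯 𝒬)
    (c : GrLCVeronese.CMap (totRes D E F hP G mT hmT) EP) (q : ℕ) :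
    ∃ Φ : (segGam E F d mR.toIdeal mS.toIdeal).Coh q ≃+ EP.Hcomp mT q d,
      (∀ (e : k) y, Φ (e • y) =
        (⟨algebraMap k T e, SetLike.algebraMap_mem_graded 𝒯 e⟩ : GrLC.deg0 𝒯) • Φ y) ∧
      ∀ (x : (segGam E F d mR.toIdeal mS.toIdeal).Z q) (hx : c.ψ q (iotaTot D E F d q x.1.1) ∈ EP.cocyc mT q),
        (Φ ((segGam E F d mR.toIdeal mS.toIdeal).cls q x) : EP.H mT q) = EP.toH mT q ⟨_, hx⟩ := by
  haveI := G.noethT
  let K : GrLCVeronese.AcyRes 𝒬 mT := totRes D E F hP G mT hmT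
  let ι : ∀ n, (segGam E F d mR.toIdeal mS.toIdeal).V n →ₗ[k] (sbi D E F).Tot n := fun n =>
    iotaTot D E F d n ∘ₗ (LinearMap.ker (pTot E F d mR.toIdeal mS.toIdeal n)).subtype
  have hι : ∀ n x, ι (n + 1) ((segGam E F d mR.toIdeal mS.toIdeal).d n x) = (sbi D E F).totD n (ι n x) :=
    fun n x => iotaTot_totD D E F x.1
  have hgam : ∀ n x, ι n x ∈ GrLC.gam mT.toIdeal ((sbi D E F).Tot n) := fun n x =>
    (iotaTot_mem_gam_iff D E F d G mR hmR mS hmS mT hmT x.1).2 x.2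
  have hZ : ∀ n, ∀ x ∈ (segGam E F d mR.toIdeal mS.toIdeal).Z n, ι n x ∈ K.cocyc n := fun n x hx =>
    ⟨hgam n x, show (sbi D E F).totD n (ι n x) = 0 by
      rw [← hι, show (segGam E F d mR.toIdeal mS.toIdeal).d n x = 0 from hx, map_zero]⟩
  have hB : ∀ n x, ι n x ∈ K.cobdy n ↔ x ∈ (segGam E F d mR.toIdeal mS.toIdeal).B n := by
    intro n x
    cases n with
    | zero =>
      refine ⟨fun h => ?_, fun h => ?_⟩
      · exact Subtype.ext (iotaTot_injective D E F d 0 (((Submodule.mem_bot T).1 h).trans (map_zero _).symm))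
      · rw [(Submodule.mem_bot k).1 h, map_zero]; exact zero_mem _
    | succ n =>
      refine ⟨fun h => ?_, fun ⟨y, hy⟩ => ⟨ι n y, hgam n y, by rw [← hy]; exact (hι n y).symm⟩⟩
      obtain ⟨w, hw, hwx⟩ : ∃ w : (sbi D E F).Tot n,
          w ∈ GrLC.gam mT.toIdeal ((sbi D E F).Tot n) ∧ (sbi D E F).totD n w = ι (n + 1) x := h
      obtain ⟨v, hv⟩ := exists_iotaTot D E F (pr_mem (totPiece D E F n) d w)
      have hvg : iotaTot D E F d n v ∈ GrLC.gam mT.toIdeal ((sbi D E F).Tot n) := by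
        rw [hv]; exact homog_gam 𝒯 (ℳ := totPiece D E F n) mT w hw d
      refine ⟨⟨v, (iotaTot_mem_gam_iff D E F d G mR hmR mS hmS mT hmT v).1 hvg⟩, Subtype.ext ?_⟩
      refine iotaTot_injective D E F d (n + 1) ?_
      show iotaTot D E F d (n + 1) ((tensorBi (cxPiece E d) (cxPiece F d)).totD n v) = ι (n + 1) x
      rw [iotaTot_totD, hv, ← pr_map (totPiece D E F n) (totPiece D E F (n + 1)) (totD_grHom D E F n),
        show (sbi D E F).totD n w = ι (n + 1) x from hwx]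
      exact pr_of_mem _ (iotaTot_mem D E F d (n + 1) x.1)
  refine (exists_cohEquiv' EP mT (segGam E F d mR.toIdeal mS.toIdeal) q d
    ((c.ψ q).toAddMonoidHom.comp (ι q).toAddMonoidHom)
    (fun x => c.gr q d _ (iotaTot_mem D E F d q x.1)) (fun e x => ?_) (fun x hx => c.map_cocyc (hZ q x hx))
    (fun x hx => (c.map_cobdy_iff (hZ q x hx)).trans (hB q x)) fun u hu huc => ?_).imp fun Φ h => ⟨h.1, fun x _ => h.2 x⟩
  · show c.ψ q (ι q (e • x)) = algebraMap k T e • c.ψ q (ι q x)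
    rw [(ι q).map_smul, ← algebraMap_smul T e (ι q x)]
    exact map_smul (c.ψ q) _ _
  · obtain ⟨z, hz, hzc, hd⟩ := c.exists_homog_cocyc_sub hu huc
    obtain ⟨v, hv⟩ := exists_iotaTot D E F hz
    have hvg : iotaTot D E F d q v ∈ GrLC.gam mT.toIdeal ((sbi D E F).Tot q) := by rw [hv]; exact hzc.1
    refine ⟨⟨v, (iotaTot_mem_gam_iff D E F d G mR hmR mS hmS mT hmT v).1 hvg⟩, Subtype.ext ?_, ?_⟩
    · refine iotaTot_injective D E F d (q + 1) ?_
      show iotaTot D E F d (q + 1) ((tensorBi (cxPiece E d) (cxPiece F d)).totD q v) = iotaTot D E F d (q + 1) 0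
      rw [iotaTot_totD, hv, map_zero]
      exact hzc.2
    · show u - c.ψ q (iotaTot D E F d q v) ∈ EP.cobdy mT q
      rw [hv]
      exact hd

end Groth.Agent.SegreLC
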