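import Groth.Agent.SegreLC.Acyclic

/-!
The torsion part of a Segre product, degree by degree.
-/

set_option autoImplicit false
set_option linter.unusedSectionVars false
set_option linter.style.haveILetI false
set_option backward.isDefEq.respectTransparency false
set_option backward.isDefEq.respectTransparency.types false
universe u

open scoped Classical TensorProduct
open DirectSum Groth.Agent.GrLCLib

noncomputable section

namespace Groth.Agent.SegreLC

variable {k : Type u} [Field k] {R : Type u} [CommRing R] [Algebra k R] {S : Type u} [CommRing S] [Algebra k S]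
  {T : Type u} [CommRing T] [Algebra k T] {𝒜 : ℤ → Submodule k R} [GradedAlgebra 𝒜]
  {ℬ : ℤ → Submodule k S} [GradedAlgebra ℬ] {𝒯 : ℤ → Submodule k T} [GradedAlgebra 𝒯]

/-- The torsion in a piece. -/
def kgam (a : Ideal R) (X : GrLC.GMod.{u} 𝒜) (d : ℤ) : Submodule k (kpiece 𝒜 X.gr d) :=
  ((GrLC.gam a X.carrier).restrictScalars k).comap (kpiece 𝒜 X.gr d).subtype

lemma mem_kgam {a : Ideal R} {X : GrLC.GMod.{u} 𝒜} {d : ℤ} {x : kpiece 𝒜 X.gr d} :
    x ∈ kgam a X d ↔ (x : X.carrier) ∈ GrLC.gam a X.carrier := Iff.rfl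

lemma eq_zero_of_proj {a b : ℕ} {V W : Type u} [AddCommGroup V] [Module k V] [AddCommGroup W] [Module k W]
    (w : (Fin a → V) ⊗[k] (Fin b → W))
    (h : ∀ i j, TensorProduct.map (LinearMap.proj (R := k) (φ := fun _ : Fin a => V) i)
      (LinearMap.proj (R := k) (φ := fun _ : Fin b => W) j) w = 0) : w = 0 := by
  have key : ∀ u : (Fin a → V) ⊗[k] (Fin b → W), u = ∑ i, ∑ j,
      TensorProduct.map (LinearMap.single k (fun _ : Fin a => V) i) (LinearMap.single k (fun _ : Fin b => W) j)
        (TensorProduct.map (LinearMap.proj (R := k) (φ := fun _ : Fin a => V) i)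
          (LinearMap.proj (R := k) (φ := fun _ : Fin b => W) j) u) := by
    intro u
    induction u using TensorProduct.induction_on with
    | zero => simp
    | add u v hu hv => conv_lhs => rw [hu, hv]
                       simp only [map_add, Finset.sum_add_distrib]
    | tmul f g =>
      simp only [TensorProduct.map_tmul, LinearMap.proj_apply, LinearMap.coe_single]
      simp only [← TensorProduct.tmul_sum, ← TensorProduct.sum_tmul, Finset.univ_sum_single]
  rw [key w]
  exact Finset.sum_eq_zero fun i _ => Finset.sum_eq_zero fun j _ => by rw [h i j, map_zero]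

variable {D : Datum 𝒜 ℬ 𝒯} (G : Gens D)

/-- Multiplication by the powers of the generators of the first factor. -/
def pows (x : Fin G.ER.num → R) (X : GrLC.GMod.{u} 𝒜) (d : ℤ) (N : ℕ) :
    kpiece 𝒜 X.gr d →ₗ[k] (Fin G.ER.num → X.carrier) :=
  LinearMap.pi fun i => (Algebra.lsmul k k X.carrier (x i ^ N)) ∘ₗ (kpiece 𝒜 X.gr d).subtype

/-- Multiplication by the powers of the generators of the second factor. -/
def pows' (y : Fin G.ES.num → S) (Y : GrLC.GMod.{u} ℬ) (d : ℤ) (N : ℕ) :
    kpiece ℬ Y.gr d →ₗ[k] (Fin G.ES.num → Y.carrier) :=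
  LinearMap.pi fun i => (Algebra.lsmul k k Y.carrier (y i ^ N)) ∘ₗ (kpiece ℬ Y.gr d).subtype

include G in
/-- Torsion in a piece of a Segre product. -/
theorem sgMk_mem_gam_iff {mR : Ideal R} (hmR : mR = posIdeal 𝒜) {mS : Ideal S} (hmS : mS = posIdeal ℬ)
    {mT : Ideal T} (hmT : mT = posIdeal 𝒯) (X : GrLC.GMod.{u} 𝒜) (Y : GrLC.GMod.{u} ℬ) (d : ℤ)
    (v : kpiece 𝒜 X.gr d ⊗[k] kpiece ℬ Y.gr d) :
    sgMk D X Y d v ∈ GrLC.gam mT (Sg D X Y) ↔
      TensorProduct.map (kgam mR X d).mkQ (kgam mS Y d).mkQ v = 0 := by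
  constructor
  · intro hv
    choose N hN using (G.mem_gam_T hmT).1 hv
    let c : ℕ := Finset.univ.sup fun p : Fin G.ER.num × Fin G.ES.num => N p.1 p.2
    have hc : ∀ i j, G.z i j ^ c • sgMk D X Y d v = 0 := fun i j => by
      obtain ⟨e, he⟩ := Nat.exists_eq_add_of_le (Finset.le_sup (f := fun p : Fin G.ER.num × Fin G.ES.num => N p.1 p.2)
        (Finset.mem_univ (i, j)))
      rw [show c = N i j + e from he, add_comm, pow_add, mul_smul, hN, smul_zero]
    have h0 : TensorProduct.map (pows G G.ER.x X d c) (pows' G G.ES.x Y d c) v = 0 := by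
      refine eq_zero_of_proj _ fun i j => ?_
      have h1 := congrArg (sval D X Y) (hc i j)
      rw [map_zero, sval_smul, G.ψ_z_pow, sval_sgMk] at h1
      rw [← h1]
      clear h1 hv hc hN
      induction v using TensorProduct.induction_on with
      | zero => simp
      | add p q hp hq => simp only [map_add, hp, hq]
      | tmul p q => rw [emb_tmul, GrSeg.act_tmul]; rfl
    have hfac : ∀ {V V' : Type u} [AddCommGroup V] [Module k V] [AddCommGroup V'] [Module k V'] (f : V →ₗ[k] V')
        (K : Submodule k V), LinearMap.ker f ≤ K → ∃ L : V' →ₗ[k] V ⧸ K, L ∘ₗ f = K.mkQ := by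
      intro V V' _ _ _ _ f K hK
      obtain ⟨r, hr⟩ := Submodule.exists_isCompl (LinearMap.range f)
      let e := f.quotKerEquivRange
      refine ⟨Submodule.liftQ _ K.mkQ (by rwa [Submodule.ker_mkQ]) ∘ₗ e.symm.toLinearMap ∘ₗ
        Submodule.projectionOnto (LinearMap.range f) r hr, LinearMap.ext fun x => ?_⟩
      rw [LinearMap.comp_apply, LinearMap.comp_apply, LinearMap.comp_apply,
        show Submodule.projectionOnto (LinearMap.range f) r hr (f x) = ⟨f x, LinearMap.mem_range_self f x⟩ from
          Submodule.projectionOnto_apply_left hr ⟨f x, LinearMap.mem_range_self f x⟩,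
        LinearEquiv.coe_toLinearMap, show e.symm ⟨f x, LinearMap.mem_range_self f x⟩ = Submodule.Quotient.mk x from
          (LinearEquiv.symm_apply_eq _).2 rfl]
      rfl
    obtain ⟨L, hL⟩ := hfac (pows G G.ER.x X d c) (kgam mR X d) fun x hx => (G.mem_gam_R hmR).2 fun i =>
      ⟨c, congrFun (hx : pows G G.ER.x X d c x = 0) i⟩
    obtain ⟨L', hL'⟩ := hfac (pows' G G.ES.x Y d c) (kgam mS Y d) fun x hx => (G.mem_gam_S hmS).2 fun i =>
      ⟨c, congrFun (hx : pows' G G.ES.x Y d c x = 0) i⟩
    rw [← hL, ← hL', TensorProduct.map_comp, LinearMap.comp_apply, h0, map_zero]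
  · intro hv
    have hv' : v ∈ LinearMap.ker (TensorProduct.map (kgam mR X d).mkQ (kgam mS Y d).mkQ) := hv
    rw [TensorProduct.map_ker (LinearMap.exact_subtype_mkQ _) (kgam mR X d).mkQ_surjective
      (LinearMap.exact_subtype_mkQ _) (kgam mS Y d).mkQ_surjective] at hv'
    obtain ⟨v₁, ⟨u₁, rfl⟩, v₂, ⟨u₂, rfl⟩, rfl⟩ := Submodule.mem_sup.1 hv'
    clear hv hv'
    rw [map_add]
    refine add_mem ?_ ?_
    · induction u₁ using TensorProduct.induction_on with
      | zero => simp
      | add p q hp hq => rw [map_add, map_add]; exact add_mem hp hq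
      | tmul x y =>
        rw [LinearMap.lTensor_tmul]
        refine (G.mem_gam_T hmT).2 fun i j => ?_
        obtain ⟨N, hN⟩ := (G.mem_gam_S hmS).1 (mem_kgam.1 y.2) j
        refine ⟨N, sval_injective D X Y ?_⟩
        rw [ten_pow_eq]
        exact (congrArg _ hN).trans ((TensorProduct.tmul_zero _ _).trans (map_zero _).symm)
    · induction u₂ using TensorProduct.induction_on with
      | zero => simp
      | add p q hp hq => rw [map_add, map_add]; exact add_mem hp hq
      | tmul x y =>
        rw [LinearMap.rTensor_tmul]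
        refine (G.mem_gam_T hmT).2 fun i j => ?_
        obtain ⟨N, hN⟩ := (G.mem_gam_R hmR).1 (mem_kgam.1 x.2) i
        refine ⟨N, sval_injective D X Y ?_⟩
        rw [ten_pow_eq]
        exact (congrArg (fun t => t ⊗ₜ[k] _) hN).trans ((TensorProduct.zero_tmul _ _).trans (map_zero _).symm)

end Groth.Agent.SegreLC
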