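import Groth.Agent.SegreLC.PieceCx
import Groth.Agent.GrLCVeronese.Compare

/-!
The Segre product of two injective resolutions is an acyclic resolution of the Segre product.
-/

set_option autoImplicit false
set_option linter.unusedSectionVars false
set_option linter.style.haveILetI false
set_option backward.isDefEq.respectTransparency false
set_option backward.isDefEq.respectTransparency.types false
universe u

open scoped Classical TensorProduct
open DirectSum CategoryTheory Groth.Agent.GrLCLib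

noncomputable section

namespace Groth.Agent.SegreLC

section Pi

variable {A : Type u} [CommRing A] {ι : Type} [Fintype ι] [DecidableEq ι] {W : ι → Type u}
  [∀ i, AddCommGroup (W i)] [∀ i, Module A (W i)]

/-- Finite products of acyclic modules are acyclic. -/
theorem acy_pi [IsNoetherianRing A] {I : Ideal A} (h : ∀ i, Acy I (W i)) : Acy I (∀ i, W i) := fun q => by
  let p : ∀ i, ModuleCat.of A (∀ i, W i) ⟶ ModuleCat.of A (W i) := fun i => ModuleCat.ofHom (LinearMap.proj i)
  let e : ∀ i, ModuleCat.of A (W i) ⟶ ModuleCat.of A (∀ i, W i) := fun i => ModuleCat.ofHom (LinearMap.single A W i)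
  have hid : 𝟙 (ModuleCat.of A (∀ i, W i)) = ∑ i, p i ≫ e i := by
    refine ModuleCat.hom_ext (LinearMap.ext fun f => ?_)
    rw [ModuleCat.hom_sum, LinearMap.sum_apply]
    exact (Finset.univ_sum_single f).symm
  refine subsingleton_of_forall_eq 0 fun x => ?_
  have h1 := congrArg (fun φ => φ.hom x) ((localCohomology I (q + 1)).map_id (ModuleCat.of A (∀ i, W i)))
  rw [hid, Functor.map_sum, ModuleCat.hom_sum, LinearMap.sum_apply] at h1
  refine h1.symm.trans (Finset.sum_eq_zero fun j _ => ?_)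
  rw [Functor.map_comp]
  show (localCohomology I (q + 1)).map (e j) ((localCohomology I (q + 1)).map (p j) x) = 0
  rw [(h j q).elim ((localCohomology I (q + 1)).map (p j) x) 0, map_zero]

variable (gr : ∀ i, ℤ → AddSubgroup (W i)) [∀ i, DirectSum.Decomposition (gr i)]

/-- The pieces of a finite product. -/
def piPiece (d : ℤ) : AddSubgroup (∀ i, W i) where
  carrier := {f | ∀ i, f i ∈ gr i d}
  add_mem' ha hb i := add_mem (ha i) (hb i)
  zero_mem' i := zero_mem _
  neg_mem' ha i := neg_mem (ha i)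

lemma single_mem_piPiece {i : ι} {d : ℤ} {x : W i} (hx : x ∈ gr i d) : Pi.single i x ∈ piPiece gr d := fun j => by
  by_cases h : j = i
  · subst h; rw [Pi.single_eq_same]; exact hx
  · rw [Pi.single_eq_of_ne h]; exact zero_mem _

theorem isInternal_piPiece : DirectSum.IsInternal (piPiece gr) := by
  have key : ∀ (w : ⨁ d, piPiece gr d) (i : ι) (d : ℤ),
      pr (gr i) d (DirectSum.coeAddMonoidHom (piPiece gr) w i) = (w d : ∀ i, W i) i := by
    intro w i d
    induction w using DirectSum.induction_on with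
    | zero => simp
    | of e v =>
      rw [DirectSum.coeAddMonoidHom_of]
      by_cases h : e = d
      · subst h; rw [DirectSum.of_eq_same, pr_of_mem (gr i) (v.2 i)]
      · rw [DirectSum.of_eq_of_ne _ _ _ (Ne.symm h), pr_of_mem_ne (gr i) (v.2 i) h]
        rfl
    | add a b ha hb => simp only [map_add, Pi.add_apply, DirectSum.add_apply, AddSubgroup.coe_add, ha, hb]
  refine ⟨fun a b h => DFinsupp.ext fun d => Subtype.ext (funext fun i => ?_), fun f => ?_⟩
  · rw [← key a i d, ← key b i d, h]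
  · suffices h : ∀ i (x : W i), ∃ a, DirectSum.coeAddMonoidHom (piPiece gr) a = Pi.single i x by
      choose a ha using fun i => h i (f i)
      exact ⟨∑ i, a i, by rw [map_sum, Finset.sum_congr rfl fun i _ => ha i, Finset.univ_sum_single]⟩
    intro i x
    induction x using DirectSum.Decomposition.inductionOn (gr i) with
    | zero => exact ⟨0, by rw [map_zero, Pi.single_zero]⟩
    | @homogeneous d x =>
      exact ⟨DirectSum.of (fun d => piPiece gr d) d ⟨_, single_mem_piPiece gr x.2⟩, DirectSum.coeAddMonoidHom_of _ _ _⟩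
    | add u v hu hv =>
      obtain ⟨a, ha⟩ := hu; obtain ⟨b, hb⟩ := hv
      exact ⟨a + b, by rw [map_add, ha, hb, Pi.single_add]⟩

end Pi

variable {k : Type u} [Field k] {R : Type u} [CommRing R] [Algebra k R] {S : Type u} [CommRing S] [Algebra k S]
  {T : Type u} [CommRing T] [Algebra k T] {𝒜 : ℤ → Submodule k R} [GradedAlgebra 𝒜]
  {ℬ : ℤ → Submodule k S} [GradedAlgebra ℬ] {𝒯 : ℤ → Submodule k T} [GradedAlgebra 𝒯]
  (D : Datum 𝒜 ℬ 𝒯)
variable {M : Type u} [AddCommGroup M] [Module R M] [Module k M] [IsScalarTower k R M]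
  {τ : Type u} [SetLike τ M] [AddSubgroupClass τ M] {ℳ : ℤ → τ} [DirectSum.Decomposition ℳ] [SetLike.GradedSMul 𝒜 ℳ]
  {N : Type u} [AddCommGroup N] [Module S N] [Module k N] [IsScalarTower k S N]
  {τ' : Type u} [SetLike τ' N] [AddSubgroupClass τ' N] {𝒩 : ℤ → τ'} [DirectSum.Decomposition 𝒩] [SetLike.GradedSMul ℬ 𝒩]
  (E : GrLC.StarInjRes 𝒜 ℳ) (F : GrLC.StarInjRes ℬ 𝒩)

lemma segMap_comp_apply {X X' X'' : GrLC.GMod.{u} 𝒜} {Y Y' Y'' : GrLC.GMod.{u} ℬ}
    {f : X.carrier →ₗ[R] X'.carrier} (hf : GrLC.IsGrHom X.gr X'.gr f) {f' : X'.carrier →ₗ[R] X''.carrier}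
    (hf' : GrLC.IsGrHom X'.gr X''.gr f') {g : Y.carrier →ₗ[S] Y'.carrier} (hg : GrLC.IsGrHom Y.gr Y'.gr g)
    {g' : Y'.carrier →ₗ[S] Y''.carrier} (hg' : GrLC.IsGrHom Y'.gr Y''.gr g') (w : Sg D X Y) :
    segMap D f' hf' g' hg' (segMap D f hf g hg w) =
      segMap D (f' ∘ₗ f) (fun e x hx => hf' e _ (hf e x hx)) (g' ∘ₗ g) (fun e x hx => hg' e _ (hg e x hx)) w := by
  refine sval_injective D X'' Y'' ?_
  rw [sval_segMap, sval_segMap, sval_segMap, ← LinearMap.comp_apply, ← TensorProduct.map_comp]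
  rfl

lemma segMap_zero_left {X X' : GrLC.GMod.{u} 𝒜} {Y Y' : GrLC.GMod.{u} ℬ} {f : X.carrier →ₗ[R] X'.carrier}
    (hf : GrLC.IsGrHom X.gr X'.gr f) {g : Y.carrier →ₗ[S] Y'.carrier} (hg : GrLC.IsGrHom Y.gr Y'.gr g)
    (h : f = 0) (w : Sg D X Y) : segMap D f hf g hg w = 0 := by
  refine sval_injective D X' Y' ?_
  subst h
  rw [sval_segMap, show kLin (k := k) (0 : X.carrier →ₗ[R] X'.carrier) = 0 from rfl, TensorProduct.map_zero_left,
    LinearMap.zero_apply, map_zero]

lemma segMap_zero_right {X X' : GrLC.GMod.{u} 𝒜} {Y Y' : GrLC.GMod.{u} ℬ} {f : X.carrier →ₗ[R] X'.carrier}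
    (hf : GrLC.IsGrHom X.gr X'.gr f) {g : Y.carrier →ₗ[S] Y'.carrier} (hg : GrLC.IsGrHom Y.gr Y'.gr g)
    (h : g = 0) (w : Sg D X Y) : segMap D f hf g hg w = 0 := by
  refine sval_injective D X' Y' ?_
  subst h
  rw [sval_segMap, show kLin (k := k) (0 : Y.carrier →ₗ[S] Y'.carrier) = 0 from rfl, TensorProduct.map_zero_right,
    LinearMap.zero_apply, map_zero]

/-- The double complex of Segre products. -/
abbrev sbi : BiCx T where
  W i j := Sg D (E.X i) (F.X j)
  dh i j := segMap D (E.d i) (E.d_grHom i) (LinearMap.id : (F.X j).carrier →ₗ[S] _) (id_grHom (F.X j))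
  dv i j := segMap D (LinearMap.id : (E.X i).carrier →ₗ[R] _) (id_grHom (E.X i)) (F.d j) (F.d_grHom j)
  hh i j w := by
    rw [segMap_comp_apply]
    exact segMap_zero_left D _ _ (LinearMap.ext (GrLCLib.d_d E i)) w
  vv i j w := by
    rw [segMap_comp_apply]
    exact segMap_zero_right D _ _ (LinearMap.ext (GrLCLib.d_d F j)) w
  hv i j w := by
    rw [segMap_comp_apply, segMap_comp_apply]
    rfl

/-- The pieces of the total complex. -/
def totPiece (n : ℕ) : ℤ → AddSubgroup ((sbi D E F).Tot n) :=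
  piPiece fun p : BiCx.Idx n => sgPiece D (E.X p.1.1) (F.X p.1.2)

instance (n : ℕ) : DirectSum.Decomposition (totPiece D E F n) :=
  (isInternal_piPiece fun p : BiCx.Idx n => sgPiece D (E.X p.1.1) (F.X p.1.2)).chooseDecomposition

instance (n : ℕ) : SetLike.GradedSMul 𝒯 (totPiece D E F n) :=
  ⟨fun {_ _ _ x} ht hx p => GrLCLib.smul_mem 𝒯 (sgPiece D (E.X p.1.1) (F.X p.1.2)) ht (hx p)⟩

/-- The total complex as graded objects. -/
def totObj (n : ℕ) : GrLC.GMod.{u} 𝒯 := GrLC.GMod.of 𝒯 ((sbi D E F).Tot n) (totPiece D E F n)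

/-- The piece of the total complex, from the tensor product of the pieces. -/
def iotaTot (d : ℤ) (n : ℕ) : (tensorBi (cxPiece E d) (cxPiece F d)).Tot n →ₗ[k] (sbi D E F).Tot n :=
  LinearMap.pi fun p => sgMk D (E.X p.1.1) (F.X p.1.2) d ∘ₗ LinearMap.proj p

lemma iotaTot_apply {d : ℤ} {n : ℕ} (x : (tensorBi (cxPiece E d) (cxPiece F d)).Tot n) (p : BiCx.Idx n) :
    iotaTot D E F d n x p = sgMk D (E.X p.1.1) (F.X p.1.2) d (x p) := rfl

lemma iotaTot_injective (d : ℤ) (n : ℕ) : Function.Injective (iotaTot D E F d n) := fun _ _ h =>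
  funext fun p => sgMk_injective D _ _ d (congrFun h p)

lemma iotaTot_mem (d : ℤ) (n : ℕ) (x : (tensorBi (cxPiece E d) (cxPiece F d)).Tot n) :
    iotaTot D E F d n x ∈ totPiece D E F n d := fun p => sgMk_mem D _ _ d (x p)

lemma exists_iotaTot {d : ℤ} {n : ℕ} {x : (sbi D E F).Tot n} (hx : x ∈ totPiece D E F n d) :
    ∃ v, iotaTot D E F d n v = x := by
  choose v hv using fun p : BiCx.Idx n => exists_sgMk D (E.X p.1.1) (F.X p.1.2) (hx p)
  exact ⟨v, funext hv⟩

lemma iotaTot_inc {d : ℤ} {n i j : ℕ} (h : i + j = n) (w : (tensorBi (cxPiece E d) (cxPiece F d)).W i j) :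
    iotaTot D E F d n ((tensorBi (cxPiece E d) (cxPiece F d)).inc i j h w) =
      (sbi D E F).inc i j h (sgMk D (E.X i) (F.X j) d w) := by
  funext p
  rw [iotaTot_apply]
  by_cases hp : p.1 = (i, j)
  · obtain ⟨⟨i', j'⟩, h'⟩ := p
    obtain ⟨rfl, rfl⟩ : i' = i ∧ j' = j := Prod.mk.inj hp
    rw [BiCx.inc_apply_same, BiCx.inc_apply_same]
  · rw [BiCx.inc_apply_ne _ _ _ hp, BiCx.inc_apply_ne _ _ _ hp]
    exact map_zero _

lemma sgn_smul {V : Type u} [AddCommGroup V] [Module T V] [Module k V] [IsScalarTower k T V] (i : ℕ) (v : V) :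
    (BiCx.sgn i : T) • v = (BiCx.sgn i : k) • v := by
  rw [← algebraMap_smul T (BiCx.sgn i : k) v]
  simp [BiCx.sgn]

lemma iotaTot_totD {d : ℤ} {n : ℕ} (x : (tensorBi (cxPiece E d) (cxPiece F d)).Tot n) :
    iotaTot D E F d (n + 1) ((tensorBi (cxPiece E d) (cxPiece F d)).totD n x) =
      (sbi D E F).totD n (iotaTot D E F d n x) := by
  have key : iotaTot D E F d (n + 1) ∘ₗ (tensorBi (cxPiece E d) (cxPiece F d)).totD n =
      ((sbi D E F).totD n).restrictScalars k ∘ₗ iotaTot D E F d n := by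
    refine (tensorBi (cxPiece E d) (cxPiece F d)).tot_ext fun i j h w => ?_
    rw [LinearMap.comp_apply, LinearMap.comp_apply, BiCx.totD_inc, map_add, map_smul, iotaTot_inc, iotaTot_inc,
      iotaTot_inc, LinearMap.restrictScalars_apply, BiCx.totD_inc, sgn_smul (k := k) (T := T)]
    congr 2
    · exact (segMap_sgMk D (E.d i) (E.d_grHom i) LinearMap.id (id_grHom (F.X j)) d w).symm
    · exact congrArg _ (segMap_sgMk D LinearMap.id (id_grHom (E.X i)) (F.d j) (F.d_grHom j) d w).symm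
  exact LinearMap.congr_fun key x

lemma totD_grHom (n : ℕ) : GrLC.IsGrHom (totObj D E F n).gr (totObj D E F (n + 1)).gr ((sbi D E F).totD n) := by
  intro d x hx
  obtain ⟨v, rfl⟩ := exists_iotaTot D E F hx
  rw [← iotaTot_totD]
  exact iotaTot_mem D E F d (n + 1) _

lemma subsingleton_coh_tensorTot (d : ℤ) (n : ℕ) :
    Subsingleton ((tensorTot (cxPiece E d) (cxPiece F d)).Coh (n + 1)) := by
  refine (kunneth _ _ (n + 1)).toEquiv.subsingleton_congr.2 ?_
  refine @Pi.instSubsingleton _ _ fun p => ?_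
  obtain ⟨⟨i, j⟩, h⟩ := p
  cases i with
  | succ i =>
    haveI := subsingleton_coh_cxPiece E d i
    exact inferInstanceAs (Subsingleton (_ ⊗[k] _))
  | zero =>
    cases j with
    | succ j =>
      haveI := subsingleton_coh_cxPiece F d j
      exact inferInstanceAs (Subsingleton (_ ⊗[k] _))
    | zero => simp at h

lemma exact_tensorTot (d : ℤ) (n : ℕ) :
    (tensorTot (cxPiece E d) (cxPiece F d)).Z (n + 1) ≤ (tensorTot (cxPiece E d) (cxPiece F d)).B (n + 1) :=
  ((tensorTot (cxPiece E d) (cxPiece F d)).subsingleton_coh_iff _).1 (subsingleton_coh_tensorTot E F d n)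

/-- The augmentation in a piece of the tensor product. -/
def epsTot (d : ℤ) : kpiece 𝒜 ℳ d ⊗[k] kpiece ℬ 𝒩 d →ₗ[k] (tensorBi (cxPiece E d) (cxPiece F d)).Tot 0 :=
  (tensorBi (cxPiece E d) (cxPiece F d)).inc 0 0 rfl ∘ₗ TensorProduct.map (epsPiece E d) (epsPiece F d)

lemma epsTot_injective (d : ℤ) : Function.Injective (epsTot E F d) := fun a b h => by
  refine TensorProduct.map_injective_of_flat_flat _ _ (epsPiece_injective E d) (epsPiece_injective F d) ?_
  have := congrFun h ⟨(0, 0), rfl⟩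
  have h1 : ∀ c, epsTot E F d c ⟨(0, 0), rfl⟩ = TensorProduct.map (epsPiece E d) (epsPiece F d) c := fun c =>
    BiCx.inc_apply_same (tensorBi (cxPiece E d) (cxPiece F d)) (n := 0) (i := 0) (j := 0) rfl _
  exact ((h1 a).symm.trans this).trans (h1 b)

lemma range_epsTot (d : ℤ) : LinearMap.range (epsTot E F d) = (tensorTot (cxPiece E d) (cxPiece F d)).Z 0 := by
  refine le_antisymm ?_ fun z hz => ?_
  · rintro _ ⟨w, rfl⟩
    induction w using TensorProduct.induction_on with
    | zero => rw [map_zero]; exact zero_mem _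
    | add u v hu hv => rw [map_add]; exact add_mem hu hv
    | tmul x y =>
      show (tensorBi (cxPiece E d) (cxPiece F d)).totD 0 (ten _ _ 0 0 rfl (epsPiece E d x) (epsPiece F d y)) = 0
      rw [totD_ten, show (cxPiece E d).d 0 (epsPiece E d x) = 0 from (range_epsPiece E d).le ⟨x, rfl⟩,
        show (cxPiece F d).d 0 (epsPiece F d y) = 0 from (range_epsPiece F d).le ⟨y, rfl⟩, ten_zero_left,
        ten_zero_right, smul_zero, add_zero]
  · have hs : ∀ (V : Cx k) {W : Type u} [AddCommGroup W] [Module k W] (ε : W →ₗ[k] V.V 0),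
        LinearMap.range ε = V.Z 0 → Function.Surjective (V.q 0 ∘ₗ ε) := fun V W _ _ ε hε y => by
      obtain ⟨⟨z, hz⟩, rfl⟩ := V.cls_surjective 0 y
      obtain ⟨w, rfl⟩ := hε.ge hz
      exact ⟨w, V.q_of_mem ⟨ε w, hz⟩⟩
    obtain ⟨w, hw⟩ := TensorProduct.map_surjective (hs _ _ (range_epsPiece E d)) (hs _ _ (range_epsPiece F d))
      (kunnethZ (cxPiece E d) (cxPiece F d) 0 ⟨z, hz⟩ ⟨(0, 0), rfl⟩)
    have hεZ : epsTot E F d w ∈ (tensorTot (cxPiece E d) (cxPiece F d)).Z 0 := by
      clear hw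
      induction w using TensorProduct.induction_on with
      | zero => rw [map_zero]; exact zero_mem _
      | add u v hu hv => rw [map_add]; exact add_mem hu hv
      | tmul x y =>
        show (tensorBi (cxPiece E d) (cxPiece F d)).totD 0 (ten _ _ 0 0 rfl (epsPiece E d x) (epsPiece F d y)) = 0
        rw [totD_ten, show (cxPiece E d).d 0 (epsPiece E d x) = 0 from (range_epsPiece E d).le ⟨x, rfl⟩,
          show (cxPiece F d).d 0 (epsPiece F d y) = 0 from (range_epsPiece F d).le ⟨y, rfl⟩, ten_zero_left,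
          ten_zero_right, smul_zero, add_zero]
    have hdiff : (⟨z, hz⟩ - ⟨_, hεZ⟩ : (tensorTot (cxPiece E d) (cxPiece F d)).Z 0).1 ∈
        (tensorTot (cxPiece E d) (cxPiece F d)).B 0 := by
      refine (kunnethZ_eq_zero_iff _ _ _).1 ?_
      suffices e : kunnethZ (cxPiece E d) (cxPiece F d) 0 ⟨z, hz⟩ = kunnethZ (cxPiece E d) (cxPiece F d) 0 ⟨_, hεZ⟩ by
        rw [map_sub, e]
        exact sub_self (kunnethZ (cxPiece E d) (cxPiece F d) 0 ⟨_, hεZ⟩)
      funext p
      obtain ⟨⟨i, j⟩, h⟩ := p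
      obtain ⟨rfl, rfl⟩ : i = 0 ∧ j = 0 := by simp at h; omega
      rw [← hw, TensorProduct.map_comp, LinearMap.comp_apply]
      show _ = classes (cxPiece E d) (cxPiece F d) 0 (epsTot E F d w) ⟨(0, 0), h⟩
      rw [classes_apply, epsTot, LinearMap.comp_apply, BiCx.inc_apply_same]
    exact ⟨w, (sub_eq_zero.1 (hdiff : z - epsTot E F d w = 0)).symm⟩

variable {P : Type u} [AddCommGroup P] [Module T P] [Module k P] [IsScalarTower k T P]
  {υ : Type u} [SetLike υ P] [AddSubgroupClass υ P] {𝒬 : ℤ → υ} [DirectSum.Decomposition 𝒬]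
  [SetLike.GradedSMul 𝒯 𝒬] {φ : P →ₗ[k] M ⊗[k] N} (hP : GrSeg.IsSegreMod D.ψ ℳ 𝒩 𝒬 φ)

include hP in
lemma exists_piece_tensor {d : ℤ} {p : P} (hp : p ∈ 𝒬 d) :
    ∃ w : kpiece 𝒜 ℳ d ⊗[k] kpiece ℬ 𝒩 d,
      TensorProduct.map (kpiece 𝒜 ℳ d).subtype (kpiece ℬ 𝒩 d).subtype w = φ p := by
  have h : φ p ∈ GrSeg.segrePiece k ℳ 𝒩 d := (hP.image_piece d).le ⟨p, hp, rfl⟩
  refine (Submodule.span_le.2 ?_ h :
    φ p ∈ LinearMap.range (TensorProduct.map (kpiece 𝒜 ℳ d).subtype (kpiece ℬ 𝒩 d).subtype))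
  rintro _ ⟨x, hx, y, hy, rfl⟩
  exact ⟨(⟨x, hx⟩ : kpiece 𝒜 ℳ d) ⊗ₜ (⟨y, hy⟩ : kpiece ℬ 𝒩 d), rfl⟩

include hP in
lemma exists_of_piece_tensor {d : ℤ} (w : kpiece 𝒜 ℳ d ⊗[k] kpiece ℬ 𝒩 d) :
    ∃ p ∈ 𝒬 d, φ p = TensorProduct.map (kpiece 𝒜 ℳ d).subtype (kpiece ℬ 𝒩 d).subtype w := by
  refine (hP.image_piece d).ge ?_
  induction w using TensorProduct.induction_on with
  | zero => rw [map_zero]; exact zero_mem _
  | add u v hu hv => rw [map_add]; exact add_mem hu hv
  | tmul x y => exact Submodule.subset_span ⟨x.1, x.2, y.1, y.2, rfl⟩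

include hP in
lemma map_eps_mem (p : P) : TensorProduct.map (kLin (k := k) E.ε) (kLin (k := k) F.ε) (φ p) ∈
    segSub (E.X 0) (F.X 0) := by
  induction p using DirectSum.Decomposition.inductionOn 𝒬 with
  | zero => rw [map_zero, map_zero]; exact zero_mem _
  | @homogeneous d q =>
    obtain ⟨w, hw⟩ := exists_piece_tensor D hP q.2
    refine Submodule.mem_iSup_of_mem d ?_
    rw [← hw, ← range_emb, ← LinearMap.comp_apply, ← TensorProduct.map_comp]
    exact ⟨TensorProduct.map (epsPiece E d) (epsPiece F d) w, by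
      rw [emb, ← LinearMap.comp_apply, ← TensorProduct.map_comp]; rfl⟩
  | add a b ha hb => rw [map_add, map_add]; exact add_mem ha hb

/-- The augmentation into the Segre product of the first terms. -/
def epsSg : P →ₗ[T] Sg D (E.X 0) (F.X 0) where
  toFun p := ⟨_, map_eps_mem D E F hP p⟩
  map_add' a b := sval_injective D (E.X 0) (F.X 0) (by
    show TensorProduct.map (kLin (k := k) E.ε) (kLin (k := k) F.ε) (φ (a + b)) =
      TensorProduct.map (kLin (k := k) E.ε) (kLin (k := k) F.ε) (φ a) +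
        TensorProduct.map (kLin (k := k) E.ε) (kLin (k := k) F.ε) (φ b)
    rw [map_add, map_add])
  map_smul' t p := sval_injective D (E.X 0) (F.X 0) (by
    show TensorProduct.map (kLin (k := k) E.ε) (kLin (k := k) F.ε) (φ (t • p)) =
      GrSeg.act k R S _ _ (D.ψ t) (TensorProduct.map (kLin (k := k) E.ε) (kLin (k := k) F.ε) (φ p))
    rw [hP.map_smul, map_act])

lemma sval_epsSg (p : P) : sval D (E.X 0) (F.X 0) (epsSg D E F hP p) =
    TensorProduct.map (kLin (k := k) E.ε) (kLin (k := k) F.ε) (φ p) := rfl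

lemma epsSg_of_piece {d : ℤ} {p : P} {w : kpiece 𝒜 ℳ d ⊗[k] kpiece ℬ 𝒩 d}
    (hw : TensorProduct.map (kpiece 𝒜 ℳ d).subtype (kpiece ℬ 𝒩 d).subtype w = φ p) :
    epsSg D E F hP p = sgMk D (E.X 0) (F.X 0) d (TensorProduct.map (epsPiece E d) (epsPiece F d) w) := by
  refine sval_injective D (E.X 0) (F.X 0) ?_
  rw [sval_epsSg, sval_sgMk, ← hw, emb, ← LinearMap.comp_apply, ← TensorProduct.map_comp, ← LinearMap.comp_apply,
    ← TensorProduct.map_comp]
  rfl

/-- The augmentation of the total complex. -/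
def epsP : P →ₗ[T] (sbi D E F).Tot 0 := (sbi D E F).inc 0 0 rfl ∘ₗ epsSg D E F hP

lemma epsP_of_piece {d : ℤ} {p : P} {w : kpiece 𝒜 ℳ d ⊗[k] kpiece ℬ 𝒩 d}
    (hw : TensorProduct.map (kpiece 𝒜 ℳ d).subtype (kpiece ℬ 𝒩 d).subtype w = φ p) :
    epsP D E F hP p = iotaTot D E F d 0 (epsTot E F d w) := by
  rw [epsP, LinearMap.comp_apply, epsSg_of_piece D E F hP hw, epsTot, LinearMap.comp_apply]
  exact (iotaTot_inc D E F rfl _).symm

include hP in
lemma range_epsP : LinearMap.ker ((sbi D E F).totD 0) = LinearMap.range (epsP D E F hP) := by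
  refine le_antisymm (fun z hz => ?_) ?_
  · refine GrLCLib.mem_of_pr_mem (totPiece D E F 0) (K := LinearMap.range (epsP D E F hP)) fun d => ?_
    have hzd := GrLCLib.homog_ker (totPiece D E F 0) (totPiece D E F 1) (totD_grHom D E F 0) z hz d
    obtain ⟨v, hv⟩ := exists_iotaTot D E F (pr_mem (totPiece D E F 0) d z)
    have hv0 : (tensorBi (cxPiece E d) (cxPiece F d)).totD 0 v = 0 := iotaTot_injective D E F d 1 (by
      rw [iotaTot_totD, hv, map_zero]; exact hzd)
    obtain ⟨w, rfl⟩ := (range_epsTot E F d).ge hv0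
    obtain ⟨p, hp, hpw⟩ := exists_of_piece_tensor D hP w
    exact ⟨p, (epsP_of_piece D E F hP hpw.symm).trans hv⟩
  · rintro _ ⟨p, rfl⟩
    show (sbi D E F).totD 0 (epsP D E F hP p) = 0
    induction p using DirectSum.Decomposition.inductionOn 𝒬 with
    | zero => rw [map_zero, map_zero]
    | @homogeneous d q =>
      obtain ⟨w, hw⟩ := exists_piece_tensor D hP q.2
      rw [epsP_of_piece D E F hP hw, ← iotaTot_totD]
      have h0 : (tensorBi (cxPiece E d) (cxPiece F d)).totD 0 (epsTot E F d w) = 0 :=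
        (range_epsTot E F d).le ⟨w, rfl⟩
      rw [h0, map_zero]
    | add a b ha hb => rw [map_add, map_add, ha, hb, add_zero]

lemma range_totD (n : ℕ) : LinearMap.ker ((sbi D E F).totD (n + 1)) = LinearMap.range ((sbi D E F).totD n) := by
  refine le_antisymm (fun z hz => ?_) ?_
  · refine GrLCLib.mem_of_pr_mem (totPiece D E F (n + 1)) (K := LinearMap.range ((sbi D E F).totD n)) fun d => ?_
    have hzd := GrLCLib.homog_ker (totPiece D E F (n + 1)) (totPiece D E F (n + 2)) (totD_grHom D E F (n + 1)) z hz d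
    obtain ⟨v, hv⟩ := exists_iotaTot D E F (pr_mem (totPiece D E F (n + 1)) d z)
    have hv0 : (tensorBi (cxPiece E d) (cxPiece F d)).totD (n + 1) v = 0 := iotaTot_injective D E F d (n + 2) (by
      rw [iotaTot_totD, hv, map_zero]; exact hzd)
    obtain ⟨y, hy⟩ := exact_tensorTot E F d n hv0
    refine ⟨iotaTot D E F d n y, ?_⟩
    rw [← iotaTot_totD, ← hv]
    exact congrArg _ hy
  · rintro _ ⟨x, rfl⟩
    exact (sbi D E F).totD_totD n x

/-- The Segre product of two resolutions, as an acyclic resolution. -/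
def totRes (G : Gens D) (mT : HomogeneousIdeal 𝒯) (hmT : mT.toIdeal = posIdeal 𝒯) :
    GrLCVeronese.AcyRes 𝒬 mT where
  X n := totObj D E F n
  d n := (sbi D E F).totD n
  ε := epsP D E F hP
  d_grHom n := totD_grHom D E F n
  ε_grHom d p hp := by
    obtain ⟨w, hw⟩ := exists_piece_tensor D hP hp
    show epsP D E F hP p ∈ totPiece D E F 0 d
    rw [epsP_of_piece D E F hP hw]
    exact iotaTot_mem D E F d 0 _
  ε_injective p q h := by
    refine hP.injective (TensorProduct.map_injective_of_flat_flat (kLin (k := k) E.ε) (kLin (k := k) F.ε)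
      E.ε_injective F.ε_injective ?_)
    have h1 := congrFun h ⟨(0, 0), rfl⟩
    simp only [epsP, BiCx.inc_apply_same] at h1
    exact congrArg (sval D (E.X 0) (F.X 0)) h1
  exact_zero := range_epsP D E F hP
  exact_succ n := range_totD D E F n
  acyclic n i := by
    haveI := G.noethT
    exact acy_pi (fun p => acy_sg G hmT (E.X p.1.1) (E.starInj _) (F.X p.1.2) (F.starInj _)) i

end Groth.Agent.SegreLC
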